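import Mathlib.RingTheory.AdicCompletion.Basic
import Mathlib.RingTheory.Noetherian.Basic
import Mathlib.RingTheory.Finiteness.Basic

/-!
# Towers of finite modules over a complete ring
-/

set_option linter.unusedSectionVars false

universe u v

open scoped BigOperators

namespace Groth.Agent.H78.Formal.Tower

variable {R : Type u} [CommRing R] (I : Ideal R)
variable {M : ℕ → Type v} [∀ n, AddCommGroup (M n)] [∀ n, Module R (M n)]
variable (f : ∀ n, M (n + 1) →ₗ[R] M n)

/-- The compatible sequences. -/
def limMod : Submodule R (∀ n, M n) where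
  carrier := {x | ∀ n, f n (x (n + 1)) = x n}
  add_mem' hx hy n := by simp [hx n, hy n]
  zero_mem' n := map_zero _
  smul_mem' r x hx n := by simp [hx n]

@[simp] lemma mem_limMod {x : ∀ n, M n} : x ∈ limMod f ↔ ∀ n, f n (x (n + 1)) = x n := Iff.rfl

/-- The projection to the `n`-th term. -/
def proj (n : ℕ) : limMod f →ₗ[R] M n := (LinearMap.proj n).comp (limMod f).subtype

@[simp] lemma proj_apply (n : ℕ) (x : limMod f) : proj f n x = (x : ∀ n, M n) n := rfl

lemma proj_succ (n : ℕ) (x : limMod f) : f n (proj f (n + 1) x) = proj f n x := x.2 n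

lemma exists_mem_limMod (hf : ∀ n, Function.Surjective (f n)) (n : ℕ) (y : M n) :
    ∃ x : limMod f, proj f n x = y := by
  induction n with
  | zero =>
    choose g hg using hf
    let x : ∀ n, M n := fun n => Nat.rec (motive := M) y (fun n z => g n z) n
    exact ⟨⟨x, fun n => hg n (x n)⟩, rfl⟩
  | succ n ih =>
    obtain ⟨x, hx⟩ := ih (f n y)
    choose g hg using hf
    -- keep the first `n` terms of `x`, then lift `y`
    let z : ∀ m, M m := fun m => Nat.rec (motive := M) (x.1 0)
      (fun m w => if h : m = n then h ▸ y else if m < n then x.1 (m + 1) else g m w) m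
    have hz : ∀ m, m ≤ n → z m = x.1 m := by
      intro m hm
      cases m with
      | zero => rfl
      | succ m =>
        change (if h : m = n then _ else _) = _
        rw [dif_neg (by omega), if_pos (by omega)]
    refine ⟨⟨z, fun m => ?_⟩, ?_⟩
    · rcases lt_trichotomy m n with h | h | h
      · rw [hz _ h, hz _ h.le]; exact x.2 m
      · subst h
        change f m (if h : m = m then _ else _) = _
        rw [dif_pos rfl, hz m le_rfl]
        exact hx.symm
      · change f m (if h : m = n then _ else _) = _
        rw [dif_neg h.ne', if_neg (by omega)]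
        exact hg m _
    · change (if h : n = n then _ else _) = _
      rw [dif_pos rfl]

section Complete

variable [IsAdicComplete I R] (hk : ∀ n, I ^ (n + 1) • (⊤ : Submodule R (M n)) = ⊥)
variable (hf : ∀ n, Function.Surjective (f n))
variable (hker : ∀ n, LinearMap.ker (f n) = I ^ (n + 1) • (⊤ : Submodule R (M (n + 1))))
include hk

lemma smul_eq_zero_of_mem {n : ℕ} {a : R} (ha : a ∈ I ^ (n + 1)) (y : M n) : a • y = 0 := by
  rw [← Submodule.mem_bot R, ← hk n]
  exact Submodule.smul_mem_smul ha trivial

variable {r : ℕ} (g : Fin r → limMod f)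

/-- The combination with coefficients `c`, in degree `n`. -/
def comb (n : ℕ) : (Fin r → R) →ₗ[R] M n := Fintype.linearCombination R fun i => proj f n (g i)

omit hk in
lemma comb_succ (n : ℕ) (c : Fin r → R) : f n (comb f g (n + 1) c) = comb f g n c := by
  simp [comb, Fintype.linearCombination_apply, proj_succ, -proj_apply]

lemma comb_congr {n : ℕ} {c c' : Fin r → R} (h : ∀ i, c i - c' i ∈ I ^ (n + 1)) :
    comb f g n c = comb f g n c' := by
  rw [← sub_eq_zero, ← map_sub]
  simp only [comb, Fintype.linearCombination_apply, Pi.sub_apply]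
  exact Finset.sum_eq_zero fun i _ => smul_eq_zero_of_mem I hk (h i) _

include hker

/-- Generators in degree `0` generate in every degree. -/
lemma comb_surjective (hg : Function.Surjective (comb f g 0)) :
    ∀ n, Function.Surjective (comb f g n) := by
  intro n
  induction n with
  | zero => exact hg
  | succ n ih =>
    intro y
    obtain ⟨c, hc⟩ := ih (f n y)
    have hmem : y - comb f g (n + 1) c ∈ LinearMap.ker (f n) := by
      rw [LinearMap.mem_ker, map_sub, comb_succ, hc, sub_self]
    rw [hker] at hmem
    have : I ^ (n + 1) • (⊤ : Submodule R (M (n + 1))) ≤ LinearMap.range (comb f g (n + 1)) := by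
      rw [Submodule.smul_le]
      intro a ha z _
      obtain ⟨d, hd⟩ := ih (f n z)
      refine ⟨a • d, ?_⟩
      have h2 : z - comb f g (n + 1) d ∈ LinearMap.ker (f n) := by
        rw [LinearMap.mem_ker, map_sub, comb_succ, hd, sub_self]
      rw [hker] at h2
      rw [map_smul, eq_comm, ← sub_eq_zero, ← smul_sub, ← Submodule.mem_bot R, ← hk (n + 1)]
      have h3 : a • (z - comb f g (n + 1) d) ∈
          I ^ (n + 1) • I ^ (n + 1) • (⊤ : Submodule R (M (n + 1))) :=
        Submodule.smul_mem_smul ha h2
      rw [← Submodule.mul_smul, ← pow_add] at h3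
      exact Submodule.smul_mono_left (Ideal.pow_le_pow_right (by omega)) h3
    obtain ⟨d, hd⟩ := this hmem
    exact ⟨c + d, by rw [map_add, hd, add_sub_cancel]⟩

/-- Coefficients in one degree extend to coefficients in all degrees. -/
lemma exists_coeff (hg : ∀ n, Function.Surjective (comb f g n)) (x : limMod f) (m : ℕ)
    (c₀ : Fin r → R) (hc₀ : comb f g m c₀ = proj f m x) :
    ∃ c : Fin r → R, (∀ n, comb f g n c = proj f n x) ∧ ∀ i, c i - c₀ i ∈ I ^ (m + 1) := by
  have step : ∀ (j : ℕ) (c : Fin r → R), comb f g (m + j) c = proj f (m + j) x →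
      ∃ c' : Fin r → R, comb f g (m + j + 1) c' = proj f (m + j + 1) x ∧
        ∀ i, c' i - c i ∈ I ^ (m + j + 1) := by
    intro j c hc
    have hmem : proj f (m + j + 1) x - comb f g (m + j + 1) c ∈
        I ^ (m + j + 1) • (⊤ : Submodule R (M (m + j + 1))) := by
      rw [← hker, LinearMap.mem_ker, map_sub, proj_succ, comb_succ, hc, sub_self]
    have : I ^ (m + j + 1) • (⊤ : Submodule R (M (m + j + 1))) ≤
        (I ^ (m + j + 1) • (⊤ : Submodule R (Fin r → R))).map (comb f g (m + j + 1)) := by
      rw [Submodule.map_smul'', Submodule.map_top, LinearMap.range_eq_top.mpr (hg _)]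
    obtain ⟨d, hd, e⟩ := this hmem
    refine ⟨c + d, by rw [map_add, e, add_sub_cancel], fun i => ?_⟩
    have : I ^ (m + j + 1) • (⊤ : Submodule R (Fin r → R)) ≤
        Submodule.comap (LinearMap.proj (φ := fun _ : Fin r => R) i) (I ^ (m + j + 1)) :=
      Submodule.smul_le.mpr fun a ha v _ => Ideal.mul_mem_right _ _ ha
    rw [Pi.add_apply, add_sub_cancel_left]
    exact this hd
  let seq : ∀ j, {c : Fin r → R // comb f g (m + j) c = proj f (m + j) x} := fun j =>
    Nat.rec ⟨c₀, hc₀⟩ (fun j c => ⟨(step j c.1 c.2).choose, (step j c.1 c.2).choose_spec.1⟩) j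
  have hseq : ∀ j i, (seq (j + 1)).1 i - (seq j).1 i ∈ I ^ (m + j + 1) := fun j =>
    (step j (seq j).1 (seq j).2).choose_spec.2
  have hcauchy : ∀ j k, j ≤ k → ∀ i, (seq k).1 i - (seq j).1 i ∈ I ^ (m + j + 1) := by
    intro j k hjk i
    induction hjk with
    | refl => simp
    | @step k hjk ih =>
      rw [← sub_add_sub_cancel _ ((seq k).1 i) _]
      exact Ideal.add_mem _
        (Ideal.pow_le_pow_right (Nat.succ_le_succ (Nat.add_le_add_left hjk m)) (hseq k i)) ih
  have hlim : ∀ i, ∃ L : R, ∀ j, (seq j).1 i - L ∈ I ^ j := by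
    intro i
    obtain ⟨L, hL⟩ := IsPrecomplete.prec (I := I) (M := R) inferInstance
      (f := fun j => (seq j).1 i) fun {j k} hjk => by
        rw [SModEq.sub_mem, smul_eq_mul, Ideal.mul_top, ← neg_sub]
        exact neg_mem (Ideal.pow_le_pow_right (show j ≤ m + j + 1 by omega) (hcauchy j k hjk i))
    refine ⟨L, fun j => ?_⟩
    have h1 := hL j
    rw [SModEq.sub_mem, smul_eq_mul, Ideal.mul_top] at h1
    exact h1
  choose c hc using hlim
  have key : ∀ j i, c i - (seq j).1 i ∈ I ^ (m + j + 1) := fun j i => by
    have h1 := hc i (m + j + 1)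
    have h2 := hcauchy j (m + j + 1) (by omega) i
    have := Ideal.sub_mem _ h2 h1
    simpa using this
  refine ⟨c, fun n => ?_, fun i => key 0 i⟩
  have hm : comb f g (m + n) c = proj f (m + n) x :=
    (comb_congr I f hk g (key n)).trans (seq n).2
  have down : ∀ k, comb f g (k + 1) c = proj f (k + 1) x → comb f g k c = proj f k x := fun k hk => by
    rw [← comb_succ, hk, proj_succ]
  have : ∀ d k, k + d = m + n → comb f g k c = proj f k x := by
    intro d
    induction d with
    | zero => intro k hk; rw [add_zero] at hk; exact hk ▸ hm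
    | succ d ih => intro k hk; exact down k (ih (k + 1) (by omega))
  exact this m n (by omega)

include hf

/-- Over a complete ring the limit of a tower of finite modules is finite and induces the tower. -/
theorem limit_spec [Module.Finite R (M 0)] : Module.Finite R (limMod f) ∧
    (∀ n, Function.Surjective (proj f n)) ∧
      ∀ n, LinearMap.ker (proj f n) = I ^ (n + 1) • (⊤ : Submodule R (limMod f)) := by
  obtain ⟨r, s, hs⟩ := Module.Finite.exists_fin (R := R) (M := M 0)
  choose g hg using fun i => exists_mem_limMod f hf 0 (s i)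
  have h0 : Function.Surjective (comb f g 0) := by
    rw [← LinearMap.range_eq_top, comb, Fintype.range_linearCombination, ← hs]
    congr 2
    funext i
    exact hg i
  have hgn := comb_surjective I f hk hker g h0
  let φ : (Fin r → R) →ₗ[R] limMod f := Fintype.linearCombination R g
  have hφ : ∀ n c, proj f n (φ c) = comb f g n c := fun n c => by
    simp [φ, comb, Fintype.linearCombination_apply, -proj_apply]
  have hφs : Function.Surjective φ := by
    intro x
    obtain ⟨c₀, hc₀⟩ := h0 (proj f 0 x)
    obtain ⟨c, hc, -⟩ := exists_coeff I f hk hker g hgn x 0 c₀ hc₀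
    exact ⟨c, Subtype.ext (funext fun n => (hφ n c).trans (hc n))⟩
  refine ⟨Module.Finite.of_surjective φ hφs, fun n y => exists_mem_limMod f hf n y, fun n => ?_⟩
  refine le_antisymm (fun x hx => ?_) ?_
  · obtain ⟨c₀, rfl⟩ := hφs x
    obtain ⟨d, hd, hd'⟩ := exists_coeff I f hk hker g hgn 0 n c₀ (by
      rw [map_zero, ← hφ]; exact hx)
    have e : φ d = 0 := Subtype.ext (funext fun k => (hφ k d).trans ((hd k).trans (map_zero _)))
    rw [← sub_zero (φ c₀), ← e, ← map_sub]
    simp only [φ, Fintype.linearCombination_apply]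
    refine Submodule.sum_mem _ fun i _ => Submodule.smul_mem_smul ?_ trivial
    simpa using neg_mem (hd' i)
  · rw [Submodule.smul_le]
    intro a ha x _
    rw [LinearMap.mem_ker, map_smul]
    exact smul_eq_zero_of_mem I hk ha _

end Complete

end Groth.Agent.H78.Formal.Tower
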