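import Groth.Agent.H78.Formal.PullSys
import Groth.Agent.H78.Formal.Tower
import Groth.Agent.Lib.QCoh.Tilde

/-!
# Coherent formal modules on a complete affine scheme are completions
-/

set_option linter.style.haveILetI false

universe u

open CategoryTheory Limits AlgebraicGeometry Opposite TopologicalSpace

namespace Groth.Agent.H78.Formal.Algebraize

open Groth.Agent.Lib Groth.Agent.H78.Formal.Sections

section General

variable {A : Type u} [CommRing A] {X : Scheme.{u}} [X.Over (Spec (CommRingCat.of A))] {I : Ideal A}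
  {M : X.Modules} {G : ℕᵒᵖ ⥤ X.Modules}

/-- A compatible family exhibiting every term as `M / I^(n+1) M` identifies `G` with the completion. -/
theorem nonempty_completion_iso (u : ∀ n, M ⟶ G.obj (op n))
    (hu : ∀ n, u (n + 1) ≫ G.map (homOfLE (Nat.le_succ n)).op = u n)
    (hd : ∀ n, ∃ h : _root_.Formal.smulFamily (I ^ (n + 1)) M ≫ u n = 0,
      IsIso (cokernel.desc _ (u n) h)) :
    Nonempty (_root_.Formal.completion I M ≅ G) := by
  choose h hiso using hd
  let app : ∀ n, _root_.Formal.modPow I (n + 1) M ⟶ G.obj (op n) := fun n =>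
    cokernel.desc _ (u n) (h n)
  let β : _root_.Formal.completion I M ⟶ G := NatTrans.ofOpSequence app fun n => by
    simp only [_root_.Formal.completion, Functor.ofOpSequence_map_homOfLE_succ]
    refine coequalizer.hom_ext ?_
    change _root_.Formal.modPowπ I (n + 1 + 1) M ≫ _root_.Formal.modPowTrans I (n + 1) M ≫ app n =
      _root_.Formal.modPowπ I (n + 1 + 1) M ≫ app (n + 1) ≫ _
    rw [← Category.assoc, _root_.Formal.modPowπ_trans, ← Category.assoc]
    exact (cokernel.π_desc _ _ (h n)).trans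
      ((hu n).symm.trans (congrArg (· ≫ _) (cokernel.π_desc _ _ (h (n + 1))).symm))
  haveI : ∀ n, IsIso (β.app n) := fun n => hiso n.unop
  haveI := NatIso.isIso_of_isIso_app β
  exact ⟨asIso β⟩

/-- Isomorphic modules have isomorphic completions. -/
theorem completion_iso_of_iso (I : Ideal A) {N : X.Modules} (e : M ≅ N) :
    Nonempty (_root_.Formal.completion I M ≅ _root_.Formal.completion I N) := by
  refine nonempty_completion_iso (fun n => e.hom ≫ _root_.Formal.modPowπ I (n + 1) N) (fun n => ?_)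
    fun n => ?_
  · have e' : (_root_.Formal.completion I N).map (homOfLE (Nat.le_succ n)).op =
        _root_.Formal.modPowTrans I (n + 1) N :=
      Functor.ofOpSequence_map_homOfLE_succ _ n
    rw [e']
    exact (Category.assoc _ _ _).trans (congrArg (e.hom ≫ ·) (_root_.Formal.modPowπ_trans I (n + 1) N))
  · haveI : Epi (e.hom ≫ _root_.Formal.modPowπ I (n + 1) N) :=
      @epi_comp _ _ _ _ _ _ inferInstance _ coequalizer.π_epi
    refine PullSys.exists_isIso_desc_of_factor (e.hom ≫ _root_.Formal.modPowπ I (n + 1) N)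
      (fun a ha => ?_) fun Q φ hφ => ?_
    · rw [← Category.assoc, smulMod_comp, Category.assoc,
        show _root_.Formal.smulMod A N a ≫ _root_.Formal.modPowπ I (n + 1) N = 0 from
          PullSys.family_π _ N ha, comp_zero]
    · refine ⟨cokernel.desc _ (e.inv ≫ φ) ((PullSys.family_comp_iff _).mpr fun a ha => ?_), ?_⟩
      · rw [← Category.assoc, smulMod_comp, Category.assoc, hφ a ha, comp_zero]
      · exact ((Category.assoc _ _ _).trans (congrArg (e.hom ≫ ·) (cokernel.π_desc _ _ _))).trans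
          (e.hom_inv_id_assoc φ)

end General

section Affine

lemma isIso_counit {R : CommRingCat.{u}} (N : (Spec R).Modules) [N.IsQuasicoherent] :
    IsIso ((QCoh.Tilde.specAdj R).counit.app N) :=
  (QCoh.Tilde.specAdj R).isIso_counit_app_of_iso
    (Y := (QCoh.Tilde.specΓ R).obj N) (QCoh.Tilde.isoTildeSections N).symm

lemma epi_tilde_map {R : CommRingCat.{u}} {M M' : ModuleCat.{u} R} (p : M ⟶ M') [Epi p] :
    Epi ((tilde.functor R).map p) :=
  haveI : (tilde.functor R).IsLeftAdjoint := (QCoh.Tilde.specAdj R).isLeftAdjoint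
  Functor.map_epi _ p

lemma specΓ_map_zero {R : CommRingCat.{u}} (M N : (Spec R).Modules) :
    (QCoh.Tilde.specΓ R).map (0 : M ⟶ N) = 0 := rfl

lemma tilde_map_zero {R : CommRingCat.{u}} (M N : ModuleCat.{u} R) :
    (tilde.functor R).map (0 : M ⟶ N) = 0 := by
  haveI : (tilde.functor R).IsLeftAdjoint := (QCoh.Tilde.specAdj R).isLeftAdjoint
  exact Functor.map_zero _ _ _

lemma exists_factor {R : Type u} [CommRing R] {M N Q : ModuleCat.{u} R} (p : M ⟶ N)
    (hs : Function.Surjective p.hom) (ψ : M ⟶ Q) (h : LinearMap.ker p.hom ≤ LinearMap.ker ψ.hom) :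
    ∃ θ, p ≫ θ = ψ := by
  refine ⟨ModuleCat.ofHom (((LinearMap.ker p.hom).liftQ ψ.hom h).comp
    (p.hom.quotKerEquivOfSurjective hs).symm.toLinearMap), ModuleCat.hom_ext (LinearMap.ext fun m => ?_)⟩
  change ((LinearMap.ker p.hom).liftQ ψ.hom h) ((p.hom.quotKerEquivOfSurjective hs).symm (p.hom m)) = _
  rw [show (p.hom.quotKerEquivOfSurjective hs).symm (p.hom m) = Submodule.Quotient.mk m from
    (LinearEquiv.symm_apply_eq _).mpr rfl]
  rfl

lemma exists_limit {R : Type u} [CommRing R] {I : Ideal R} [IsAdicComplete I R]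
    (N : ℕ → ModuleCat.{u} R) (f : ∀ n, N (n + 1) ⟶ N n) [Module.Finite R (N 0)]
    (hk : ∀ n, I ^ (n + 1) • (⊤ : Submodule R (N n)) = ⊥)
    (hf : ∀ n, Function.Surjective (f n).hom)
    (hker : ∀ n, LinearMap.ker (f n).hom = I ^ (n + 1) • (⊤ : Submodule R (N (n + 1)))) :
    ∃ (M : ModuleCat.{u} R) (_ : Module.Finite R M) (p : ∀ n, M ⟶ N n), (∀ n, p (n + 1) ≫ f n = p n) ∧
      ∀ n, Function.Surjective (p n).hom ∧
        LinearMap.ker (p n).hom = I ^ (n + 1) • (⊤ : Submodule R M) := by
  obtain ⟨h1, h2, h3⟩ :=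
    Tower.limit_spec (M := fun n => ↥(N n)) I (fun n => (f n).hom) hk hf hker
  exact ⟨ModuleCat.of R (Tower.limMod (M := fun n => ↥(N n)) fun n => (f n).hom), h1,
    fun n => ModuleCat.ofHom (Tower.proj (M := fun n => ↥(N n)) (fun n => (f n).hom) n),
    fun n => ModuleCat.hom_ext (LinearMap.ext fun x =>
      Tower.proj_succ (M := fun n => ↥(N n)) (fun n => (f n).hom) n x),
    fun n => ⟨h2 n, h3 n⟩⟩

variable {A : Type u} [CommRing A]

lemma sMap_spec (a : A) :
    letI : (Spec (CommRingCat.of A)).Over (Spec (CommRingCat.of A)) := ⟨𝟙 _⟩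
    sMap (X := Spec (CommRingCat.of A)) A ⊤ a = (Scheme.ΓSpecIso (CommRingCat.of A)).inv a := by
  letI : (Spec (CommRingCat.of A)).Over (Spec (CommRingCat.of A)) := ⟨𝟙 _⟩
  change (Spec (CommRingCat.of A)).presheaf.map (homOfLE le_top).op
    (Scheme.Hom.appTop (𝟙 (Spec (CommRingCat.of A))) ((Scheme.ΓSpecIso (CommRingCat.of A)).inv a)) = _
  rw [Subsingleton.elim (homOfLE (le_top : (⊤ : (Spec (CommRingCat.of A)).Opens) ≤ ⊤)) (𝟙 ⊤)]
  simp

lemma smulMod_specΓ (N : (Spec (CommRingCat.of A)).Modules) (a : A)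
    (x : (QCoh.Tilde.specΓ (CommRingCat.of A)).obj N) :
    letI : (Spec (CommRingCat.of A)).Over (Spec (CommRingCat.of A)) := ⟨𝟙 _⟩
    ((QCoh.Tilde.specΓ (CommRingCat.of A)).map (_root_.Formal.smulMod A N a)).hom x = a • x := by
  letI : (Spec (CommRingCat.of A)).Over (Spec (CommRingCat.of A)) := ⟨𝟙 _⟩
  refine (smulMod_app N a ⊤ x).trans ?_
  rw [sMap_spec]
  rfl

lemma smulMod_tilde (M : ModuleCat.{u} (CommRingCat.of A)) (a : A)
    (Q : (Spec (CommRingCat.of A)).Modules) (φ : (tilde.functor _).obj M ⟶ Q) (m : M) :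
    letI : (Spec (CommRingCat.of A)).Over (Spec (CommRingCat.of A)) := ⟨𝟙 _⟩
    ((QCoh.Tilde.specAdj (CommRingCat.of A)).homEquiv M Q
      (_root_.Formal.smulMod A ((tilde.functor _).obj M) a ≫ φ)).hom m =
      a • ((QCoh.Tilde.specAdj (CommRingCat.of A)).homEquiv M Q φ).hom m := by
  letI : (Spec (CommRingCat.of A)).Over (Spec (CommRingCat.of A)) := ⟨𝟙 _⟩
  rw [Adjunction.homEquiv_unit, Adjunction.homEquiv_unit, Functor.map_comp]
  rw [ModuleCat.hom_comp, LinearMap.comp_apply]
  rw [ModuleCat.hom_comp, LinearMap.comp_apply]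
  rw [smulMod_specΓ, map_smul, ModuleCat.hom_comp, LinearMap.comp_apply]

/-- A surjection of modules with kernel `J M` gives a quotient by `J` of associated sheaves. -/
lemma exists_isIso_desc_tilde {J : Ideal A} {M : ModuleCat.{u} (CommRingCat.of A)}
    {N : (Spec (CommRingCat.of A)).Modules} [N.IsQuasicoherent]
    (p : M ⟶ (QCoh.Tilde.specΓ (CommRingCat.of A)).obj N)
    (hs : Function.Surjective p.hom) (hk : LinearMap.ker p.hom = J • (⊤ : Submodule A M))
    (t : (tilde.functor (CommRingCat.of A)).obj M ⟶ N)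
    (ht : t = ((QCoh.Tilde.specAdj (CommRingCat.of A)).homEquiv M N).symm p) :
    letI : (Spec (CommRingCat.of A)).Over (Spec (CommRingCat.of A)) := ⟨𝟙 _⟩
    ∃ h : _root_.Formal.smulFamily J ((tilde.functor _).obj M) ≫ t = 0,
      IsIso (cokernel.desc _ _ h) := by
  letI : (Spec (CommRingCat.of A)).Over (Spec (CommRingCat.of A)) := ⟨𝟙 _⟩
  haveI hc := isIso_counit (R := CommRingCat.of A) N
  haveI : Epi p := (ModuleCat.epi_iff_surjective p).mpr hs
  haveI : Epi t := by
    rw [ht, Adjunction.homEquiv_counit]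
    haveI := epi_tilde_map (R := CommRingCat.of A) p
    exact epi_comp _ _
  refine PullSys.exists_isIso_desc_of_factor t (fun a ha => ?_) fun Q φ hφ => ?_
  · apply ((QCoh.Tilde.specAdj _).homEquiv M N).injective
    refine ModuleCat.hom_ext (LinearMap.ext fun m => ?_)
    rw [smulMod_tilde, ht, Equiv.apply_symm_apply, ← map_smul]
    have : a • m ∈ LinearMap.ker p.hom := by
      rw [hk]
      exact Submodule.smul_mem_smul ha trivial
    rw [LinearMap.mem_ker.mp this, Adjunction.homEquiv_unit, specΓ_map_zero, comp_zero]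
    rfl
  · set ψ := (QCoh.Tilde.specAdj _).homEquiv M Q φ
    have hψ : LinearMap.ker p.hom ≤ LinearMap.ker ψ.hom := by
      rw [hk, Submodule.smul_le]
      intro a ha m _
      rw [LinearMap.mem_ker, map_smul, ← smulMod_tilde, hφ a ha, Adjunction.homEquiv_unit,
        specΓ_map_zero, comp_zero]
      rfl
    obtain ⟨θ, hθ⟩ := exists_factor (R := ↥(CommRingCat.of A)) p hs ψ hψ
    let θ' : (tilde.functor (CommRingCat.of A)).obj ((QCoh.Tilde.specΓ (CommRingCat.of A)).obj N) ⟶ Q :=
      ((QCoh.Tilde.specAdj (CommRingCat.of A)).homEquiv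
        ((QCoh.Tilde.specΓ (CommRingCat.of A)).obj N) Q).symm θ
    haveI := hc
    refine ⟨@CategoryTheory.inv _ _ _ _ ((QCoh.Tilde.specAdj (CommRingCat.of A)).counit.app N) hc ≫ θ', ?_⟩
    apply ((QCoh.Tilde.specAdj (CommRingCat.of A)).homEquiv M Q).injective
    have e1 : t = (tilde.functor (CommRingCat.of A)).map p ≫
        (QCoh.Tilde.specAdj (CommRingCat.of A)).counit.app N := by
      rw [ht, Adjunction.homEquiv_counit]
    rw [e1, Category.assoc, IsIso.hom_inv_id_assoc, Adjunction.homEquiv_naturality_left,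
      Equiv.apply_symm_apply, hθ]

/-- The same for the sheaf associated to the target module. -/
lemma exists_isIso_desc_tilde' {J : Ideal A} {M N : ModuleCat.{u} (CommRingCat.of A)} (p : M ⟶ N)
    (hs : Function.Surjective p.hom) (hk : LinearMap.ker p.hom = J • (⊤ : Submodule A M)) :
    letI : (Spec (CommRingCat.of A)).Over (Spec (CommRingCat.of A)) := ⟨𝟙 _⟩
    ∃ h : _root_.Formal.smulFamily J ((tilde.functor _).obj M) ≫
        (tilde.functor (CommRingCat.of A)).map p = 0, IsIso (cokernel.desc _ _ h) := by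
  haveI := QCoh.Tilde.isQCoh_tildeFunctor_obj (R := CommRingCat.of A) N
  let η := (QCoh.Tilde.sectionsTildeIso (R := CommRingCat.of A)).app N
  refine exists_isIso_desc_tilde (N := (tilde.functor _).obj N) (p ≫ η.hom) ?_ ?_ _ ?_
  · exact (ConcreteCategory.bijective_of_isIso η.hom).2.comp hs
  · rw [ModuleCat.hom_comp, LinearMap.ker_comp_of_ker_eq_bot, hk]
    exact LinearMap.ker_eq_bot.mpr (ConcreteCategory.bijective_of_isIso η.hom).1
  · apply ((QCoh.Tilde.specAdj (CommRingCat.of A)).homEquiv M _).injective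
    rw [Equiv.apply_symm_apply, Adjunction.homEquiv_unit]
    exact ((QCoh.Tilde.specAdj (CommRingCat.of A)).unit.naturality p).symm

/-- The global sections of a coherent module on `Spec A` are a finite module. -/
lemma finite_specΓ {N : (Spec (CommRingCat.of A)).Modules} (hN : Coh.IsCoh N) :
    Module.Finite A ((QCoh.Tilde.specΓ (CommRingCat.of A)).obj N) := by
  obtain ⟨k, s, hs⟩ := @Module.Finite.exists_fin _ _ _ _ _
    (CohBasics.Closure.finite_sections hN (isAffineOpen_top (Spec (CommRingCat.of A))))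
  let s' : Fin k → (QCoh.Tilde.specΓ (CommRingCat.of A)).obj N := s
  refine Module.Finite.of_surjective (Fintype.linearCombination A s') fun x => ?_
  obtain ⟨c, hc⟩ := (Submodule.mem_span_range_iff_exists_fun _).mp (hs ▸ Submodule.mem_top (x := (show Γ(N, ⊤) from x)))
  refine ⟨fun i => (Scheme.ΓSpecIso (CommRingCat.of A)).hom (c i), ?_⟩
  rw [Fintype.linearCombination_apply]
  refine Eq.trans (Finset.sum_congr rfl fun i _ => ?_) hc
  change (Scheme.ΓSpecIso (CommRingCat.of A)).inv ((Scheme.ΓSpecIso (CommRingCat.of A)).hom (c i)) •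
    s i = c i • s i
  rw [Iso.hom_inv_id_apply]

/-- A finite module gives a coherent sheaf. -/
lemma isCoh_tilde (M : ModuleCat.{u} (CommRingCat.of A)) [Module.Finite A M] :
    Coh.IsCoh ((tilde.functor (CommRingCat.of A)).obj M) := by
  haveI : ((tilde.functor (CommRingCat.of A)).obj M).IsQuasicoherent :=
    QCoh.Tilde.isQCoh_tildeFunctor_obj _
  refine ⟨inferInstance, CohBasics.Affine.isFiniteType_of_finite_sections fun x =>
    ⟨⊤, isAffineOpen_top _, trivial, ?_⟩⟩
  obtain ⟨k, s, hs⟩ := Module.Finite.exists_fin (R := A) (M := M)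
  let e : M ≅ (QCoh.Tilde.specΓ (CommRingCat.of A)).obj ((tilde.functor (CommRingCat.of A)).obj M) :=
    tilde.isoTop M
  classical
  let s' : Fin k → Γ((tilde.functor (CommRingCat.of A)).obj M, ⊤) := fun i => e.hom.hom (s i)
  refine ⟨⟨Finset.univ.image s', ?_⟩⟩
  rw [Finset.coe_image, Finset.coe_univ, Set.image_univ, eq_top_iff]
  intro z _
  obtain ⟨c, hc⟩ := (Submodule.mem_span_range_iff_exists_fun _).mp
    (hs ▸ Submodule.mem_top (x := e.inv.hom z))
  have hz : z = ∑ i, (Scheme.ΓSpecIso (CommRingCat.of A)).inv (c i) • s' i := by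
    refine Eq.trans ?_ ((map_sum e.hom.hom _ _).trans (Finset.sum_congr rfl fun i _ => map_smul e.hom.hom _ _))
    rw [hc]
    exact (Iso.inv_hom_id_apply e z).symm
  rw [hz]
  exact Submodule.sum_mem _ fun i _ => Submodule.smul_mem _ _ (Submodule.subset_span ⟨i, rfl⟩)

variable {I : Ideal A}

/-- The global sections of a formal module on `Spec A` form a tower. -/
theorem sections_spec (G : ℕᵒᵖ ⥤ (Spec (CommRingCat.of A)).Modules)
    (hG : letI : (Spec (CommRingCat.of A)).Over (Spec (CommRingCat.of A)) := ⟨𝟙 _⟩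
      _root_.Formal.IsCohFormal I G) (n : ℕ) :
    Function.Surjective ((QCoh.Tilde.specΓ (CommRingCat.of A)).map
        (G.map (homOfLE (Nat.le_succ n)).op)).hom ∧
      LinearMap.ker ((QCoh.Tilde.specΓ (CommRingCat.of A)).map
        (G.map (homOfLE (Nat.le_succ n)).op)).hom =
          I ^ (n + 1) • (⊤ : Submodule A ((QCoh.Tilde.specΓ (CommRingCat.of A)).obj (G.obj (op (n + 1))))) ∧
      I ^ (n + 1) • (⊤ : Submodule A ((QCoh.Tilde.specΓ (CommRingCat.of A)).obj (G.obj (op n)))) = ⊥ := by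
  letI : (Spec (CommRingCat.of A)).Over (Spec (CommRingCat.of A)) := ⟨𝟙 _⟩
  let Γ' := QCoh.Tilde.specΓ (CommRingCat.of A)
  let N : ℕ → ModuleCat.{u} (CommRingCat.of A) := fun n => Γ'.obj (G.obj (op n))
  obtain ⟨hs, hk⟩ := Sys.succ_spec hG n (isAffineOpen_top (Spec (CommRingCat.of A)))
  have hkill : I ^ (n + 1) • (⊤ : Submodule A (N n)) = ⊥ := by
    rw [← le_bot_iff, Submodule.smul_le]
    intro a ha x _
    rw [Submodule.mem_bot, ← smulMod_specΓ, hG.2.1 n a ha]
    rfl
  refine ⟨hs, le_antisymm (fun x hx => ?_) ?_, hkill⟩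
  · have hx' := (hk x).mp hx
    rw [← sIdeal_pow] at hx'
    clear hx
    induction hx' using Submodule.smul_induction_on' with
    | smul r hr y hy =>
      have hb : (Scheme.ΓSpecIso (CommRingCat.of A)).hom r ∈ I ^ (n + 1) := by
        obtain ⟨b, hb, rfl⟩ : ∃ b ∈ I ^ (n + 1),
            (Scheme.ΓSpecIso (CommRingCat.of A)).inv b = r := by
          have hmap : sIdeal (X := Spec (CommRingCat.of A)) (I ^ (n + 1)) ⊤ =
              (I ^ (n + 1)).map (Scheme.ΓSpecIso (CommRingCat.of A)).inv.hom := by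
            exact congrArg (Ideal.map · (I ^ (n + 1))) (RingHom.ext sMap_spec)
          rw [hmap] at hr
          exact (Ideal.mem_map_iff_of_surjective _ (fun z =>
            ⟨(Scheme.ΓSpecIso (CommRingCat.of A)).hom z, Iso.hom_inv_id_apply _ z⟩)).mp hr
        rwa [Iso.inv_hom_id_apply]
      have e : (Scheme.ΓSpecIso (CommRingCat.of A)).hom r • (show N (n + 1) from y) =
          @HSMul.hSMul Γ(Spec (CommRingCat.of A), ⊤) Γ(G.obj (op (n + 1)), ⊤) _ _ r y := by
        exact congrArg (fun z : Γ(Spec (CommRingCat.of A), ⊤) =>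
          @HSMul.hSMul Γ(Spec (CommRingCat.of A), ⊤) Γ(G.obj (op (n + 1)), ⊤) _ _ z y)
          (Iso.hom_inv_id_apply (Scheme.ΓSpecIso (CommRingCat.of A)) r)
      exact e ▸ Submodule.smul_mem_smul hb trivial
    | add _ _ _ _ h₁ h₂ => exact add_mem h₁ h₂
  · rw [Submodule.smul_le]
    intro a ha x _
    rw [LinearMap.mem_ker, map_smul]
    exact (Submodule.mem_bot A).mp (hkill ▸ Submodule.smul_mem_smul ha trivial)

/-- Over a complete Noetherian ring every coherent formal module on the spectrum is a completion. -/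
theorem exists_completion_iso [IsNoetherianRing A] [IsAdicComplete I A]
    (G : ℕᵒᵖ ⥤ (Spec (CommRingCat.of A)).Modules)
    (hG : letI : (Spec (CommRingCat.of A)).Over (Spec (CommRingCat.of A)) := ⟨𝟙 _⟩
      _root_.Formal.IsCohFormal I G) :
    letI : (Spec (CommRingCat.of A)).Over (Spec (CommRingCat.of A)) := ⟨𝟙 _⟩
    ∃ M : (Spec (CommRingCat.of A)).Modules, Coh.IsCoh M ∧
      Nonempty (_root_.Formal.completion I M ≅ G) := by
  letI : (Spec (CommRingCat.of A)).Over (Spec (CommRingCat.of A)) := ⟨𝟙 _⟩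
  let Γ' := QCoh.Tilde.specΓ (CommRingCat.of A)
  let N : ℕ → ModuleCat.{u} (CommRingCat.of A) := fun n => Γ'.obj (G.obj (op n))
  have hT := sections_spec G hG
  haveI : Module.Finite A (N 0) := finite_specΓ (hG.1 0)
  obtain ⟨M, hfin, p, hp, hspec⟩ := exists_limit (R := ↥(CommRingCat.of A)) (I := I) N
    (fun n => Γ'.map (G.map (homOfLE (Nat.le_succ n)).op)) (fun n => (hT n).2.2) (fun n => (hT n).1)
    (fun n => (hT n).2.1)
  haveI : Module.Finite A M := hfin
  refine ⟨_, isCoh_tilde M, nonempty_completion_iso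
    (fun n => ((QCoh.Tilde.specAdj (CommRingCat.of A)).homEquiv M (G.obj (op n))).symm (p n))
    (fun n => ?_) fun n => ?_⟩
  · rw [← Adjunction.homEquiv_naturality_right_symm]
    exact congrArg _ (hp n)
  · haveI := Sys.qcoh hG n
    exact exists_isIso_desc_tilde (p n) (hspec n).1 (hspec n).2 _ rfl

end Affine

end Groth.Agent.H78.Formal.Algebraize
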