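import Groth.Agent.H78.Formal.Sections
import Groth.Prelude.Def_Formal2
import Mathlib.CategoryTheory.Abelian.Refinements
import Mathlib.Algebra.Homology.ShortComplex.ShortExact

/-!
# The reductions of a module without `f`-torsion
-/

set_option linter.style.haveILetI false

universe u

open CategoryTheory Limits AlgebraicGeometry Opposite TopologicalSpace

namespace Groth.Agent.H78.Formal.Principal

open Groth.Agent.H78.Formal.Sections

variable {A : Type u} [CommRing A] {X : Scheme.{u}} [X.Over (Spec (CommRingCat.of A))]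
variable (F : X.Modules) (f : A)

/-- The principal ideal. -/
abbrev pr : Ideal A := Ideal.span {f}

lemma smulMod_mul (a b : A) :
    _root_.Formal.smulMod A F (a * b) = _root_.Formal.smulMod A F a ≫ _root_.Formal.smulMod A F b :=
  Scheme.Modules.hom_ext _ _ fun U => ConcreteCategory.ext_apply fun s => by
    change sMap A U (a * b) • s = sMap A U b • sMap A U a • s
    rw [map_mul, mul_comm, mul_smul]

lemma mem_pow {m : ℕ} : f ^ m ∈ (pr f) ^ m := Ideal.pow_mem_pow (Ideal.mem_span_singleton_self f) m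

lemma exists_eq {m : ℕ} {a : A} (ha : a ∈ (pr f) ^ m) : ∃ r, r * f ^ m = a := by
  rw [pr, Ideal.span_singleton_pow, Ideal.mem_span_singleton'] at ha
  exact ha

/-- The multiplication by `f ^ m`, followed by the projection. -/
noncomputable def complex (m : ℕ) : ShortComplex X.Modules :=
  ShortComplex.mk (_root_.Formal.smulMod A F (f ^ m)) (_root_.Formal.modPowπ (pr f) m F)
    (smulMod_π ((pr f) ^ m) F (mem_pow f))

lemma complex_exact (m : ℕ) : (complex F f m).Exact := by
  haveI : Epi (_root_.Formal.modPowπ (pr f) m F) := inferInstanceAs (Epi (cokernel.π _))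
  haveI : Epi (complex F f m).g := ‹Epi (_root_.Formal.modPowπ (pr f) m F)›
  refine ShortComplex.exact_of_g_is_cokernel _ ?_
  refine CokernelCofork.IsColimit.ofπ' _ _ fun {Z} (φ : F ⟶ Z) hφ => ⟨cokernel.desc _ φ ?_, cokernel.π_desc _ _ _⟩
  apply Sigma.hom_ext
  intro a
  obtain ⟨r, hr⟩ := exists_eq f a.2
  rw [_root_.Formal.smulFamily, Sigma.ι_desc_assoc, comp_zero, ← hr, smulMod_mul, Category.assoc,
    show _root_.Formal.smulMod A F (f ^ m) ≫ φ = 0 from hφ, comp_zero]

lemma mono_pow [Mono (_root_.Formal.smulMod A F f)] (m : ℕ) :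
    Mono (_root_.Formal.smulMod A F (f ^ m)) := by
  induction m with
  | zero =>
    have : _root_.Formal.smulMod A F (f ^ 0) = 𝟙 F :=
      Scheme.Modules.hom_ext _ _ fun U => ConcreteCategory.ext_apply fun s => by
        change sMap A U (f ^ 0) • s = s
        rw [pow_zero, map_one, one_smul]
    rw [this]
    infer_instance
  | succ m ih =>
    rw [pow_succ, smulMod_mul]
    infer_instance

/-- The short exact sequences of the reductions of a module without `f`-torsion. -/
theorem exists_shortExact [Mono (_root_.Formal.smulMod A F f)] (n : ℕ) :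
    ∃ i : _root_.Formal.modPow (pr f) 1 F ⟶ _root_.Formal.modPow (pr f) (n + 1) F, Mono i ∧
      Formal2.modPowLE (pr f) (Nat.le_add_left 1 n) F ≫ i =
        _root_.Formal.smulMod A (_root_.Formal.modPow (pr f) (n + 1) F) (f ^ n) ∧
      ∃ w : i ≫ _root_.Formal.modPowTrans (pr f) n F = 0,
        (ShortComplex.mk i (_root_.Formal.modPowTrans (pr f) n F) w).ShortExact := by
  haveI := mono_pow F f
  haveI hπ : ∀ m, Epi (_root_.Formal.modPowπ (pr f) m F) := fun m => inferInstanceAs (Epi (cokernel.π _))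
  have h0 : _root_.Formal.smulFamily ((pr f) ^ 1) F ≫
      _root_.Formal.smulMod A F (f ^ n) ≫ _root_.Formal.modPowπ (pr f) (n + 1) F = 0 := by
    apply Sigma.hom_ext
    intro a
    obtain ⟨r, hr⟩ := exists_eq f a.2
    rw [_root_.Formal.smulFamily, Sigma.ι_desc_assoc, comp_zero, ← hr, ← Category.assoc, ← smulMod_mul]
    refine smulMod_π ((pr f) ^ (n + 1)) F ?_
    rw [pow_one, mul_assoc, ← pow_succ']
    exact Ideal.mul_mem_left _ _ (mem_pow f)
  let i : _root_.Formal.modPow (pr f) 1 F ⟶ _root_.Formal.modPow (pr f) (n + 1) F := cokernel.desc _ _ h0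
  have hi : _root_.Formal.modPowπ (pr f) 1 F ≫ i =
      _root_.Formal.smulMod A F (f ^ n) ≫ _root_.Formal.modPowπ (pr f) (n + 1) F := cokernel.π_desc _ _ _
  have hmono : Mono i := by
    refine Preadditive.mono_of_cancel_zero i fun {Z} x hx => ?_
    obtain ⟨Z₁, p, hp, y, hy⟩ := surjective_up_to_refinements_of_epi (_root_.Formal.modPowπ (pr f) 1 F) x
    have hy0 : (y ≫ _root_.Formal.smulMod A F (f ^ n)) ≫ _root_.Formal.modPowπ (pr f) (n + 1) F = 0 := by
      rw [Category.assoc, ← hi, ← Category.assoc, ← hy, Category.assoc, hx, comp_zero]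
    obtain ⟨Z₂, q, hq, (z : Z₂ ⟶ F), hz⟩ := (complex_exact F f (n + 1)).exact_up_to_refinements
      (y ≫ _root_.Formal.smulMod A F (f ^ n)) hy0
    have hz' : q ≫ y ≫ _root_.Formal.smulMod A F (f ^ n) =
        z ≫ _root_.Formal.smulMod A F (f ^ (n + 1)) := hz
    rw [pow_succ', smulMod_mul, ← Category.assoc, ← Category.assoc z, cancel_mono] at hz'
    haveI := epi_comp q p
    rw [← cancel_epi (q ≫ p), comp_zero, Category.assoc, hy, ← Category.assoc, hz', Category.assoc]
    have h1 := smulMod_π ((pr f) ^ 1) F (a := f) (by rw [pow_one]; exact Ideal.mem_span_singleton_self f)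
    exact (congrArg (z ≫ ·) h1).trans comp_zero
  have heq : Formal2.modPowLE (pr f) (Nat.le_add_left 1 n) F ≫ i =
      _root_.Formal.smulMod A (_root_.Formal.modPow (pr f) (n + 1) F) (f ^ n) := by
    rw [← cancel_epi (_root_.Formal.modPowπ (pr f) (n + 1) F), ← Category.assoc,
      Formal2.modPowπ_modPowLE, hi, smulMod_comp]
  have w : i ≫ _root_.Formal.modPowTrans (pr f) n F = 0 := by
    rw [← cancel_epi (_root_.Formal.modPowπ (pr f) 1 F), ← Category.assoc, hi, comp_zero, Category.assoc,
      _root_.Formal.modPowπ_trans]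
    exact smulMod_π ((pr f) ^ n) F (mem_pow f)
  refine ⟨i, hmono, heq, w, ?_⟩
  haveI : Epi (_root_.Formal.modPowTrans (pr f) n F) := by
    haveI : Epi (_root_.Formal.modPowπ (pr f) (n + 1) F ≫ _root_.Formal.modPowTrans (pr f) n F) := by
      rw [_root_.Formal.modPowπ_trans]; infer_instance
    exact epi_of_epi (_root_.Formal.modPowπ (pr f) (n + 1) F) _
  refine { exact := ?_, mono_f := hmono, epi_g := inferInstance }
  rw [ShortComplex.exact_iff_exact_up_to_refinements]
  intro Z x hx
  obtain ⟨Z₁, p, hp, y, hy⟩ := surjective_up_to_refinements_of_epi (_root_.Formal.modPowπ (pr f) (n + 1) F) x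
  have hy0 : y ≫ _root_.Formal.modPowπ (pr f) n F = 0 := by
    rw [← _root_.Formal.modPowπ_trans, ← Category.assoc, ← hy, Category.assoc]
    exact (congrArg (p ≫ ·) hx).trans comp_zero
  obtain ⟨Z₂, q, hq, (z : Z₂ ⟶ F), hz⟩ := (complex_exact F f n).exact_up_to_refinements y hy0
  refine ⟨Z₂, q ≫ p, epi_comp q p, z ≫ _root_.Formal.modPowπ (pr f) 1 F, ?_⟩
  have hz' : q ≫ y = z ≫ _root_.Formal.smulMod A F (f ^ n) := hz
  change (q ≫ p) ≫ x = (z ≫ _root_.Formal.modPowπ (pr f) 1 F) ≫ i
  rw [Category.assoc, hy, ← Category.assoc, hz', Category.assoc, Category.assoc, hi]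

end Groth.Agent.H78.Formal.Principal
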