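import Groth.Agent.H78.Formal.ProLim

/-!
# Mittag-Leffler systems of modules: limits surject onto the stable images
-/

set_option linter.style.haveILetI false
set_option linter.unusedSectionVars false

universe u

open CategoryTheory Limits Opposite

namespace Groth.Agent.H78.Formal.ProML

open Groth.Agent.H78.Formal.ProLim

variable {R : Type u} [CommRing R] (X : ARSys.PS (ModuleCat.{u} R))

/-- A compatible sequence is an element of the limit. -/
lemma exists_limit_elem (z : ∀ n, X.obj (op n))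
    (hz : ∀ n, (ARSys.tr X (Nat.le_succ n)).hom (z (n + 1)) = z n) :
    ∃ x : ↑(limit X), ∀ n, (limit.π X (op n)).hom x = z n := by
  have hz' : ∀ {n m : ℕ} (h : n ≤ m), (ARSys.tr X h).hom (z m) = z n := fun {n m} h => by
    induction h with
    | refl => exact tr_self _ _ _
    | @step l h ih => rw [← tr_tr X h (Nat.le_succ l), hz, ih]
  let app : ∀ n : ℕᵒᵖ, ModuleCat.of R R ⟶ X.obj n := fun n =>
    ModuleCat.ofHom (LinearMap.toSpanSingleton R (X.obj n) (z n.unop))
  have hnat : ∀ ⦃i j : ℕᵒᵖ⦄ (g : i ⟶ j),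
      ((Functor.const ℕᵒᵖ).obj (ModuleCat.of R R)).map g ≫ app j = app i ≫ X.map g := by
    rintro ⟨n'⟩ ⟨n⟩ g
    refine ModuleCat.hom_ext (LinearMap.ext_ring ?_)
    change (1 : R) • z n = (X.map g).hom ((1 : R) • z n')
    rw [one_smul, one_smul]
    exact (hz' g.unop.le).symm
  let c : Cone X := ⟨ModuleCat.of R R, ⟨app, hnat⟩⟩
  refine ⟨((limit.isLimit X).lift c).hom 1, fun n => ?_⟩
  exact ((congrArg (fun φ : ModuleCat.of R R ⟶ X.obj (op n) => φ.hom (1 : R))
    ((limit.isLimit X).fac c (op n)))).trans (one_smul R (z n))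

/-- The image subobject determines the range. -/
lemma range_le_of_imageSubobject_eq {M M' N : ModuleCat.{u} R} (f : M ⟶ N) (g : M' ⟶ N)
    (h : imageSubobject f = imageSubobject g) : LinearMap.range f.hom ≤ LinearMap.range g.hom := by
  let i : ∀ {P : ModuleCat.{u} R} (k : P ⟶ N), ModuleCat.of R (LinearMap.range k.hom) ⟶ N := fun k =>
    ModuleCat.ofHom (LinearMap.range k.hom).subtype
  haveI hm : ∀ {P : ModuleCat.{u} R} (k : P ⟶ N), Mono (i k) := fun k =>
    (ModuleCat.mono_iff_injective _).mpr Subtype.val_injective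
  have hk : ∀ {P : ModuleCat.{u} R} (k : P ⟶ N), imageSubobject k = Subobject.mk (i k) := fun k =>
    (imageSubobject_eq_of_range k (i k) (Submodule.range_subtype _).symm).trans (imageSubobject_mono _)
  rw [hk f, hk g] at h
  intro y hy
  let φ := Subobject.ofMkLEMk (i f) (i g) h.le
  have e : φ ≫ i g = i f := Subobject.ofMkLEMk_comp _
  have e2 : (i g).hom (φ.hom ⟨y, hy⟩) = y := congrArg (fun ψ => ψ.hom ⟨y, hy⟩) e
  exact e2 ▸ (φ.hom ⟨y, hy⟩).2

/-- For a Mittag-Leffler system the stable image is the image of the limit. -/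
theorem exists_range_eq (hX : ARSys.IsML X) (n : ℕ) :
    ∃ (r : ℕ) (h : n ≤ r),
      LinearMap.range (ARSys.tr X h).hom = LinearMap.range (limit.π X (op n)).hom := by
  choose r₀ hr₀ using hX
  let S : ∀ k, Submodule R (X.obj (op k)) := fun k =>
    LinearMap.range (ARSys.tr X (Nat.le_add_right k (r₀ k))).hom
  have hS : ∀ {k s : ℕ} (h : k + r₀ k ≤ s),
      S k ≤ LinearMap.range (ARSys.tr X ((Nat.le_add_right _ _).trans h)).hom := by
    intro k s h
    obtain ⟨d, rfl⟩ := Nat.exists_eq_add_of_le ((Nat.le_add_right k (r₀ k)).trans h)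
    exact range_le_of_imageSubobject_eq _ _ (hr₀ k d (by omega)).symm
  have hmap : ∀ k, ∀ x ∈ S (k + 1), (ARSys.tr X (Nat.le_succ k)).hom x ∈ S k := by
    rintro k x hx
    obtain ⟨w, rfl⟩ := hS (k := k + 1) (s := max (k + r₀ k) (k + 1 + r₀ (k + 1))) (le_max_right _ _) hx
    refine ⟨(ARSys.tr X (le_max_left (k + r₀ k) (k + 1 + r₀ (k + 1)))).hom w, ?_⟩
    exact (tr_tr X _ _ w).trans (tr_tr X _ _ w).symm
  have hsurj : ∀ k, Function.Surjective ((ARSys.tr X (Nat.le_succ k)).hom.restrict (hmap k)) := by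
    rintro k ⟨x, hx⟩
    obtain ⟨w, rfl⟩ := hS (k := k) (s := max (k + r₀ k) (k + 1 + r₀ (k + 1))) (le_max_left _ _) hx
    refine ⟨⟨(ARSys.tr X ((Nat.le_add_right (k + 1) (r₀ (k + 1))).trans
      (le_max_right (k + r₀ k) (k + 1 + r₀ (k + 1))))).hom w,
      ⟨(ARSys.tr X (le_max_right (k + r₀ k) (k + 1 + r₀ (k + 1)))).hom w, tr_tr X _ _ w⟩⟩, ?_⟩
    exact Subtype.ext (tr_tr X _ _ w)
  refine ⟨n + r₀ n, Nat.le_add_right _ _, le_antisymm (fun y hy => ?_) ?_⟩
  · obtain ⟨z, hz⟩ := Tower.exists_mem_limMod (M := fun k => ↥(S k))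
      (fun k => (ARSys.tr X (Nat.le_succ k)).hom.restrict (hmap k)) hsurj n ⟨y, hy⟩
    obtain ⟨x, hx⟩ := exists_limit_elem X (fun k => (z.1 k).1) fun k => congrArg Subtype.val (z.2 k)
    exact ⟨x, (hx n).trans (congrArg Subtype.val hz)⟩
  · rintro _ ⟨x, rfl⟩
    exact ⟨(limit.π X (op (n + r₀ n))).hom x, congrArg (fun φ : limit X ⟶ X.obj (op n) => φ.hom x)
      (limit.w X (homOfLE (Nat.le_add_right n (r₀ n))).op)⟩

end Groth.Agent.H78.Formal.ProML
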