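import Groth.Agent.H78.Formal.SectTower
import Groth.Agent.H78.Formal.ProML

/-!
# The limit of the sections of a coherent formal module
-/

set_option linter.style.haveILetI false
set_option linter.unusedSectionVars false

universe u

open CategoryTheory Limits AlgebraicGeometry Opposite TopologicalSpace

namespace Groth.Agent.H78.Formal.SectLimit

open Groth.Agent.Lib Groth.Agent.H78.Formal.Sections Groth.Agent.H78.Formal.SectTower

/-- Adjoint maps of maps generating on an open are epimorphisms. -/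
theorem epi_adjoint {R : CommRingCat.{u}} (U : (Spec R).Opens) (N : (U : Scheme.{u}).Modules)
    [((Scheme.Modules.pushforward U.ι).obj N).IsQuasicoherent] {M : ModuleCat.{u} R}
    (p : M ⟶ (moduleSpecΓFunctor (R := R)).obj ((Scheme.Modules.pushforward U.ι).obj N))
    (h : Epi ((Theta.Θ U).map p)) :
    Epi (((Scheme.Modules.restrictAdjunction U.ι).homEquiv _ N).symm
      (((tilde.adjunction (R := R)).homEquiv M ((Scheme.Modules.pushforward U.ι).obj N)).symm p)) := by
  haveI : IsIso ((tilde.adjunction (R := R)).counit.app ((Scheme.Modules.pushforward U.ι).obj N)) :=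
    Algebraize.isIso_counit _
  rw [Adjunction.homEquiv_counit, Adjunction.homEquiv_counit, Functor.map_comp, Category.assoc]
  exact @epi_comp _ _ _ _ _ _ h _ (epi_comp _ _)

variable {A : Type u} [CommRing A] {I : Ideal A}

/-- A tower of finite modules gives a coherent formal module on the spectrum. -/
theorem isCohFormal_tilde (T : ℕᵒᵖ ⥤ ModuleCat.{u} A) (hfin : ∀ n, Module.Finite A (T.obj (op n)))
    (hk : ∀ n, I ^ (n + 1) • (⊤ : Submodule A (T.obj (op n))) = ⊥)
    (hs : ∀ n, Function.Surjective (T.map (homOfLE (Nat.le_succ n)).op).hom)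
    (hker : ∀ n, LinearMap.ker (T.map (homOfLE (Nat.le_succ n)).op).hom =
      I ^ (n + 1) • (⊤ : Submodule A (T.obj (op (n + 1))))) :
    @_root_.Formal.IsCohFormal A _ (Spec (CommRingCat.of A)) ⟨𝟙 (Spec (CommRingCat.of A))⟩ I
      (T ⋙ tilde.functor (CommRingCat.of A)) := by
  letI : (Spec (CommRingCat.of A)).Over (Spec (CommRingCat.of A)) := ⟨𝟙 _⟩
  refine ⟨fun n => ?_, fun n a ha => ?_, fun n => ?_⟩
  · haveI := hfin n
    exact Algebraize.isCoh_tilde (T.obj (op n))
  · refine (smulMod_tilde_eq (T.obj (op n)) a).trans ?_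
    have e : ModuleCat.ofHom (a • (LinearMap.id : T.obj (op n) →ₗ[A] T.obj (op n))) = 0 :=
      ModuleCat.hom_ext (LinearMap.ext fun x =>
        (Submodule.mem_bot A).mp (hk n ▸ Submodule.smul_mem_smul ha trivial))
    rw [e]
    exact (Algebraize.tilde_map_zero (R := CommRingCat.of A) _ _)
  · haveI := QCoh.Tilde.isQCoh_tildeFunctor_obj (R := CommRingCat.of A) (T.obj (op n))
    exact Algebraize.exists_isIso_desc_tilde'
      (T.map (homOfLE (Nat.le_succ n)).op) (hs n) (hker n)

/-- A Mittag-Leffler system with finite stable images and adic limit topology extends canonically. -/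
theorem canonicallyExtends {U : (Spec (CommRingCat.of A)).Opens} (G : ℕᵒᵖ ⥤ (U : Scheme.{u}).Modules)
    (X : ℕᵒᵖ ⥤ ModuleCat.{u} A) (hXdef : X = _root_.Algz.sectMod A U G)
    (hkill : ∀ n, I ^ (n + 1) • (⊤ : Submodule A (X.obj (op n))) = ⊥)
    (ha : ARSys.IsML X)
    (hb : ∀ k : ℕ, ∃ n : ℕ, LinearMap.ker (limit.π X (op n)).hom ≤
      I ^ k • (⊤ : Submodule A ↑(limit X)))
    (hc : ∀ n : ℕ, Module.Finite A ↥(LinearMap.range (limit.π X (op n)).hom)) :
    _root_.Algz.CanonicallyExtends A I U G := by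
  let M : ModuleCat.{u} A := limit X
  let π : ∀ n, M →ₗ[A] X.obj (op n) := fun n => (limit.π X (op n)).hom
  have hπ : ∀ {n n' : ℕ} (h : n ≤ n') (x : M), (ARSys.tr X h).hom (π n' x) = π n x := fun h x =>
    congrArg (fun φ : limit X ⟶ X.obj (op _) => φ.hom x) (limit.w X (homOfLE h).op)
  have hkerπ : ∀ {n n' : ℕ}, n ≤ n' → LinearMap.ker (π n') ≤ LinearMap.ker (π n) := fun h x hx => by
    rw [LinearMap.mem_ker] at hx ⊢
    rw [← hπ h, hx, map_zero]
  choose j₀ hj₀ using hb
  let P : ℕ → Submodule A M := fun n => I ^ (n + 1) • ⊤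
  let j : ℕ → ℕ := fun n => (Finset.range (n + 1)).sup (fun i => max i (j₀ (i + 1)))
  have hjm : Monotone j := fun a b h => Finset.sup_mono (Finset.range_subset_range.mpr (by omega))
  have hjle : ∀ n, n ≤ j n := fun n =>
    (le_max_left n (j₀ (n + 1))).trans (Finset.le_sup (f := fun i => max i (j₀ (i + 1)))
      (Finset.mem_range.mpr (Nat.lt_succ_self n)))
  have hj : ∀ n, LinearMap.ker (π (j n)) ≤ P n := fun n =>
    (hkerπ ((le_max_right n (j₀ (n + 1))).trans (Finset.le_sup (f := fun i => max i (j₀ (i + 1)))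
      (Finset.mem_range.mpr (Nat.lt_succ_self n))))).trans (hj₀ (n + 1))
  choose r hr hrange using ProML.exists_range_eq X ha
  let m : ℕ → ℕ := fun n => (Finset.range (n + 1)).sup (fun i => r (j i))
  have hm : Monotone m := fun a b h => Finset.sup_mono (Finset.range_subset_range.mpr (by omega))
  have hjm' : ∀ n, r (j n) ≤ m n := fun n =>
    Finset.le_sup (f := fun i => r (j i)) (Finset.mem_range.mpr (Nat.lt_succ_self n))
  have hjn : ∀ n, j n ≤ m n := fun n => (hr (j n)).trans (hjm' n)
  have hle : ∀ n, n ≤ m n := fun n => (hjle n).trans (hjn n)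
  have hlift : ∀ n (z : X.obj (op (m n))), ∃ x : M, π (j n) x = (ARSys.tr X (hjn n)).hom z := fun n z => by
    have h1 : (ARSys.tr X (hjn n)).hom z ∈ LinearMap.range (π (j n)) := by
      rw [show LinearMap.range (π (j n)) = LinearMap.range (limit.π X (op (j n))).hom from rfl,
        ← hrange (j n)]
      exact ⟨(ARSys.tr X (hjm' n)).hom z, ProLim.tr_tr X _ _ z⟩
    exact h1
  choose s hs using hlift
  have huniq : ∀ n (z : X.obj (op (m n))) (x : M), π (j n) x = (ARSys.tr X (hjn n)).hom z →
      x - s n z ∈ P n := fun n z x hx => hj n (by rw [LinearMap.mem_ker, map_sub, hx, hs, sub_self])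
  let q : ∀ n, X.obj (op (m n)) →ₗ[A] (M ⧸ P n) := fun n =>
    { toFun := fun z => Submodule.Quotient.mk (s n z)
      map_add' := fun z z' => by
        rw [← Submodule.Quotient.mk_add]
        exact ((Submodule.Quotient.eq _).mpr (huniq n (z + z') _ (by
          rw [map_add, hs, hs, map_add]))).symm
      map_smul' := fun a z => by
        rw [RingHom.id_apply, ← Submodule.Quotient.mk_smul]
        exact ((Submodule.Quotient.eq _).mpr (huniq n (a • z) _ (by rw [map_smul, hs, map_smul]))).symm }
  let T : ℕᵒᵖ ⥤ ModuleCat.{u} A := Functor.ofOpSequence (X := fun n => ModuleCat.of A (M ⧸ P n))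
    (fun n => ModuleCat.ofHom (Submodule.factor (Submodule.pow_smul_top_le I M (Nat.le_succ (n + 1)))))
  have hTmap : ∀ n, T.map (homOfLE (Nat.le_succ n)).op =
      ModuleCat.ofHom (Submodule.factor (Submodule.pow_smul_top_le I M (Nat.le_succ (n + 1)))) := fun n =>
    Functor.ofOpSequence_map_homOfLE_succ _ n
  have hTtr : ∀ {n n' : ℕ} (h : n ≤ n') (x : M),
      (ARSys.tr T h).hom (Submodule.Quotient.mk x) = (Submodule.Quotient.mk x : M ⧸ P n) := by
    intro n n' h
    induction h with
    | refl => exact fun x => ProLim.tr_self T _ _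
    | @step l h ih =>
      intro x
      refine (ProLim.tr_tr T h (Nat.le_succ l) (Submodule.Quotient.mk x : M ⧸ P (l + 1))).symm.trans ?_
      refine (congrArg (ARSys.tr T h).hom ?_).trans (ih x)
      change (T.map (homOfLE (Nat.le_succ l)).op).hom _ = _
      rw [hTmap]
      rfl
  let a : DerCA.reindex X hm ⟶ T :=
    NatTrans.ofOpSequence (fun n => (ModuleCat.ofHom (q n) : X.obj (op (m n)) ⟶ T.obj (op n))) fun n => by
      refine ModuleCat.hom_ext (LinearMap.ext fun z => ?_)
      change q n ((ARSys.tr X (hm (Nat.le_succ n))).hom z) =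
        (ARSys.tr T (Nat.le_succ n)).hom (Submodule.Quotient.mk (s (n + 1) z) : M ⧸ P (n + 1))
      rw [hTtr]
      refine ((Submodule.Quotient.eq _).mpr (huniq n _ (s (n + 1) z) ?_)).symm
      rw [← hπ (n' := j (n + 1)) (hjm (Nat.le_succ n))]
      refine (congrArg _ (hs (n + 1) z)).trans ?_
      exact (ProLim.tr_tr X _ _ _).trans (ProLim.tr_tr X _ _ _).symm
  have hP : ∀ n k, m n ≤ k → P k ≤ LinearMap.ker (π (m n)) := fun n k h => by
    rw [Submodule.smul_le]
    intro c hc x _
    rw [LinearMap.mem_ker, map_smul]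
    exact (Submodule.mem_bot A).mp (hkill (m n) ▸
      Submodule.smul_mem_smul (Ideal.pow_le_pow_right (by omega) hc) trivial)
  have hIso : DerCA.IsProIso a := fun n => by
    let b : T.obj (op (m n)) ⟶ X.obj (op (m n)) :=
      ModuleCat.ofHom ((P (m n)).liftQ (π (m n)) (hP n (m n) le_rfl))
    refine ⟨m n, hle n, b, ?_, ?_⟩
    · refine ModuleCat.hom_ext (LinearMap.ext fun z => ?_)
      change π (m n) (s (m n) z) = ((DerCA.reindex X hm).map (homOfLE (hle n)).op).hom z
      rw [← hπ (hjle (m n))]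
      refine ((congrArg _ (hs (m n) z)).trans (ProLim.tr_tr X _ _ _)).trans ?_
      exact congrArg (fun φ : X.obj (op (m (m n))) ⟶ X.obj (op (m n)) => φ.hom z)
        (congrArg X.map (Subsingleton.elim _ _))
    · refine ModuleCat.hom_ext (LinearMap.ext fun y => ?_)
      obtain ⟨x, rfl⟩ := (P (m n)).mkQ_surjective y
      change q n (π (m n) x) = (ARSys.tr T (hle n)).hom (Submodule.Quotient.mk x)
      rw [hTtr]
      exact ((Submodule.Quotient.eq _).mpr (huniq n _ x (hπ (hjn n) x).symm)).symm
  obtain ⟨a', ha'⟩ := Canonical.isProIso_map (tilde.functor (CommRingCat.of A)) a (Iso.refl _) hIso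
  subst hXdef
  refine ⟨T ⋙ tilde.functor (CommRingCat.of A), isCohFormal_tilde T (fun n => ?_) (fun n => ?_)
    (fun n => ?_) (fun n => ?_), m, hm, hle, a', ha'⟩
  · haveI := hc (j n)
    refine Module.Finite.of_surjective
      (((LinearMap.ker (π (j n))).mapQ (P n) LinearMap.id (hj n)).comp
        (π (j n)).quotKerEquivRange.symm.toLinearMap) fun y => ?_
    obtain ⟨x, rfl⟩ := (P n).mkQ_surjective y
    refine ⟨(π (j n)).quotKerEquivRange (Submodule.Quotient.mk x), ?_⟩
    exact congrArg ((LinearMap.ker (π (j n))).mapQ (P n) LinearMap.id (hj n))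
      ((π (j n)).quotKerEquivRange.symm_apply_apply (Submodule.Quotient.mk x))
  · rw [← le_bot_iff, Submodule.smul_le]
    intro c hc' y _
    obtain ⟨x, rfl⟩ := (P n).mkQ_surjective y
    rw [Submodule.mem_bot]
    exact (Submodule.Quotient.mk_smul (P n) c x).symm.trans
      ((Submodule.Quotient.mk_eq_zero _).mpr (Submodule.smul_mem_smul hc' trivial))
  · rw [hTmap]
    exact Submodule.factor_surjective (Submodule.pow_smul_top_le I M (Nat.le_succ (n + 1)))
  · rw [hTmap]
    refine le_antisymm (fun y hy => ?_) ?_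
    · obtain ⟨x, rfl⟩ := (P (n + 1)).mkQ_surjective y
      have hx : x ∈ P n := (Submodule.Quotient.mk_eq_zero _).mp hy
      have h2 := Submodule.mem_map_of_mem (f := (P (n + 1)).mkQ) hx
      rw [Submodule.map_smul'', Submodule.map_top, Submodule.range_mkQ] at h2
      exact h2
    · rw [Submodule.smul_le]
      intro c hc' y _
      obtain ⟨x, rfl⟩ := (P (n + 1)).mkQ_surjective y
      rw [LinearMap.mem_ker]
      change (Submodule.Quotient.mk (c • x) : M ⧸ P n) = 0
      exact (Submodule.Quotient.mk_eq_zero (P n)).mpr (Submodule.smul_mem_smul hc' trivial)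

/-- If the system of sections is Mittag-Leffler, the limit generates the system. -/
theorem epi_fromLimit {U : (Spec (CommRingCat.of A)).Opens} [IsNoetherianRing A]
    {G : ℕᵒᵖ ⥤ (U : Scheme.{u}).Modules} (hG : _root_.Formal.IsCohFormal I G)
    (X : ℕᵒᵖ ⥤ ModuleCat.{u} A) (e : X ⋙ Θ U ≅ G) (ha : ARSys.IsML X) (n : ℕ) :
    Epi ((Θ U).map (limit.π X (op n))) := by
  obtain ⟨r, hr, hrange⟩ := ProML.exists_range_eq X ha n
  exact epi_of_range_le (U := U) (ARSys.tr X hr) (limit.π X (op n)) hrange.le
    (epi_Θ_tr U G e hG hr)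

end Groth.Agent.H78.Formal.SectLimit
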