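import Groth.Prelude.Def_Formal
import Groth.Agent.Lib.CohBasics.Closure

/-!
# Multiplication by the base ring and the modules `M / I^n M` on affine opens
-/

set_option linter.style.haveILetI false

universe u

open CategoryTheory Limits AlgebraicGeometry Opposite TopologicalSpace

namespace Groth.Agent.H78.Formal.Sections

open Groth.Agent.Lib Groth.Agent.Lib.CohBasics.Affine

variable {A : Type u} [CommRing A] {X : Scheme.{u}} [X.Over (Spec (CommRingCat.of A))]
variable {M N : X.Modules} {U V : X.Opens}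

variable (A) in
/-- The map from the base ring to the functions on `U`. -/
noncomputable def sMap (U : X.Opens) : A →+* Γ(X, U) :=
  (Coh.resTop X (op U)).comp (Coh.toGlobal (X ↘ Spec (CommRingCat.of A)))

lemma smulMod_app (M : X.Modules) (a : A) (U : X.Opens) (s : Γ(M, U)) :
    (_root_.Formal.smulMod A M a).app U s = sMap A U a • s := rfl

lemma res_sMap (h : V ≤ U) (a : A) :
    X.presheaf.map (homOfLE h).op (sMap A U a) = sMap A V a :=
  Coh.resTop_comp (op U) (op V) (homOfLE h).op _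

lemma smulMod_comp (φ : M ⟶ N) (a : A) :
    _root_.Formal.smulMod A M a ≫ φ = φ ≫ _root_.Formal.smulMod A N a := by
  refine Scheme.Modules.hom_ext _ _ fun U => ConcreteCategory.ext_apply fun s => ?_
  change φ.app U ((_root_.Formal.smulMod A M a).app U s) =
    (_root_.Formal.smulMod A N a).app U (φ.app U s)
  rw [smulMod_app, smulMod_app, φ.app_smul]

/-- The ideal of functions on `U` generated by `I`. -/
noncomputable def sIdeal (I : Ideal A) (U : X.Opens) : Ideal Γ(X, U) := I.map (sMap A U)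

lemma sIdeal_pow (I : Ideal A) (n : ℕ) (U : X.Opens) :
    sIdeal (I ^ n) U = sIdeal I U ^ n := Ideal.map_pow _ _ _

lemma mem_sIdeal {I : Ideal A} {a : A} (ha : a ∈ I) : sMap A U a ∈ sIdeal I U :=
  Ideal.mem_map_of_mem _ ha

/-- `sIdeal J U` kills a module exactly when every `a ∈ J` does. -/
lemma sIdeal_smul_le_iff (J : Ideal A) (P : Submodule Γ(X, U) Γ(M, U))
    (Q : Submodule Γ(X, U) Γ(M, U)) :
    sIdeal J U • Q ≤ P ↔ ∀ a ∈ J, ∀ s ∈ Q, sMap A U a • s ∈ P := by
  constructor
  · exact fun h a ha s hs => h (Submodule.smul_mem_smul (mem_sIdeal ha) hs)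
  · intro h
    rw [Submodule.smul_le]
    intro r hr s hs
    have : sIdeal J U ≤ P.comap (LinearMap.toSpanSingleton Γ(X, U) Γ(M, U) s) :=
      Ideal.map_le_iff_le_comap.mpr fun a ha => h a ha s hs
    simpa using this hr

/-! ### Tests on affine opens -/

/-- The affine opens contain a neighbourhood of every point. -/
lemma exists_affine (x : X) : ∃ U : X.Opens, IsAffineOpen U ∧ x ∈ U := by
  obtain ⟨U, hU, hx, -⟩ := exists_isAffineOpen_mem_and_subset (X := X) (x := x) (U := ⊤) trivial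
  exact ⟨U, hU, hx⟩

lemma eq_zero_of_cover [M.IsQuasicoherent] (φ : M ⟶ N)
    (h : ∀ x : X, ∃ U : X.Opens, IsAffineOpen U ∧ x ∈ U ∧ ∀ s, φ.app U s = 0) : φ = 0 := by
  refine Modules.Stalk.hom_ext_stalk fun x => ConcreteCategory.ext_apply fun (v : M.presheaf.stalk x) => ?_
  obtain ⟨U, hU, hx, h0⟩ := h x
  obtain ⟨f, t, hf, e⟩ := StalkLoc.Basic.exists_smul_eq_germ hU hx v
  have e2 := congrArg (Modules.StalkModule.stalkMapₗ φ x) e
  rw [map_smul, Modules.StalkModule.stalkMapₗ_germ, h0, map_zero] at e2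
  rw [Functor.map_zero]
  change Modules.StalkModule.stalkMapₗ φ x v = 0
  exact ((X.mem_basicOpen f x hx).mp hf).smul_eq_zero.mp e2

lemma hom_ext_affine [M.IsQuasicoherent] {φ ψ : M ⟶ N}
    (h : ∀ (U : X.Opens), IsAffineOpen U → ∀ s, φ.app U s = ψ.app U s) : φ = ψ := by
  rw [← sub_eq_zero]
  refine eq_zero_of_cover _ fun x => ?_
  obtain ⟨U, hU, hx⟩ := exists_affine x
  refine ⟨U, hU, hx, fun s => ?_⟩
  change φ.app U s - ψ.app U s = 0
  rw [h U hU s, sub_self]

lemma mono_of_cover [M.IsQuasicoherent] [N.IsQuasicoherent] (φ : M ⟶ N)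
    (h : ∀ x : X, ∃ U : X.Opens, IsAffineOpen U ∧ x ∈ U ∧ Function.Injective (φ.app U)) :
    Mono φ := by
  refine (Modules.StalkModule.mono_iff_stalkMapₗ_injective φ).mpr fun x => ?_
  obtain ⟨U, hU, hx, hinj⟩ := h x
  rw [← LinearMap.ker_eq_bot, eq_bot_iff]
  intro v hv
  obtain ⟨f, t, hf, e⟩ := StalkLoc.Basic.exists_smul_eq_germ hU hx v
  have e2 := congrArg (Modules.StalkModule.stalkMapₗ φ x) e
  rw [map_smul, LinearMap.mem_ker.mp hv, smul_zero, Modules.StalkModule.stalkMapₗ_germ] at e2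
  obtain ⟨g, hg, hgt⟩ := (StalkLoc.Basic.germ_eq_zero_iff hU hx _).mp e2.symm
  rw [← φ.app_smul, ← map_zero (φ.app U).hom] at hgt
  rw [(StalkLoc.Basic.germ_eq_zero_iff hU hx t).mpr ⟨g, hg, hinj hgt⟩] at e
  exact ((X.mem_basicOpen f x hx).mp hf).smul_eq_zero.mp e

lemma epi_of_cover [M.IsQuasicoherent] [N.IsQuasicoherent] (φ : M ⟶ N)
    (h : ∀ x : X, ∃ U : X.Opens, IsAffineOpen U ∧ x ∈ U ∧ Function.Surjective (φ.app U)) :
    Epi φ := by
  refine (Modules.StalkModule.epi_iff_stalkMapₗ_surjective φ).mpr fun x w => ?_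
  obtain ⟨U, hU, hx, hsurj⟩ := h x
  obtain ⟨f, t, hf, e⟩ := StalkLoc.Basic.exists_smul_eq_germ hU hx w
  obtain ⟨s, rfl⟩ := hsurj t
  obtain ⟨u, hu⟩ := (X.mem_basicOpen f x hx).mp hf
  refine ⟨(u⁻¹ : (X.presheaf.stalk x)ˣ) • M.presheaf.germ U x hx s, ?_⟩
  rw [Units.smul_def, map_smul, Modules.StalkModule.stalkMapₗ_germ, ← e, ← hu, ← mul_smul,
    Units.inv_mul, one_smul]

lemma isIso_of_cover [M.IsQuasicoherent] [N.IsQuasicoherent] (φ : M ⟶ N)
    (h : ∀ x : X, ∃ U : X.Opens, IsAffineOpen U ∧ x ∈ U ∧ Function.Bijective (φ.app U)) :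
    IsIso φ := by
  haveI := mono_of_cover φ fun x => (h x).imp fun U hU => ⟨hU.1, hU.2.1, hU.2.2.1⟩
  haveI := epi_of_cover φ fun x => (h x).imp fun U hU => ⟨hU.1, hU.2.1, hU.2.2.2⟩
  exact isIso_of_mono_of_epi φ

lemma app_bijective (φ : M ⟶ N) [IsIso φ] (U : X.Opens) : Function.Bijective (φ.app U) :=
  ConcreteCategory.bijective_of_isIso _

lemma killedBy_iff [M.IsQuasicoherent] (J : Ideal A) :
    _root_.Formal.KilledBy J M ↔
      ∀ U : X.Opens, IsAffineOpen U → sIdeal J U • (⊤ : Submodule Γ(X, U) Γ(M, U)) = ⊥ := by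
  constructor
  · intro h U hU
    rw [← le_bot_iff, sIdeal_smul_le_iff]
    intro a ha s _
    rw [Submodule.mem_bot, ← smulMod_app, h a ha]
    rfl
  · intro h a ha
    refine eq_zero_of_cover _ fun x => ?_
    obtain ⟨U, hU, hx⟩ := exists_affine x
    refine ⟨U, hU, hx, fun s => ?_⟩
    rw [smulMod_app, ← Submodule.mem_bot Γ(X, U), ← h U hU]
    exact Submodule.smul_mem_smul (mem_sIdeal ha) trivial

/-! ### `M / I^n M` on affine opens -/

lemma smulMod_π (J : Ideal A) (M : X.Modules) {a : A} (ha : a ∈ J) :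
    _root_.Formal.smulMod A M a ≫ cokernel.π (_root_.Formal.smulFamily J M) = 0 := by
  have : _root_.Formal.smulMod A M a =
      Sigma.ι (fun _ : J => M) ⟨a, ha⟩ ≫ _root_.Formal.smulFamily J M := by
    simp [_root_.Formal.smulFamily]
  rw [this, Category.assoc, cokernel.condition, comp_zero]

lemma isQCoh_sigma {ι : Type u} (F : ι → X.Modules) (h : ∀ i, (F i).IsQuasicoherent) :
    (∐ F).IsQuasicoherent :=
  QCoh.Closure.isQCoh_of_isColimit (colimit.isColimit (Discrete.functor F)) fun j => h j.as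

lemma isQCoh_quot (J : Ideal A) [M.IsQuasicoherent] :
    (cokernel (_root_.Formal.smulFamily J M)).IsQuasicoherent :=
  haveI := isQCoh_sigma (fun _ : J => M) fun _ => ‹_›
  QCoh.Closure.isQCoh_cokernel _

/-- Sections killed by `M ⟶ M / J M` are the sections in `J M`. -/
lemma quot_app_eq_zero_iff [M.IsQuasicoherent] (J : Ideal A) (hU : IsAffineOpen U) (s : Γ(M, U)) :
    (cokernel.π (_root_.Formal.smulFamily J M)).app U s = 0 ↔
      s ∈ sIdeal J U • (⊤ : Submodule Γ(X, U) Γ(M, U)) := by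
  constructor
  · intro hs
    refine mem_of_germ_mem hU _ s fun x hx => ?_
    set S := Submodule.span (X.presheaf.stalk x) (M.presheaf.germ U x hx ''
      ((sIdeal J U • (⊤ : Submodule Γ(X, U) Γ(M, U)) : Submodule Γ(X, U) Γ(M, U)) : Set Γ(M, U)))
    let q : AddCommGrpCat.of (M.presheaf.stalk x) ⟶ AddCommGrpCat.of (M.presheaf.stalk x ⧸ S) :=
      AddCommGrpCat.ofHom S.mkQ.toAddMonoidHom
    have hq : (Modules.Stalk.stalkFunctor X x).map (_root_.Formal.smulFamily J M) ≫ q = 0 := by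
      apply (isColimitOfPreserves (Modules.Stalk.stalkFunctor X x)
        (colimit.isColimit (Discrete.functor fun _ : J => M))).hom_ext
      rintro ⟨a⟩
      ext (v : M.presheaf.stalk x)
      obtain ⟨f, t, hf, e⟩ := StalkLoc.Basic.exists_smul_eq_germ hU hx v
      refine (Submodule.Quotient.mk_eq_zero S).mpr (?_ : _ ∈ S)
      have key : Modules.StalkModule.stalkMapₗ (_root_.Formal.smulMod A M (a : A)) x v ∈ S := by
        refine (Submodule.smul_mem_iff_of_isUnit _ ((X.mem_basicOpen f x hx).mp hf)).mp ?_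
        rw [← map_smul, e, Modules.StalkModule.stalkMapₗ_germ, smulMod_app]
        exact Submodule.subset_span ⟨_, Submodule.smul_mem_smul (mem_sIdeal a.2) trivial, rfl⟩
      have h2 : (colimit.cocone (Discrete.functor fun _ : J => M)).ι.app ⟨a⟩ ≫
          _root_.Formal.smulFamily J M = _root_.Formal.smulMod A M (a : A) :=
        Sigma.ι_desc (fun a : J => _root_.Formal.smulMod A M (a : A)) a
      rw [← h2, Modules.StalkModule.stalkMapₗ_apply, Functor.map_comp] at key
      exact key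
    have hex := (Modules.Stalk.exact_iff_stalk (ShortComplex.mk (_root_.Formal.smulFamily J M)
      (cokernel.π _) (cokernel.condition _))).mp
      (ShortComplex.exact_of_g_is_cokernel _ (cokernelIsCokernel _)) x
    obtain ⟨w, hw⟩ := (ShortComplex.ab_exact_iff _).mp hex (M.presheaf.germ U x hx s) (by
      change (Modules.Stalk.stalkFunctor X x).map (cokernel.π _) _ = 0
      rw [Modules.Stalk.stalkFunctor_map_germ, hs, map_zero]; rfl)
    have := ConcreteCategory.congr_hom hq w
    have hw' : (Modules.Stalk.stalkFunctor X x).map (_root_.Formal.smulFamily J M) w =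
      M.presheaf.germ U x hx s := hw
    erw [CategoryTheory.comp_apply, hw'] at this
    exact (Submodule.Quotient.mk_eq_zero S).mp this
  · intro hs
    have : sIdeal J U • (⊤ : Submodule Γ(X, U) Γ(M, U)) ≤
        LinearMap.ker (secₗ (cokernel.π (_root_.Formal.smulFamily J M)) U) := by
      rw [sIdeal_smul_le_iff]
      intro a ha t _
      rw [LinearMap.mem_ker, secₗ_apply, ← smulMod_app]
      exact ConcreteCategory.congr_hom
        (congrArg (fun φ => φ.app U) (smulMod_π J M ha)) t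
    exact this hs

lemma quot_app_surjective [M.IsQuasicoherent] (J : Ideal A) (hU : IsAffineOpen U) :
    Function.Surjective ((cokernel.π (_root_.Formal.smulFamily J M)).app U) :=
  haveI := isQCoh_quot (M := M) J
  QCoh.Closure.sections_surjective_of_epi _ hU

lemma isQCoh_modPow (I : Ideal A) (n : ℕ) [M.IsQuasicoherent] :
    (_root_.Formal.modPow I n M).IsQuasicoherent :=
  isQCoh_quot (I ^ n)

lemma modPowπ_eq_zero_iff [M.IsQuasicoherent] (I : Ideal A) (n : ℕ) (hU : IsAffineOpen U)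
    (s : Γ(M, U)) :
    (_root_.Formal.modPowπ I n M).app U s = 0 ↔
      s ∈ sIdeal I U ^ n • (⊤ : Submodule Γ(X, U) Γ(M, U)) := by
  rw [← sIdeal_pow]
  exact quot_app_eq_zero_iff (I ^ n) hU s

lemma modPowπ_surjective [M.IsQuasicoherent] (I : Ideal A) (n : ℕ) (hU : IsAffineOpen U) :
    Function.Surjective ((_root_.Formal.modPowπ I n M).app U) :=
  quot_app_surjective (I ^ n) hU

lemma isCoh_modPow (I : Ideal A) (n : ℕ) (hM : Coh.IsCoh M) :
    Coh.IsCoh (_root_.Formal.modPow I n M) :=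
  haveI := hM.1
  haveI := isQCoh_modPow (M := M) I n
  haveI : Epi (_root_.Formal.modPowπ I n M) := inferInstanceAs (Epi (cokernel.π _))
  CohBasics.Closure.isCoh_of_epi (_root_.Formal.modPowπ I n M) hM

/-- A uniform bound on a Noetherian scheme. -/
lemma exists_uniform [CompactSpace X] (P : X.Opens → ℕ → Prop)
    (hmono : ∀ U m n, m ≤ n → P U m → P U n)
    (h : ∀ U : X.Opens, IsAffineOpen U → ∃ n, P U n) :
    ∃ n, ∀ x : X, ∃ U : X.Opens, IsAffineOpen U ∧ x ∈ U ∧ P U n := by
  choose W hW hxW using exists_affine (X := X)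
  choose k hk using fun x => h (W x) (hW x)
  obtain ⟨F, hF⟩ := isCompact_univ.elim_finite_subcover (fun x => (W x : Set X)) (fun x => (W x).2)
    fun x _ => Set.mem_iUnion.mpr ⟨x, hxW x⟩
  refine ⟨F.sup k, fun y => ?_⟩
  obtain ⟨x, hx, hy⟩ := Set.mem_iUnion₂.mp (hF (Set.mem_univ y))
  exact ⟨W x, hW x, hy, hmono _ _ _ (Finset.le_sup hx) (hk x)⟩

end Groth.Agent.H78.Formal.Sections
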