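import Groth.Prelude.Def_DerCA
import Groth.Agent.H78.Formal.Sections
import Mathlib.CategoryTheory.Abelian.Basic
import Mathlib.CategoryTheory.Functor.OfSequence

/-!
# Coherent formal modules: the transition maps on affine opens
-/

set_option linter.style.haveILetI false

universe u

open CategoryTheory Limits AlgebraicGeometry Opposite TopologicalSpace

namespace Groth.Agent.H78.Formal.Sys

open Groth.Agent.Lib Groth.Agent.Lib.CohBasics.Affine Groth.Agent.H78.Formal.Sections

variable {A : Type u} [CommRing A] {X : Scheme.{u}} [X.Over (Spec (CommRingCat.of A))]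
variable {I : Ideal A} {M N Q : X.Modules}

/-- An epimorphism factors maps which vanish on its kernel, tested on affine opens. -/
lemma exists_desc [M.IsQuasicoherent] [N.IsQuasicoherent] (t : M ⟶ N) [Epi t] (φ : M ⟶ Q)
    (h : ∀ U : X.Opens, IsAffineOpen U → ∀ s, t.app U s = 0 → φ.app U s = 0) :
    ∃ ψ : N ⟶ Q, t ≫ ψ = φ := by
  haveI := QCoh.Closure.isQCoh_kernel t
  have hk : kernel.ι t ≫ φ = 0 := hom_ext_affine fun U hU s => by
    change φ.app U ((kernel.ι t).app U s) = 0
    exact h U hU _ (ConcreteCategory.congr_hom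
      (congrArg (fun χ => χ.app U) (kernel.condition t)) s)
  exact ⟨Abelian.epiDesc t φ hk, Abelian.comp_epiDesc t φ hk⟩

/-- A map out of `M` which on affine opens is surjective with kernel `J M` exhibits `M/JM`. -/
lemma exists_isIso_desc [M.IsQuasicoherent] [N.IsQuasicoherent] (J : Ideal A) (t : M ⟶ N)
    (hs : ∀ U : X.Opens, IsAffineOpen U → Function.Surjective (t.app U))
    (hk : ∀ U : X.Opens, IsAffineOpen U → ∀ s,
      t.app U s = 0 ↔ s ∈ sIdeal J U • (⊤ : Submodule Γ(X, U) Γ(M, U))) :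
    ∃ h : _root_.Formal.smulFamily J M ≫ t = 0, IsIso (cokernel.desc _ t h) := by
  have h : _root_.Formal.smulFamily J M ≫ t = 0 := by
    apply Sigma.hom_ext
    intro a
    rw [_root_.Formal.smulFamily, Sigma.ι_desc_assoc, comp_zero]
    refine hom_ext_affine fun U hU s => ?_
    change t.app U ((_root_.Formal.smulMod A M (a : A)).app U s) = 0
    rw [smulMod_app, hk U hU]
    exact Submodule.smul_mem_smul (mem_sIdeal a.2) trivial
  refine ⟨h, ?_⟩
  haveI := isQCoh_quot (M := M) J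
  refine isIso_of_cover _ fun x => ?_
  obtain ⟨U, hU, hx⟩ := exists_affine x
  refine ⟨U, hU, hx, ?_⟩
  have e : ∀ s, (cokernel.desc _ t h).app U
      ((cokernel.π (_root_.Formal.smulFamily J M)).app U s) = t.app U s := fun s =>
    ConcreteCategory.congr_hom (congrArg (fun χ => χ.app U) (cokernel.π_desc _ t h)) s
  refine ⟨(injective_iff_map_eq_zero _).mpr fun z hz => ?_, fun w => ?_⟩
  · obtain ⟨s, rfl⟩ := quot_app_surjective (M := M) J hU z
    rw [e] at hz
    exact (quot_app_eq_zero_iff J hU s).mpr ((hk U hU s).mp hz)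
  · obtain ⟨s, rfl⟩ := hs U hU w
    exact ⟨_, e s⟩

section System

variable {G : ℕᵒᵖ ⥤ X.Modules} (hG : _root_.Formal.IsCohFormal I G)
include hG

lemma qcoh (n : ℕ) : (G.obj (op n)).IsQuasicoherent := (hG.1 n).1

lemma killed (n : ℕ) {U : X.Opens} (hU : IsAffineOpen U) :
    sIdeal I U ^ (n + 1) • (⊤ : Submodule Γ(X, U) Γ(G.obj (op n), U)) = ⊥ := by
  haveI := qcoh hG n
  rw [← sIdeal_pow]
  exact (killedBy_iff _).mp (hG.2.1 n) U hU

lemma succ_spec (n : ℕ) {U : X.Opens} (hU : IsAffineOpen U) :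
    Function.Surjective ((G.map (homOfLE (Nat.le_succ n)).op).app U) ∧
      ∀ s, (G.map (homOfLE (Nat.le_succ n)).op).app U s = 0 ↔
        s ∈ sIdeal I U ^ (n + 1) • (⊤ : Submodule Γ(X, U) Γ(G.obj (op (n + 1)), U)) := by
  obtain ⟨h, hiso⟩ := hG.2.2 n
  haveI := qcoh hG (n + 1)
  have e : ∀ s, (G.map (homOfLE (Nat.le_succ n)).op).app U s =
      (cokernel.desc _ _ h).app U
        ((_root_.Formal.modPowπ I (n + 1) (G.obj (op (n + 1)))).app U s) := fun s =>
    (ConcreteCategory.congr_hom (congrArg (fun χ => χ.app U) (cokernel.π_desc _ _ h)) s).symm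
  refine ⟨fun w => ?_, fun s => ?_⟩
  · obtain ⟨z, rfl⟩ := (app_bijective (cokernel.desc _ _ h) U).2 w
    obtain ⟨s, hs⟩ := modPowπ_surjective (M := G.obj (op (n + 1))) I (n + 1) hU z
    exact ⟨s, (e s).trans (congrArg _ hs)⟩
  · rw [e, ← modPowπ_eq_zero_iff I (n + 1) hU s]
    exact ⟨fun hz => (app_bijective (cokernel.desc _ _ h) U).1 (hz.trans (map_zero _).symm),
      fun hz => (congrArg _ hz).trans (map_zero _)⟩

/-- A transition map is surjective on affine opens, with kernel generated by `I^(n+1)`. -/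
theorem map_spec {n m : ℕ} (h : n ≤ m) {U : X.Opens} (hU : IsAffineOpen U) :
    Function.Surjective ((G.map (homOfLE h).op).app U) ∧
      ∀ s, (G.map (homOfLE h).op).app U s = 0 ↔
        s ∈ sIdeal I U ^ (n + 1) • (⊤ : Submodule Γ(X, U) Γ(G.obj (op m), U)) := by
  induction h with
  | refl =>
    have e : G.map (homOfLE (le_refl n)).op = 𝟙 _ := G.map_id _
    refine ⟨fun w => ⟨w, by rw [e]; rfl⟩, fun s => ?_⟩
    rw [killed hG n hU, Submodule.mem_bot, e]
    rfl
  | @step m h ih =>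
    have e : G.map (homOfLE (Nat.le.step h : n ≤ m + 1)).op =
        G.map (homOfLE (Nat.le_succ m)).op ≫ G.map (homOfLE h).op := by
      rw [← G.map_comp]
      rfl
    obtain ⟨hs, hk⟩ := succ_spec hG m hU
    refine ⟨fun w => ?_, fun s => ?_⟩
    · obtain ⟨v, rfl⟩ := ih.1 w
      obtain ⟨s, rfl⟩ := hs v
      exact ⟨s, by rw [e]; rfl⟩
    rw [e]
    change (G.map (homOfLE h).op).app U ((G.map (homOfLE (Nat.le_succ m)).op).app U s) = 0 ↔ _
    rw [ih.2]
    set t := secₗ (G.map (homOfLE (Nat.le_succ m)).op) U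
    have hker : LinearMap.ker t = sIdeal I U ^ (m + 1) • ⊤ := Submodule.ext fun x => hk x
    have hrange : LinearMap.range t = ⊤ := LinearMap.range_eq_top.mpr hs
    change s ∈ (sIdeal I U ^ (n + 1) • (⊤ : Submodule Γ(X, U) Γ(G.obj (op m), U))).comap t ↔ _
    rw [← hrange, ← Submodule.map_top, ← Submodule.map_smul'', Submodule.comap_map_eq, hker,
      sup_eq_left.mpr (Submodule.smul_mono_left (Ideal.pow_le_pow_right (Nat.succ_le_succ h)))]

lemma epi_map {n m : ℕ} (h : n ≤ m) : Epi (G.map (homOfLE h).op) :=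
  haveI := qcoh hG n
  haveI := qcoh hG m
  epi_of_cover _ fun x => by
    obtain ⟨U, hU, hx⟩ := exists_affine x
    exact ⟨U, hU, hx, (map_spec hG h hU).1⟩

lemma exists_desc_map {n m : ℕ} (h : n ≤ m) (φ : G.obj (op m) ⟶ Q) [Q.IsQuasicoherent]
    (hQ : _root_.Formal.KilledBy (I ^ (n + 1)) Q) :
    ∃ ψ : G.obj (op n) ⟶ Q, G.map (homOfLE h).op ≫ ψ = φ := by
  haveI := qcoh hG n
  haveI := qcoh hG m
  haveI := epi_map hG h
  refine exists_desc _ φ fun U hU s hs => ?_
  rw [(map_spec hG h hU).2] at hs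
  have : sIdeal I U ^ (n + 1) • (⊤ : Submodule Γ(X, U) Γ(G.obj (op m), U)) ≤
      LinearMap.ker (secₗ φ U) := by
    rw [← sIdeal_pow, sIdeal_smul_le_iff]
    intro a ha x _
    rw [LinearMap.mem_ker, map_smul, secₗ_apply, ← smulMod_app, hQ a ha]
    rfl
  exact this hs

end System

variable {F G : ℕᵒᵖ ⥤ X.Modules}

/-- A levelwise map out of a re-indexed formal module factors through the transition maps. -/
theorem existsUnique_of_reindex (hF : _root_.Formal.IsCohFormal I F)
    (hG : _root_.Formal.IsCohFormal I G) (m : ℕ → ℕ) (hm : Monotone m) (hle : ∀ n : ℕ, n ≤ m n)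
    (π : DerCA.reindex F hm ⟶ F) (hπ : ∀ n : ℕ, π.app (op n) = F.map (homOfLE (hle n)).op)
    (α : DerCA.reindex F hm ⟶ G) : ∃! β : F ⟶ G, π ≫ β = α := by
  haveI : ∀ n, Epi (π.app (op n)) := fun n => by rw [hπ]; exact epi_map hF (hle n)
  have hd : ∀ n, ∃ ψ : F.obj (op n) ⟶ G.obj (op n), π.app (op n) ≫ ψ = α.app (op n) := fun n => by
    haveI := qcoh hG n
    obtain ⟨ψ, hψ⟩ := exists_desc_map hF (hle n) (α.app (op n)) (hG.2.1 n)
    exact ⟨ψ, by rw [hπ]; exact hψ⟩
  choose ψ hψ using hd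
  refine ⟨{ app := fun n => ψ n.unop, naturality := ?_ }, ?_, fun β hβ => ?_⟩
  · rintro ⟨a⟩ ⟨b⟩ f
    rw [← cancel_epi (π.app (op a)), reassoc_of% (hψ a)]
    rw [← α.naturality, ← hψ b, ← π.naturality_assoc]
  · ext ⟨n⟩ : 2
    exact hψ n
  · ext ⟨n⟩ : 2
    rw [← cancel_epi (π.app (op n))]
    exact (congrArg (fun χ => NatTrans.app χ (op n)) hβ).trans (hψ n).symm

/-- Pro-isomorphic formal modules are isomorphic. -/
theorem nonempty_iso_of_isProIso (hF : _root_.Formal.IsCohFormal I F)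
    (hG : _root_.Formal.IsCohFormal I G) (m : ℕ → ℕ) (hm : Monotone m) (hle : ∀ n : ℕ, n ≤ m n)
    (a : DerCA.reindex F hm ⟶ G) (ha : DerCA.IsProIso a) : Nonempty (F ≅ G) := by
  let π : DerCA.reindex F hm ⟶ F :=
    { app := fun n => F.map (homOfLE (hle n.unop)).op
      naturality := fun {n n'} f =>
        (F.map_comp _ _).symm.trans ((congrArg F.map (Subsingleton.elim _ _)).trans (F.map_comp _ _)) }
  obtain ⟨β, hβ, -⟩ := existsUnique_of_reindex hF hG m hm hle π (fun n => rfl) a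
  let a' : ∀ n, F.obj (op (m n)) ⟶ G.obj (op n) := fun n => a.app (op n)
  have hβn : ∀ n, F.map (homOfLE (hle n)).op ≫ β.app (op n) = a' n := fun n =>
    congrArg (fun χ => NatTrans.app χ (op n)) hβ
  haveI : ∀ n, IsIso (β.app (op n)) := fun n => by
    haveI := qcoh hF n
    obtain ⟨r, hr, b₀, hb1₀, hb2₀⟩ := ha n
    let b : G.obj (op r) ⟶ F.obj (op (m n)) := b₀
    have hb1 : a' r ≫ b = F.map (homOfLE (hm hr)).op := hb1₀.trans (congrArg F.map (Subsingleton.elim _ _))
    have hb2 : b ≫ a' n = G.map (homOfLE hr).op := hb2₀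
    haveI := epi_map hG hr
    haveI : Epi (β.app (op n)) := by
      have e : (b ≫ F.map (homOfLE (hle n)).op) ≫ β.app (op n) = G.map (homOfLE hr).op := by
        rw [Category.assoc, hβn, hb2]
      haveI : Epi ((b ≫ F.map (homOfLE (hle n)).op) ≫ β.app (op n)) := by rw [e]; infer_instance
      exact epi_of_epi (b ≫ F.map (homOfLE (hle n)).op) _
    obtain ⟨γ, hγ⟩ := exists_desc_map hG hr (b ≫ F.map (homOfLE (hle n)).op) (hF.2.1 n)
    have hnr : n ≤ m r := hr.trans (hle r)
    have h1 : β.app (op n) ≫ γ = 𝟙 _ := by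
      haveI := epi_map hF hnr
      rw [← cancel_epi (F.map (homOfLE hnr).op), Category.comp_id]
      have e1 : F.map (homOfLE hnr).op ≫ β.app (op n) = a' r ≫ G.map (homOfLE hr).op := by
        rw [show (homOfLE hnr).op = (homOfLE (hle r)).op ≫ (homOfLE hr).op from rfl, F.map_comp,
          Category.assoc, β.naturality, ← Category.assoc, hβn]
      rw [reassoc_of% e1, hγ, ← Category.assoc, hb1, ← F.map_comp]
      rfl
    haveI : Mono (β.app (op n)) := (SplitMono.mk γ h1).mono
    exact isIso_of_mono_of_epi _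
  haveI : ∀ n, IsIso (β.app n) := fun n => this n.unop
  haveI := NatIso.isIso_of_isIso_app β
  exact ⟨asIso β⟩

/-- A compatible family `M ⟶ G_n`, surjective on affine opens with kernels `I^(n+1) M`, identifies
`G` with the completion of `M`. -/
theorem exists_completion_iso (hG : _root_.Formal.IsCohFormal I G) [M.IsQuasicoherent]
    (u : ∀ n, M ⟶ G.obj (op n)) (hu : ∀ n, u (n + 1) ≫ G.map (homOfLE (Nat.le_succ n)).op = u n)
    (hs : ∀ n (U : X.Opens), IsAffineOpen U → Function.Surjective ((u n).app U))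
    (hk : ∀ n (U : X.Opens), IsAffineOpen U → ∀ s, (u n).app U s = 0 ↔
      s ∈ sIdeal I U ^ (n + 1) • (⊤ : Submodule Γ(X, U) Γ(M, U))) :
    ∃ β : _root_.Formal.completion I M ≅ G,
      ∀ n, _root_.Formal.modPowπ I (n + 1) M ≫ β.hom.app (op n) = u n := by
  have hd : ∀ n, ∃ h : _root_.Formal.smulFamily (I ^ (n + 1)) M ≫ u n = 0,
      IsIso (cokernel.desc _ (u n) h) := fun n => by
    haveI := qcoh hG n
    refine exists_isIso_desc (I ^ (n + 1)) (u n) (hs n) fun U hU s => ?_
    rw [sIdeal_pow]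
    exact hk n U hU s
  choose h hiso using hd
  let app : ∀ n, _root_.Formal.modPow I (n + 1) M ⟶ G.obj (op n) := fun n =>
    cokernel.desc _ (u n) (h n)
  let β : _root_.Formal.completion I M ⟶ G := NatTrans.ofOpSequence app fun n => by
    simp only [_root_.Formal.completion, Functor.ofOpSequence_map_homOfLE_succ]
    refine coequalizer.hom_ext ?_
    change _root_.Formal.modPowπ I (n + 1 + 1) M ≫ _root_.Formal.modPowTrans I (n + 1) M ≫ app n =
      _root_.Formal.modPowπ I (n + 1 + 1) M ≫ app (n + 1) ≫ _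
    rw [← Category.assoc, _root_.Formal.modPowπ_trans, ← Category.assoc]
    exact (cokernel.π_desc _ _ (h n)).trans
      ((hu n).symm.trans (congrArg (· ≫ _) (cokernel.π_desc _ _ (h (n + 1))).symm))
  haveI : ∀ n, IsIso (β.app n) := fun n => hiso n.unop
  haveI := NatIso.isIso_of_isIso_app β
  exact ⟨asIso β, fun n => cokernel.π_desc _ _ (h n)⟩

end Groth.Agent.H78.Formal.Sys
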