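import Groth.Agent.H78.Formal.Compl
import Mathlib.AlgebraicGeometry.Modules.Sheaf
import Mathlib.CategoryTheory.Adjunction.Limits

/-!
# Formal modules under left adjoints of direct images
-/

set_option linter.style.haveILetI false

universe u

open CategoryTheory Limits AlgebraicGeometry Opposite TopologicalSpace

namespace Groth.Agent.H78.Formal.PullSys

open Groth.Agent.Lib Groth.Agent.Lib.CohBasics.Affine Groth.Agent.H78.Formal.Sections

variable {A : Type u} [CommRing A]

section Factor

variable {X : Scheme.{u}} [X.Over (Spec (CommRingCat.of A))] {J : Ideal A} {M N Q : X.Modules}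

lemma family_comp_iff (φ : M ⟶ Q) :
    _root_.Formal.smulFamily J M ≫ φ = 0 ↔ ∀ a ∈ J, _root_.Formal.smulMod A M a ≫ φ = 0 := by
  constructor
  · intro h a ha
    have := congrArg (Sigma.ι (fun _ : J => M) ⟨a, ha⟩ ≫ ·) h
    simpa [_root_.Formal.smulFamily] using this
  · intro h
    apply Sigma.hom_ext
    intro a
    rw [_root_.Formal.smulFamily, Sigma.ι_desc_assoc, comp_zero]
    exact h a a.2

lemma family_π (J : Ideal A) (M : X.Modules) {a : A} (ha : a ∈ J) :
    _root_.Formal.smulMod A M a ≫ cokernel.π (_root_.Formal.smulFamily J M) = 0 :=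
  (family_comp_iff _).mp (cokernel.condition _) a ha

/-- An epimorphism through which every map killing `J` factors exhibits `M / JM`. -/
lemma exists_isIso_desc_of_factor (t : M ⟶ N) [Epi t]
    (h0 : ∀ a ∈ J, _root_.Formal.smulMod A M a ≫ t = 0)
    (hfac : ∀ (Q : X.Modules) (φ : M ⟶ Q), (∀ a ∈ J, _root_.Formal.smulMod A M a ≫ φ = 0) →
      ∃ ψ, t ≫ ψ = φ) :
    ∃ h : _root_.Formal.smulFamily J M ≫ t = 0, IsIso (cokernel.desc _ t h) := by
  refine ⟨(family_comp_iff t).mpr h0, ?_⟩
  obtain ⟨ψ, hψ⟩ := hfac _ (cokernel.π (_root_.Formal.smulFamily J M)) fun a ha => family_π J M ha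
  refine ⟨ψ, ?_, ?_⟩
  · apply coequalizer.hom_ext
    erw [cokernel.π_desc_assoc, hψ, Category.comp_id]
  · rw [← cancel_epi t, reassoc_of% hψ, cokernel.π_desc, Category.comp_id]

end Factor

section Push

variable {X Y : Scheme.{u}} [X.Over (Spec (CommRingCat.of A))] [Y.Over (Spec (CommRingCat.of A))]
variable {f : X ⟶ Y} (hf : f ≫ (Y ↘ Spec (CommRingCat.of A)) = X ↘ Spec (CommRingCat.of A))
include hf

lemma sMap_app (V : Y.Opens) (a : A) :
    f.app V (sMap A V a) = sMap A (f ⁻¹ᵁ V) a := by
  change f.app V (Coh.resTop Y (op V) (Coh.toGlobal (Y ↘ Spec (CommRingCat.of A)) a)) =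
    Coh.resTop X (op (f ⁻¹ᵁ V)) (Coh.toGlobal (X ↘ Spec (CommRingCat.of A)) a)
  rw [← hf]
  change f.app V (Y.presheaf.map (homOfLE (le_top (a := V))).op
      ((Y ↘ Spec (CommRingCat.of A)).appTop ((Scheme.ΓSpecIso (CommRingCat.of A)).inv a))) =
    X.presheaf.map (homOfLE (le_top (a := f ⁻¹ᵁ V))).op
      ((f ≫ Y ↘ Spec (CommRingCat.of A)).appTop ((Scheme.ΓSpecIso (CommRingCat.of A)).inv a))
  rw [Scheme.Hom.comp_appTop]
  exact (ConcreteCategory.congr_hom (f.naturality (homOfLE (le_top (a := V))).op) _)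

lemma smulMod_pushforward (N : X.Modules) (a : A) :
    (Scheme.Modules.pushforward f).map (_root_.Formal.smulMod A N a) =
      _root_.Formal.smulMod A ((Scheme.Modules.pushforward f).obj N) a := by
  refine Scheme.Modules.hom_ext _ _ fun V => ConcreteCategory.ext_apply fun s => ?_
  refine (smulMod_app N a (f ⁻¹ᵁ V) s).trans ?_
  refine Eq.trans ?_ (smulMod_app _ a V s).symm
  exact congrArg (fun r : Γ(X, f ⁻¹ᵁ V) => @HSMul.hSMul Γ(X, f ⁻¹ᵁ V) Γ(N, f ⁻¹ᵁ V) _ _ r s) (sMap_app hf V a).symm

variable {L : Y.Modules ⥤ X.Modules} (adj : L ⊣ Scheme.Modules.pushforward f)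
include adj

lemma map_smulMod (M : Y.Modules) (a : A) :
    L.map (_root_.Formal.smulMod A M a) = _root_.Formal.smulMod A (L.obj M) a := by
  apply (adj.homEquiv M (L.obj M)).injective
  rw [Adjunction.homEquiv_unit, Adjunction.homEquiv_unit, smulMod_pushforward hf]
  exact (adj.unit.naturality (_root_.Formal.smulMod A M a)).symm.trans (smulMod_comp (adj.unit.app M) a)

lemma killedBy_obj {J : Ideal A} {M : Y.Modules} (h : _root_.Formal.KilledBy J M) :
    _root_.Formal.KilledBy J (L.obj M) := fun a ha => by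
  haveI := adj.isLeftAdjoint
  rw [← map_smulMod hf adj, h a ha]
  refine (adj.homEquiv M (L.obj M)).injective ?_
  rw [Adjunction.homEquiv_unit, Adjunction.homEquiv_unit]
  exact (adj.unit.naturality _).symm.trans (zero_comp.trans (by
    rw [Functor.map_zero, comp_zero]))

/-- A quotient by `J` on `Y` gives one on `X`. -/
lemma exists_isIso_desc_map {J : Ideal A} {M N : Y.Modules} (t : M ⟶ N)
    (h : _root_.Formal.smulFamily J M ≫ t = 0) [IsIso (cokernel.desc _ t h)] :
    ∃ h' : _root_.Formal.smulFamily J (L.obj M) ≫ L.map t = 0,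
      IsIso (cokernel.desc _ (L.map t) h') := by
  haveI := adj.isLeftAdjoint
  have et : cokernel.π (_root_.Formal.smulFamily J M) ≫ cokernel.desc _ t h = t := cokernel.π_desc _ _ _
  haveI : Epi t := et ▸ epi_comp _ _
  haveI : Epi (L.map t) := L.map_epi t
  refine exists_isIso_desc_of_factor _ (fun a ha => ?_) fun Q φ hφ => ?_
  · apply (adj.homEquiv M (L.obj N)).injective
    have e1 : adj.homEquiv M (L.obj N) (L.map t) = t ≫ adj.unit.app N := by
      rw [Adjunction.homEquiv_unit]
      exact (adj.unit.naturality t).symm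
    rw [← map_smulMod hf adj, adj.homEquiv_naturality_left, e1, ← Category.assoc,
      (family_comp_iff t).mp h a ha, zero_comp, adj.homEquiv_unit, Functor.map_zero, comp_zero]
  · have hφ' : _root_.Formal.smulFamily J M ≫ adj.homEquiv M Q φ = 0 :=
      (family_comp_iff _).mpr fun a ha => by
        rw [← adj.homEquiv_naturality_left, map_smulMod hf adj, hφ a ha, adj.homEquiv_unit,
          Functor.map_zero, comp_zero]
    refine ⟨(adj.homEquiv N Q).symm (inv (cokernel.desc _ t h) ≫ cokernel.desc _ _ hφ'), ?_⟩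
    apply (adj.homEquiv M Q).injective
    rw [adj.homEquiv_naturality_left, Equiv.apply_symm_apply]
    calc t ≫ inv (cokernel.desc _ t h) ≫ cokernel.desc _ _ hφ'
        = (cokernel.π _ ≫ cokernel.desc _ t h) ≫ inv (cokernel.desc _ t h) ≫ cokernel.desc _ _ hφ' := by
          rw [et]
      _ = _ := by rw [Category.assoc, IsIso.hom_inv_id_assoc, cokernel.π_desc]

variable {I : Ideal A}

/-- Formal modules pull back to formal modules, as soon as coherence is preserved. -/
theorem isCohFormal_comp {G : ℕᵒᵖ ⥤ Y.Modules} (hG : _root_.Formal.IsCohFormal I G)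
    (hc : ∀ M : Y.Modules, Coh.IsCoh M → Coh.IsCoh (L.obj M)) :
    _root_.Formal.IsCohFormal I (G ⋙ L) :=
  ⟨fun n => hc _ (hG.1 n), fun n => killedBy_obj hf adj (hG.2.1 n), fun n => by
    obtain ⟨h, hh⟩ := hG.2.2 n
    exact exists_isIso_desc_map hf adj (G.map (homOfLE (Nat.le_succ n)).op) h⟩

/-- Left adjoints of direct images commute with completion. -/
theorem nonempty_completion_iso (M : Y.Modules) :
    Nonempty (_root_.Formal.completion I M ⋙ L ≅ _root_.Formal.completion I (L.obj M)) := by
  have hd : ∀ n, ∃ h : _root_.Formal.smulFamily (I ^ (n + 1)) (L.obj M) ≫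
      L.map (_root_.Formal.modPowπ I (n + 1) M) = 0, IsIso (cokernel.desc _ _ h) := fun n => by
    have h : _root_.Formal.smulFamily (I ^ (n + 1)) M ≫ _root_.Formal.modPowπ I (n + 1) M = 0 :=
      cokernel.condition _
    haveI : IsIso (cokernel.desc _ (_root_.Formal.modPowπ I (n + 1) M) h) := by
      have e : cokernel.desc _ (_root_.Formal.modPowπ I (n + 1) M) h = 𝟙 _ :=
        coequalizer.hom_ext ((cokernel.π_desc _ _ _).trans (Category.comp_id _).symm)
      rw [e]
      exact IsIso.id _
    exact exists_isIso_desc_map hf adj _ h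
  choose h hiso using hd
  let app : ∀ n, _root_.Formal.modPow I (n + 1) (L.obj M) ⟶ L.obj (_root_.Formal.modPow I (n + 1) M) :=
    fun n => cokernel.desc _ _ (h n)
  let β : _root_.Formal.completion I (L.obj M) ⟶ _root_.Formal.completion I M ⋙ L :=
    NatTrans.ofOpSequence app fun n => by
      simp only [_root_.Formal.completion, Functor.comp_map, Functor.ofOpSequence_map_homOfLE_succ]
      refine coequalizer.hom_ext ?_
      change _root_.Formal.modPowπ I (n + 1 + 1) (L.obj M) ≫
          _root_.Formal.modPowTrans I (n + 1) (L.obj M) ≫ app n =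
        _root_.Formal.modPowπ I (n + 1 + 1) (L.obj M) ≫ app (n + 1) ≫
          L.map (_root_.Formal.modPowTrans I (n + 1) M)
      rw [← Category.assoc, _root_.Formal.modPowπ_trans]
      refine (cokernel.π_desc _ _ (h n)).trans ?_
      refine Eq.trans ?_ (congrArg (· ≫ L.map (_root_.Formal.modPowTrans I (n + 1) M))
        (cokernel.π_desc _ _ (h (n + 1)))).symm |>.trans (Category.assoc _ _ _)
      rw [← L.map_comp, _root_.Formal.modPowπ_trans]
  haveI : ∀ n, IsIso (β.app n) := fun n => hiso n.unop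
  haveI := NatIso.isIso_of_isIso_app β
  exact ⟨(asIso β).symm⟩

end Push

/-- Being a coherent formal module is invariant under isomorphism. -/
theorem isCohFormal_of_iso {X : Scheme.{u}} [X.Over (Spec (CommRingCat.of A))] {I : Ideal A}
    {F G : ℕᵒᵖ ⥤ X.Modules} (e : F ≅ G) (hF : _root_.Formal.IsCohFormal I F) :
    _root_.Formal.IsCohFormal I G := by
  refine ⟨fun n => CohBasics.Closure.isCoh_of_iso (e.app (op n)) (hF.1 n), fun n a ha => ?_, fun n => ?_⟩
  · rw [← cancel_epi (e.hom.app (op n)), ← smulMod_comp, hF.2.1 n a ha, zero_comp, comp_zero]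
  · obtain ⟨h, hi⟩ := hF.2.2 n
    have et : cokernel.π _ ≫ cokernel.desc _ _ h = F.map (homOfLE (Nat.le_succ n)).op :=
      cokernel.π_desc _ _ _
    haveI : Epi (F.map (homOfLE (Nat.le_succ n)).op) := et ▸ epi_comp _ _
    have hnat := e.hom.naturality (homOfLE (Nat.le_succ n)).op
    haveI : Epi (G.map (homOfLE (Nat.le_succ n)).op) := by
      haveI : Epi (e.hom.app (op (n + 1)) ≫ G.map (homOfLE (Nat.le_succ n)).op) := by
        rw [← hnat]; infer_instance
      exact epi_of_epi (e.hom.app (op (n + 1))) _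
    refine exists_isIso_desc_of_factor _ (fun a ha => ?_) fun Q φ hφ => ?_
    · rw [← cancel_epi (e.hom.app (op (n + 1))), ← Category.assoc, ← smulMod_comp, Category.assoc,
        ← hnat, ← Category.assoc, (family_comp_iff _).mp h a ha, zero_comp, comp_zero]
    · have hφ' : _root_.Formal.smulFamily (I ^ (n + 1)) (F.obj (op (n + 1))) ≫
          e.hom.app (op (n + 1)) ≫ φ = 0 := (family_comp_iff _).mpr fun a ha => by
        rw [← Category.assoc, smulMod_comp, Category.assoc, hφ a ha, comp_zero]
      refine ⟨e.inv.app (op n) ≫ inv (cokernel.desc _ _ h) ≫ cokernel.desc _ _ hφ', ?_⟩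
      rw [← cancel_epi (e.hom.app (op (n + 1))), ← Category.assoc, ← hnat, Category.assoc,
        ← Category.assoc (e.hom.app (op n)), Iso.hom_inv_id_app, Category.id_comp]
      refine (congrArg (· ≫ _) et.symm).trans ?_
      rw [Category.assoc, IsIso.hom_inv_id_assoc, cokernel.π_desc]

end Groth.Agent.H78.Formal.PullSys
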