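import Groth.Agent.H78.Formal.PullSys
import Groth.Agent.Lib.QCoh.Pullback
import Groth.Agent.Lib.QCoh.Pushforward
import Groth.Agent.Lib.Modules.SupportOps
import Groth.Agent.Lib.Modules.ExtendFT

/-!
# Restriction, inverse image and extension of coherent modules
-/

set_option linter.style.haveILetI false

universe u

open CategoryTheory Limits AlgebraicGeometry Opposite TopologicalSpace

namespace Groth.Agent.H78.Formal.Extend

open Groth.Agent.Lib

variable {A : Type u} [CommRing A]

lemma isCoh_pull {X Y : Scheme.{u}} (f : X ⟶ Y) {M : Y.Modules} (hM : Coh.IsCoh M) :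
    Coh.IsCoh ((Scheme.Modules.pullback f).obj M) :=
  haveI := hM.1
  haveI := hM.2
  ⟨QCoh.Pullback.isQCoh_pullback f M, Modules.SupportOps.isFT_pullback f M⟩

lemma isCoh_restr {X Y : Scheme.{u}} (f : X ⟶ Y) [IsOpenImmersion f] {M : Y.Modules}
    (hM : Coh.IsCoh M) : Coh.IsCoh ((Scheme.Modules.restrictFunctor f).obj M) :=
  CohBasics.Closure.isCoh_of_iso ((Scheme.Modules.restrictFunctorIsoPullback f).app M).symm
    (isCoh_pull f hM)

/-- A coherent module on an open of a locally Noetherian scheme extends to the whole scheme. -/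
theorem exists_extension {X : Scheme.{u}} [IsLocallyNoetherian X] (U : X.Opens) [QuasiCompact U.ι]
    {F : (U : Scheme.{u}).Modules} (hF : Coh.IsCoh F) :
    ∃ G : X.Modules, Coh.IsCoh G ∧ Nonempty (G.restrict U.ι ≅ F) := by
  haveI := hF.1
  haveI := QCoh.Pushforward.isQCoh_pushforward (f := U.ι) (M := F)
  obtain ⟨G, -, e, -, hq, hft, -⟩ := Modules.ExtendFT.exists_extension_of_noetherian
    (F := (Scheme.Modules.pushforward U.ι).obj F) (fun x => by
      obtain ⟨W, hW, hx⟩ := Groth.Agent.H78.Formal.Sections.exists_affine x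
      haveI : IsNoetherianRing Γ(X, W) := IsLocallyNoetherian.component_noetherian ⟨W, hW⟩
      haveI : NoetherianSpace (W : Set X) := AlgebraicGeometry.noetherianSpace_of_isAffineOpen W hW
      exact ⟨W, hx, this⟩)
    U F (asIso ((Scheme.Modules.restrictAdjunction U.ι).counit.app F)).inv hF.2
  exact ⟨G, ⟨hq, hft⟩, ⟨e⟩⟩

variable {X Y : Scheme.{u}} [X.Over (Spec (CommRingCat.of A))] [Y.Over (Spec (CommRingCat.of A))]
  {f : X ⟶ Y} (hf : f ≫ (Y ↘ Spec (CommRingCat.of A)) = X ↘ Spec (CommRingCat.of A)) {I : Ideal A}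
include hf

/-- The inverse image of a coherent formal module is a coherent formal module. -/
theorem isCohFormal_pullback {G : ℕᵒᵖ ⥤ Y.Modules} (hG : _root_.Formal.IsCohFormal I G) :
    _root_.Formal.IsCohFormal I (G ⋙ Scheme.Modules.pullback f) :=
  PullSys.isCohFormal_comp hf (Scheme.Modules.pullbackPushforwardAdjunction f) hG fun _ =>
    isCoh_pull f

variable [IsOpenImmersion f]

/-- The restriction of a coherent formal module is a coherent formal module. -/
theorem isCohFormal_restr {G : ℕᵒᵖ ⥤ Y.Modules} (hG : _root_.Formal.IsCohFormal I G) :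
    _root_.Formal.IsCohFormal I (G ⋙ Scheme.Modules.restrictFunctor f) :=
  PullSys.isCohFormal_comp hf (Scheme.Modules.restrictAdjunction f) hG fun _ => isCoh_restr f

/-- Restriction commutes with completion. -/
theorem completion_restr_iso (M : Y.Modules) :
    Nonempty (_root_.Formal.completion I M ⋙ Scheme.Modules.restrictFunctor f ≅
      _root_.Formal.completion I ((Scheme.Modules.restrictFunctor f).obj M)) :=
  PullSys.nonempty_completion_iso hf (Scheme.Modules.restrictAdjunction f) M

end Groth.Agent.H78.Formal.Extend
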