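import Groth.Agent.H78.Formal.Extend
import Groth.Agent.H78.Formal.Algebraize
import Groth.Prelude.Def_Algz

/-!
# Extension of formal modules from an open of an affine scheme
-/

set_option linter.style.haveILetI false

universe u

open CategoryTheory Limits AlgebraicGeometry Opposite TopologicalSpace

namespace Groth.Agent.H78.Formal.Canonical

open Groth.Agent.Lib

variable {A : Type u} [CommRing A]

lemma hcompat (U : (Spec (CommRingCat.of A)).Opens) :
    letI : (Spec (CommRingCat.of A)).Over (Spec (CommRingCat.of A)) := ⟨𝟙 _⟩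
    U.ι ≫ (Spec (CommRingCat.of A) ↘ Spec (CommRingCat.of A)) =
      ((U : Scheme.{u}) ↘ Spec (CommRingCat.of A)) :=
  Category.comp_id _

lemma quasiCompact_ι [IsNoetherianRing A] (U : (Spec (CommRingCat.of A)).Opens) : QuasiCompact U.ι :=
  inferInstance

/-- The sheaves of sections of a system restrict to the system. -/
lemma nonempty_sectSys_restr [IsNoetherianRing A] (U : (Spec (CommRingCat.of A)).Opens)
    (G : ℕᵒᵖ ⥤ (U : Scheme.{u}).Modules) (hG : ∀ n, (G.obj n).IsQuasicoherent) :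
    Nonempty (Algz.sectSys A U G ⋙ Scheme.Modules.restrictFunctor U.ι ≅ G) := by
  haveI := quasiCompact_ι U
  let β : Algz.sectSys A U G ⟶ G ⋙ Scheme.Modules.pushforward U.ι :=
    { app := fun n => (QCoh.Tilde.specAdj (CommRingCat.of A)).counit.app _
      naturality := fun n m g => (QCoh.Tilde.specAdj (CommRingCat.of A)).counit.naturality
        ((Scheme.Modules.pushforward U.ι).map (G.map g)) }
  haveI : ∀ n, IsIso (β.app n) := fun n => by
    haveI := hG n
    haveI := QCoh.Pushforward.isQCoh_pushforward (f := U.ι) (M := G.obj n)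
    exact Algebraize.isIso_counit (R := CommRingCat.of A) _
  haveI := NatIso.isIso_of_isIso_app β
  exact ⟨Functor.isoWhiskerRight (asIso β) (Scheme.Modules.restrictFunctor U.ι) ≪≫
    Functor.associator _ _ _ ≪≫
    Functor.isoWhiskerLeft G (Scheme.Modules.restrictFunctorAdjCounitIso U.ι) ≪≫ G.rightUnitor⟩

/-- Pro-isomorphisms are preserved by functors and by an isomorphism of the source. -/
lemma isProIso_map {C D : Type*} [Category C] [Category D] (R : C ⥤ D) {X Y : ARSys.PS C}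
    {G : ARSys.PS D} {m : ℕ → ℕ} {hm : Monotone m} (a : DerCA.reindex X hm ⟶ Y) (e : X ⋙ R ≅ G)
    (ha : DerCA.IsProIso a) :
    ∃ a' : DerCA.reindex G hm ⟶ Y ⋙ R, DerCA.IsProIso a' := by
  let a' : DerCA.reindex G hm ⟶ Y ⋙ R :=
    { app := fun n => e.inv.app _ ≫ R.map (a.app n)
      naturality := fun n n' g => by
        change G.map _ ≫ e.inv.app _ ≫ R.map (a.app n') = (e.inv.app _ ≫ R.map (a.app n)) ≫ R.map (Y.map g)
        rw [← Category.assoc, e.inv.naturality, Category.assoc, Category.assoc, Functor.comp_map,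
          ← R.map_comp, ← R.map_comp]
        exact congrArg (e.inv.app _ ≫ ·) (congrArg R.map (a.naturality g)) }
  refine ⟨a', fun n => ?_⟩
  obtain ⟨r, hr, b, hb1, hb2⟩ := ha n
  refine ⟨r, hr, R.map b ≫ e.hom.app _, ?_, ?_⟩
  · change (e.inv.app _ ≫ R.map (a.app (op r))) ≫ R.map b ≫ e.hom.app _ = _
    rw [Category.assoc, ← Category.assoc (R.map _), ← R.map_comp, hb1]
    exact ((congrArg (e.inv.app _ ≫ ·) (e.hom.naturality _)).trans
      (e.inv_hom_id_app_assoc _ _))
  · change (R.map b ≫ e.hom.app _) ≫ e.inv.app _ ≫ R.map (a.app (op n)) = _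
    rw [Category.assoc, Iso.hom_inv_id_app_assoc, ← R.map_comp, hb2]
    rfl

variable {I : Ideal A}

/-- A canonical extension is an extension. -/
theorem extends_of_canonicallyExtends [IsNoetherianRing A] (U : (Spec (CommRingCat.of A)).Opens)
    (G : ℕᵒᵖ ⥤ (U : Scheme.{u}).Modules) (hG : _root_.Formal.IsCohFormal I G)
    (h : _root_.Algz.CanonicallyExtends A I U G) :
    @_root_.Algz.Extends A _ (Spec (CommRingCat.of A)) ⟨𝟙 (Spec (CommRingCat.of A))⟩ I U G := by
  letI : (Spec (CommRingCat.of A)).Over (Spec (CommRingCat.of A)) := ⟨𝟙 _⟩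
  obtain ⟨G', hG', m, hm, hle, a, ha⟩ := h
  obtain ⟨e⟩ := nonempty_sectSys_restr U G fun n => (hG.1 n.unop).1
  obtain ⟨a', ha'⟩ := isProIso_map (Scheme.Modules.restrictFunctor U.ι) a e ha
  obtain ⟨i⟩ := Sys.nonempty_iso_of_isProIso hG (Extend.isCohFormal_restr (hcompat U) hG') m hm hle a' ha'
  exact ⟨G', hG', ⟨i.symm⟩⟩

/-- The completion of a coherent module extends. -/
theorem extends_of_completion_iso [IsNoetherianRing A] (U : (Spec (CommRingCat.of A)).Opens)
    (G : ℕᵒᵖ ⥤ (U : Scheme.{u}).Modules) (F : (U : Scheme.{u}).Modules) (hF : Coh.IsCoh F)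
    (e : _root_.Formal.completion I F ≅ G) :
    @_root_.Algz.Extends A _ (Spec (CommRingCat.of A)) ⟨𝟙 (Spec (CommRingCat.of A))⟩ I U G := by
  letI : (Spec (CommRingCat.of A)).Over (Spec (CommRingCat.of A)) := ⟨𝟙 _⟩
  haveI := quasiCompact_ι U
  obtain ⟨F', hF', ⟨e₁⟩⟩ := Extend.exists_extension U hF
  obtain ⟨e₂⟩ := Extend.completion_restr_iso (I := I) (hcompat U) F'
  obtain ⟨e₃⟩ := Algebraize.completion_iso_of_iso I e₁
  exact ⟨_, Compl.isCohFormal_completion I hF', ⟨e₂ ≪≫ e₃ ≪≫ e⟩⟩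

/-- Over a complete base an extendable system is the completion of a coherent module. -/
theorem exists_completion_iso_of_extends [IsNoetherianRing A] [IsAdicComplete I A]
    (U : (Spec (CommRingCat.of A)).Opens) (G : ℕᵒᵖ ⥤ (U : Scheme.{u}).Modules)
    (h : @_root_.Algz.Extends A _ (Spec (CommRingCat.of A)) ⟨𝟙 (Spec (CommRingCat.of A))⟩ I U G) :
    ∃ F : (U : Scheme.{u}).Modules, Coh.IsCoh F ∧ Nonempty (_root_.Formal.completion I F ≅ G) := by
  letI : (Spec (CommRingCat.of A)).Over (Spec (CommRingCat.of A)) := ⟨𝟙 _⟩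
  obtain ⟨G', hG', ⟨e⟩⟩ := h
  obtain ⟨M, hM, ⟨e₁⟩⟩ := Algebraize.exists_completion_iso G' hG'
  obtain ⟨e₂⟩ := Extend.completion_restr_iso (I := I) (hcompat U) M
  exact ⟨_, Extend.isCoh_restr U.ι hM,
    ⟨e₂.symm ≪≫ Functor.isoWhiskerRight e₁ (Scheme.Modules.restrictFunctor U.ι) ≪≫ e⟩⟩

end Groth.Agent.H78.Formal.Canonical
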