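import Groth.Agent.H78.Formal.Sys

/-!
# Elementwise tools on affine opens for formal modules
-/

set_option linter.style.haveILetI false

universe u

open CategoryTheory Limits AlgebraicGeometry Opposite TopologicalSpace

namespace Groth.Agent.H78.Formal.Elem

open Groth.Agent.Lib Groth.Agent.Lib.CohBasics.Affine Groth.Agent.H78.Formal.Sections
  Groth.Agent.H78.Formal.Sys

variable {A : Type u} [CommRing A] {X : Scheme.{u}} [X.Over (Spec (CommRingCat.of A))]
variable {I : Ideal A} {M N P : X.Modules} {U : X.Opens}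

lemma app_eq {φ ψ : M ⟶ N} (h : φ = ψ) (U : X.Opens) (s : Γ(M, U)) : φ.app U s = ψ.app U s := by
  rw [h]

lemma exists_kernel_section (φ : M ⟶ N) (s : Γ(M, U)) (hs : φ.app U s = 0) :
    ∃ t : Γ(kernel φ, U), (kernel.ι φ).app U t = s :=
  QCoh.Closure.sections_exact (S := ShortComplex.mk (kernel.ι φ) φ (kernel.condition φ))
    (ShortComplex.exact_of_f_is_kernel _ (kernelIsKernel _)) U s hs

lemma kernel_app_eq_zero (φ : M ⟶ N) (t : Γ(kernel φ, U)) :
    φ.app U ((kernel.ι φ).app U t) = 0 :=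
  ConcreteCategory.congr_hom (congrArg (fun χ => χ.app U) (kernel.condition φ)) t

lemma biprod_ext {w w' : Γ(M ⊞ N, U)}
    (h₁ : (biprod.fst : M ⊞ N ⟶ M).app U w = (biprod.fst : M ⊞ N ⟶ M).app U w')
    (h₂ : (biprod.snd : M ⊞ N ⟶ N).app U w = (biprod.snd : M ⊞ N ⟶ N).app U w') : w = w' := by
  have e := biprod.total (X := M) (Y := N)
  have e₁ : (biprod.inl : M ⟶ M ⊞ N).app U ((biprod.fst : M ⊞ N ⟶ M).app U w) +
      (biprod.inr : N ⟶ M ⊞ N).app U ((biprod.snd : M ⊞ N ⟶ N).app U w) = w :=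
    app_eq e U w
  have e₂ : (biprod.inl : M ⟶ M ⊞ N).app U ((biprod.fst : M ⊞ N ⟶ M).app U w') +
      (biprod.inr : N ⟶ M ⊞ N).app U ((biprod.snd : M ⊞ N ⟶ N).app U w') = w' :=
    app_eq e U w'
  rw [← e₁, ← e₂, h₁, h₂]

lemma exists_biprod (m : Γ(M, U)) (n : Γ(N, U)) :
    ∃ w : Γ(M ⊞ N, U), (biprod.fst : M ⊞ N ⟶ M).app U w = m ∧
      (biprod.snd : M ⊞ N ⟶ N).app U w = n := by
  refine ⟨(biprod.inl : M ⟶ M ⊞ N).app U m + (biprod.inr : N ⟶ M ⊞ N).app U n, ?_, ?_⟩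
  all_goals rw [map_add]
  · rw [← ConcreteCategory.comp_apply, ← ConcreteCategory.comp_apply, ← Scheme.Modules.Hom.comp_app,
      ← Scheme.Modules.Hom.comp_app, app_eq biprod.inl_fst, app_eq biprod.inr_fst]
    exact add_zero _
  · rw [← ConcreteCategory.comp_apply, ← ConcreteCategory.comp_apply, ← Scheme.Modules.Hom.comp_app,
      ← Scheme.Modules.Hom.comp_app, app_eq biprod.inl_snd, app_eq biprod.inr_snd]
    exact zero_add _

/-- An epimorphism factors maps vanishing on its kernel, tested on an affine cover. -/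
lemma exists_desc_cover [M.IsQuasicoherent] [N.IsQuasicoherent] (t : M ⟶ N) [Epi t] (φ : M ⟶ P)
    (h : ∀ x : X, ∃ U : X.Opens, IsAffineOpen U ∧ x ∈ U ∧ ∀ s, t.app U s = 0 → φ.app U s = 0) :
    ∃ ψ : N ⟶ P, t ≫ ψ = φ := by
  haveI := QCoh.Closure.isQCoh_kernel t
  have hk : kernel.ι t ≫ φ = 0 := eq_zero_of_cover _ fun x => by
    obtain ⟨U, hU, hx, h0⟩ := h x
    exact ⟨U, hU, hx, fun s => h0 _ (kernel_app_eq_zero t s)⟩
  exact ⟨Abelian.epiDesc t φ hk, Abelian.comp_epiDesc t φ hk⟩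

lemma smul_eq_zero_of_killedBy {J : Ideal A} [M.IsQuasicoherent] (h : _root_.Formal.KilledBy J M)
    (hU : IsAffineOpen U) {r : Γ(X, U)} (hr : r ∈ sIdeal J U) (s : Γ(M, U)) : r • s = 0 := by
  rw [← Submodule.mem_bot Γ(X, U), ← (killedBy_iff J).mp h U hU]
  exact Submodule.smul_mem_smul hr trivial

lemma killedBy_kernel {J : Ideal A} (φ : M ⟶ N)
    (h : ∀ a ∈ J, ∀ (U : X.Opens) (s : Γ(M, U)), φ.app U s = 0 → sMap A U a • s = 0) :
    _root_.Formal.KilledBy J (kernel φ) := by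
  intro a ha
  rw [← cancel_mono (kernel.ι φ), smulMod_comp, zero_comp]
  refine Scheme.Modules.hom_ext _ _ fun U => ConcreteCategory.ext_apply fun t => ?_
  exact h a ha U _ (kernel_app_eq_zero φ t)

lemma killedBy_cokernel {J : Ideal A} [M.IsQuasicoherent] [N.IsQuasicoherent] (φ : M ⟶ N)
    (h : ∀ a ∈ J, ∀ U : X.Opens, IsAffineOpen U → ∀ s : Γ(N, U),
      ∃ t : Γ(M, U), φ.app U t = sMap A U a • s) :
    _root_.Formal.KilledBy J (cokernel φ) := by
  intro a ha
  rw [← cancel_epi (cokernel.π φ), ← smulMod_comp, comp_zero]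
  refine hom_ext_affine fun U hU s => ?_
  obtain ⟨t, ht⟩ := h a ha U hU s
  change (cokernel.π φ).app U ((_root_.Formal.smulMod A N a).app U s) = 0
  rw [smulMod_app, ← ht]
  exact ConcreteCategory.congr_hom (congrArg (fun χ => χ.app U) (cokernel.condition φ)) t

lemma range_of_killedBy_cokernel {J : Ideal A} [M.IsQuasicoherent] [N.IsQuasicoherent] (φ : M ⟶ N)
    (h : _root_.Formal.KilledBy J (cokernel φ)) (hU : IsAffineOpen U) :
    sIdeal J U • (⊤ : Submodule Γ(X, U) Γ(N, U)) ≤ LinearMap.range (secₗ φ U) := by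
  rw [sIdeal_smul_le_iff]
  intro a ha s _
  have e : (cokernel.π φ).app U (sMap A U a • s) = 0 := by
    rw [← smulMod_app]
    exact (app_eq ((smulMod_comp (cokernel.π φ) a).trans (by rw [h a ha, comp_zero])) U s)
  haveI := QCoh.Closure.isQCoh_cokernel φ
  haveI := QCoh.Closure.isQCoh_kernel (cokernel.π φ)
  obtain ⟨t, ht⟩ := exists_kernel_section (cokernel.π φ) _ e
  obtain ⟨u, hu⟩ := QCoh.Closure.sections_surjective_of_epi (Abelian.factorThruImage φ) hU t
  refine ⟨u, ?_⟩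
  rw [secₗ_apply, ← ht, ← hu]
  exact (app_eq (Abelian.image.fac φ) U u).symm

lemma mem_ker_of_killedBy_kernel {J : Ideal A} (φ : M ⟶ N)
    (h : _root_.Formal.KilledBy J (kernel φ)) {a : A} (ha : a ∈ J) (s : Γ(M, U))
    (hs : φ.app U s = 0) : sMap A U a • s = 0 := by
  obtain ⟨t, rfl⟩ := exists_kernel_section φ s hs
  rw [← (kernel.ι φ).app_smul, ← smulMod_app, h a ha]
  exact map_zero _

/-- The transition map on sections. -/
noncomputable abbrev tr (F : ℕᵒᵖ ⥤ X.Modules) (U : X.Opens) {n m : ℕ} (h : n ≤ m) :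
    Γ(F.obj (op m), U) →ₗ[Γ(X, U)] Γ(F.obj (op n), U) :=
  secₗ (F.map (homOfLE h).op) U

lemma tr_tr (F : ℕᵒᵖ ⥤ X.Modules) {l n m : ℕ} (h : l ≤ n) (h' : n ≤ m) (s : Γ(F.obj (op m), U)) :
    tr F U h (tr F U h' s) = tr F U (h.trans h') s := by
  rw [tr, tr, tr, secₗ_apply, secₗ_apply, secₗ_apply, ← ConcreteCategory.comp_apply,
    ← Scheme.Modules.Hom.comp_app, ← F.map_comp]
  rfl

lemma tr_self (F : ℕᵒᵖ ⥤ X.Modules) {n : ℕ} (h : n ≤ n) (s : Γ(F.obj (op n), U)) :
    tr F U h s = s :=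
  (app_eq (show F.map (homOfLE h).op = 𝟙 _ from F.map_id _) U s).trans rfl

lemma app_tr {F G : ℕᵒᵖ ⥤ X.Modules} (α : F ⟶ G) {n m : ℕ} (h : n ≤ m) (s : Γ(F.obj (op m), U)) :
    (α.app (op n)).app U (tr F U h s) = tr G U h ((α.app (op m)).app U s) :=
  app_eq (α.naturality (homOfLE h).op) U s

/-- The projection to the `n`-th term of the completion. -/
noncomputable abbrev cπ (I : Ideal A) (M : X.Modules) (n : ℕ) :
    M ⟶ (_root_.Formal.completion I M).obj (op n) :=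
  _root_.Formal.modPowπ I (n + 1) M

lemma cπ_comp (I : Ideal A) (M : X.Modules) {n m : ℕ} (h : n ≤ m) :
    cπ I M m ≫ (_root_.Formal.completion I M).map (homOfLE h).op = cπ I M n := by
  induction h with
  | refl => exact (congrArg (cπ I M n ≫ ·) (CategoryTheory.Functor.map_id _ _)).trans (Category.comp_id _)
  | @step m h ih =>
    rw [show (homOfLE (Nat.le.step h : n ≤ m + 1)).op =
      (homOfLE (Nat.le_succ m)).op ≫ (homOfLE h).op from rfl, Functor.map_comp, ← Category.assoc,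
      show cπ I M (m + 1) ≫ (_root_.Formal.completion I M).map (homOfLE (Nat.le_succ m)).op =
        cπ I M m from ?_, ih]
    simp only [cπ, _root_.Formal.completion, Functor.ofOpSequence_map_homOfLE_succ]
    exact _root_.Formal.modPowπ_trans I (m + 1) M

lemma completion_π_tr (I : Ideal A) (M : X.Modules) {n m : ℕ} (h : n ≤ m) (s : Γ(M, U)) :
    tr (_root_.Formal.completion I M) U h ((cπ I M m).app U s) = (cπ I M n).app U s :=
  app_eq (cπ_comp I M h) U s

lemma killedBy_kernel_affine {J : Ideal A} [M.IsQuasicoherent] [N.IsQuasicoherent] (φ : M ⟶ N)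
    (h : ∀ a ∈ J, ∀ (U : X.Opens), IsAffineOpen U → ∀ s : Γ(M, U), φ.app U s = 0 →
      sMap A U a • s = 0) :
    _root_.Formal.KilledBy J (kernel φ) := by
  intro a ha
  haveI := QCoh.Closure.isQCoh_kernel φ
  rw [← cancel_mono (kernel.ι φ), smulMod_comp, zero_comp]
  exact hom_ext_affine fun U hU t => h a ha U hU _ (kernel_app_eq_zero φ t)

lemma smul_eq_zero_of_forall {J : Ideal A} {s : Γ(M, U)} (h : ∀ a ∈ J, sMap A U a • s = 0)
    {r : Γ(X, U)} (hr : r ∈ sIdeal J U) : r • s = 0 := by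
  have : sIdeal J U ≤ LinearMap.ker (LinearMap.toSpanSingleton Γ(X, U) Γ(M, U) s) :=
    Ideal.map_le_iff_le_comap.mpr fun a ha => h a ha
  exact this hr

lemma cπ_eq_zero_iff [M.IsQuasicoherent] (I : Ideal A) (n : ℕ) (hU : IsAffineOpen U) (s : Γ(M, U)) :
    (cπ I M n).app U s = 0 ↔ s ∈ sIdeal I U ^ (n + 1) • (⊤ : Submodule Γ(X, U) Γ(M, U)) :=
  modPowπ_eq_zero_iff I (n + 1) hU s

lemma cπ_surjective [M.IsQuasicoherent] (I : Ideal A) (n : ℕ) (hU : IsAffineOpen U) :
    Function.Surjective ((cπ I M n).app U) :=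
  modPowπ_surjective I (n + 1) hU

end Groth.Agent.H78.Formal.Elem
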