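import Groth.Agent.H78.Formal.ProML
import Groth.Agent.H78.Formal.Elem
import Groth.Agent.H78.Formal.PullSys
import Groth.Agent.Lib.Adic.Limit
import Groth.Prelude.Def_Formal2
import Mathlib.Algebra.Category.ModuleCat.Sheaf.Limits

/-!
# Sections of the limit of a formal system of quasi-coherent modules
-/

set_option linter.style.haveILetI false
set_option linter.unusedSectionVars false

universe u

open CategoryTheory Limits AlgebraicGeometry Opposite TopologicalSpace

namespace Groth.Agent.H78.Formal.LimSect

open Groth.Agent.Lib Groth.Agent.Lib.CohBasics.Affine Groth.Agent.H78.Formal.Sections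
  Groth.Agent.H78.Formal.Elem

variable {A : Type u} [CommRing A] {X : Scheme.{u}}

/-- Sections over an open, as a functor to modules over the functions. -/
noncomputable def ev (U : X.Opens) : X.Modules ⥤ ModuleCat.{u} Γ(X, U) :=
  SheafOfModules.evaluation X.ringCatSheaf (op U)

instance ev_preservesLimits (U : X.Opens) : PreservesLimitsOfShape ℕᵒᵖ (ev U) :=
  inferInstanceAs (PreservesLimitsOfShape ℕᵒᵖ (SheafOfModules.evaluation X.ringCatSheaf (op U)))

variable (G : ℕᵒᵖ ⥤ X.Modules) {U : X.Opens}

/-- A section of the limit is determined by its components. -/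
lemma section_ext {s t : Γ(limit G, U)}
    (h : ∀ n, (limit.π G (op n)).app U s = (limit.π G (op n)).app U t) : s = t := by
  have hc := isLimitOfPreserves (ev U) (limit.isLimit G)
  exact Concrete.isLimit_ext _ hc _ _ fun ⟨n⟩ => h n

/-- A compatible family of sections is a section of the limit. -/
lemma exists_section (z : ∀ n, Γ(G.obj (op n), U))
    (hz : ∀ n, tr G U (Nat.le_succ n) (z (n + 1)) = z n) :
    ∃ s : Γ(limit G, U), ∀ n, (limit.π G (op n)).app U s = z n := by
  obtain ⟨x, hx⟩ := ProML.exists_limit_elem (G ⋙ ev U) (fun n => (z n : (ev U).obj (G.obj (op n)))) hz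
  refine ⟨(preservesLimitIso (ev U) G).inv.hom x, fun n => ?_⟩
  have e := congrArg (fun φ : limit (G ⋙ ev U) ⟶ (ev U).obj (G.obj (op n)) => φ.hom x)
    (preservesLimitIso_inv_π (ev U) G (op n))
  exact e.trans (hx n)

/-- A morphism is zero as soon as it is zero on affine opens. -/
lemma eq_zero_of_affine {M N : X.Modules} (φ : M ⟶ N)
    (h : ∀ W : X.Opens, IsAffineOpen W → ∀ s, φ.app W s = 0) : φ = 0 := by
  refine Scheme.Modules.hom_ext _ _ fun V => ConcreteCategory.ext_apply fun s => ?_
  refine TopCat.Presheaf.IsSheaf.section_ext N.isSheaf fun x hx => ?_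
  obtain ⟨W, hW, hxW, hWV⟩ := exists_isAffineOpen_mem_and_subset hx
  refine ⟨W, hWV, hxW, ?_⟩
  have e := ConcreteCategory.congr_hom (((Scheme.Modules.toPresheaf X).map φ).naturality (homOfLE (show W ≤ V from hWV)).op) s
  exact e.symm.trans ((h W hW _).trans (map_zero _).symm)

variable [X.Over (Spec (CommRingCat.of A))] {I : Ideal A}

/-- The maps identifying a quotient by `J`, on affine opens. -/
lemma desc_spec {M N : X.Modules} [M.IsQuasicoherent] {n : ℕ} (t : M ⟶ N)
    (h : _root_.Formal.smulFamily (I ^ n) M ≫ t = 0) [IsIso (cokernel.desc _ t h)] {U : X.Opens}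
    (hU : IsAffineOpen U) :
    Function.Surjective (t.app U) ∧
      ∀ s, t.app U s = 0 ↔ s ∈ sIdeal I U ^ n • (⊤ : Submodule Γ(X, U) Γ(M, U)) := by
  have e : ∀ s, t.app U s =
      (cokernel.desc _ t h).app U ((_root_.Formal.modPowπ I n M).app U s) := fun s =>
    (ConcreteCategory.congr_hom (congrArg (fun χ => χ.app U) (cokernel.π_desc _ _ h)) s).symm
  refine ⟨fun w => ?_, fun s => ?_⟩
  · obtain ⟨z, rfl⟩ := (app_bijective (cokernel.desc _ t h) U).2 w
    obtain ⟨s, hs⟩ := modPowπ_surjective (M := M) I n hU z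
    exact ⟨s, (e s).trans (congrArg _ hs)⟩
  · rw [e, ← modPowπ_eq_zero_iff I n hU s]
    exact ⟨fun hz => (app_bijective (cokernel.desc _ t h) U).1 (hz.trans (map_zero _).symm),
      fun hz => (congrArg _ hz).trans (map_zero _)⟩

variable {G}

/-- The sections over an affine open form an adic tower with limit the sections of the limit. -/
lemma isSys (hG : _root_.Formal2.IsQCohFormal I G) (hU : IsAffineOpen U) :
    Adic.Limit.IsSys (L := Γ(limit G, U)) (M := fun n => Γ(G.obj (op n), U)) (sIdeal I U)
      (fun n => secₗ (G.map (homOfLE (Nat.le_succ n)).op) U)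
      (fun n => secₗ (limit.π G (op n)) U) := by
  haveI : ∀ n, (G.obj (op n)).IsQuasicoherent := hG.1
  have hs : ∀ n, Function.Surjective ((G.map (homOfLE (Nat.le_succ n)).op).app U) ∧
      ∀ s, (G.map (homOfLE (Nat.le_succ n)).op).app U s = 0 ↔
        s ∈ sIdeal I U ^ (n + 1) • (⊤ : Submodule Γ(X, U) Γ(G.obj (op (n + 1)), U)) := fun n => by
    obtain ⟨h, hi⟩ := hG.2.2 n
    exact desc_spec _ h hU
  exact
    { hf := fun n => (hs n).1
      hker := fun n => Submodule.ext fun s => (hs n).2 s
      hπ := fun n => LinearMap.ext fun s =>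
        app_eq (limit.w G (homOfLE (Nat.le_succ n)).op) U s
      hinj := fun x hx => section_ext G fun n => (hx n).trans (map_zero _).symm
      hlift := fun y hy => exists_section G y hy }

/-- The limit of a formal system of quasi-coherent modules gives back its terms. -/
theorem exists_isIso_desc (hI : I.FG) (hG : _root_.Formal2.IsQCohFormal I G) (n : ℕ) :
    ∃ h : _root_.Formal.smulFamily (I ^ (n + 1)) (limit G) ≫ limit.π G (op n) = 0,
      IsIso (cokernel.desc _ _ h) := by
  haveI : ∀ m, (G.obj (op m)).IsQuasicoherent := hG.1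
  haveI : Epi (limit.π G (op n)) := by
    constructor
    intro Q g g' hgg
    refine hom_ext_affine fun W hW s => ?_
    obtain ⟨x, rfl⟩ := Adic.Limit.surjective (isSys hG hW) n s
    exact app_eq hgg W x
  refine PullSys.exists_isIso_desc_of_factor _ (fun a ha => ?_) fun Q φ hφ => ?_
  · rw [smulMod_comp, hG.2.1 n a ha, comp_zero]
  · have hk : kernel.ι (limit.π G (op n)) ≫ φ = 0 := eq_zero_of_affine _ fun W hW s => by
      have hs : (kernel.ι (limit.π G (op n))).app W s ∈
          LinearMap.ker (secₗ (limit.π G (op n)) W) := kernel_app_eq_zero _ s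
      rw [Adic.Limit.ker_eq (isSys hG hW) (Ideal.FG.map hI _) n, ← sIdeal_pow] at hs
      change φ.app W ((kernel.ι (limit.π G (op n))).app W s) = 0
      have hle : sIdeal (I ^ (n + 1)) W • (⊤ : Submodule Γ(X, W) Γ(limit G, W)) ≤
          LinearMap.ker (secₗ φ W) := by
        rw [sIdeal_smul_le_iff]
        intro a ha x _
        rw [LinearMap.mem_ker, secₗ_apply, ← smulMod_app]
        exact app_eq (hφ a ha) W x
      exact hle hs
    exact ⟨Abelian.epiDesc _ φ hk, Abelian.comp_epiDesc _ φ hk⟩

end Groth.Agent.H78.Formal.LimSect
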