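import Groth.Agent.H78.Formal.Elem

/-!
# The completion of a coherent module is a coherent formal module
-/

set_option linter.style.haveILetI false

universe u

open CategoryTheory Limits AlgebraicGeometry Opposite TopologicalSpace

namespace Groth.Agent.H78.Formal.Compl

open Groth.Agent.Lib Groth.Agent.Lib.CohBasics.Affine Groth.Agent.H78.Formal.Sections
  Groth.Agent.H78.Formal.Sys Groth.Agent.H78.Formal.Elem

variable {A : Type u} [CommRing A] {X : Scheme.{u}} [X.Over (Spec (CommRingCat.of A))]
variable (I : Ideal A) {M : X.Modules}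

lemma killedBy_modPow [M.IsQuasicoherent] (n : ℕ) :
    _root_.Formal.KilledBy (I ^ n) (_root_.Formal.modPow I n M) := by
  intro a ha
  refine coequalizer.hom_ext ?_
  change _root_.Formal.modPowπ I n M ≫ _ = _root_.Formal.modPowπ I n M ≫ 0
  rw [← smulMod_comp, comp_zero]
  exact smulMod_π (I ^ n) M ha

lemma killedBy_completion [M.IsQuasicoherent] (n : ℕ) :
    _root_.Formal.KilledBy (I ^ (n + 1)) ((_root_.Formal.completion I M).obj (op n)) :=
  killedBy_modPow I (n + 1)

/-- The completion of a coherent module is a coherent formal module. -/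
theorem isCohFormal_completion (hM : Coh.IsCoh M) :
    _root_.Formal.IsCohFormal I (_root_.Formal.completion I M) := by
  haveI := hM.1
  haveI : ∀ n, ((_root_.Formal.completion I M).obj (op n)).IsQuasicoherent := fun n =>
    isQCoh_modPow I (n + 1)
  refine ⟨fun n => isCoh_modPow I (n + 1) hM, fun n => killedBy_completion I n, fun n => ?_⟩
  refine exists_isIso_desc (I ^ (n + 1)) _ (fun U hU w => ?_) fun U hU s => ?_
  · obtain ⟨g, rfl⟩ := modPowπ_surjective (M := M) I (n + 1) hU w
    exact ⟨(cπ I M (n + 1)).app U g, completion_π_tr I M (Nat.le_succ n) g⟩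
  · obtain ⟨g, hg⟩ := modPowπ_surjective (M := M) I (n + 1 + 1) hU s
    have hg' : (cπ I M (n + 1)).app U g = s := hg
    have hmap : sIdeal (I ^ (n + 1)) U •
        (⊤ : Submodule Γ(X, U) Γ((_root_.Formal.completion I M).obj (op (n + 1)), U)) =
        (sIdeal (I ^ (n + 1)) U • (⊤ : Submodule Γ(X, U) Γ(M, U))).map (secₗ (cπ I M (n + 1)) U) := by
      rw [Submodule.map_smul'', Submodule.map_top, LinearMap.range_eq_top.mpr
        (show Function.Surjective (secₗ (cπ I M (n + 1)) U) from modPowπ_surjective I _ hU)]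
    rw [hmap, sIdeal_pow, ← hg']
    change tr (_root_.Formal.completion I M) U (Nat.le_succ n) ((cπ I M (n + 1)).app U g) = 0 ↔ _
    rw [completion_π_tr]
    refine (modPowπ_eq_zero_iff I (n + 1) hU g).trans ⟨fun h => ⟨g, h, rfl⟩, ?_⟩
    rintro ⟨g', hg', e⟩
    have : g - g' ∈ sIdeal I U ^ (n + 1 + 1) • (⊤ : Submodule Γ(X, U) Γ(M, U)) :=
      (modPowπ_eq_zero_iff I (n + 1 + 1) hU _).mp (by
        rw [map_sub, sub_eq_zero]
        exact e.symm)
    have h2 := add_mem (Submodule.smul_mono_left (Ideal.pow_le_pow_right (Nat.le_succ (n + 1))) this) hg'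
    rwa [sub_add_cancel] at h2

end Groth.Agent.H78.Formal.Compl
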