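import Groth.Agent.H78.Formal.Tower
import Groth.Agent.Lib.Excellent.CompletionNoetherian
import Mathlib.RingTheory.AdicCompletion.Completeness
import Mathlib.RingTheory.AdicCompletion.Algebra
import Mathlib.RingTheory.Filtration
import Mathlib.RingTheory.Finiteness.Basic
import Mathlib.Algebra.Module.Torsion.Basic

/-!
# Artin–Rees for morphisms of towers of finite modules

`exists_kernel_lift`: the images of the kernels are eventually the images of the kernel on limits.
`exists_torsion_bound`: torsion compatible sequences are determined by a bounded component.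
Both are proved over the completion of the ring.
-/

set_option linter.style.haveILetI false
set_option linter.unusedSectionVars false

universe u v

namespace Groth.Agent.H78.Formal.Model

open Groth.Agent.H78.Formal

variable {B : Type u} [CommRing B] (I : Ideal B)

/-- The completion acts on a module killed by `I^(n+1)`. -/
@[instance_reducible]
noncomputable def completionModule {N : Type v} [AddCommGroup N] [Module B N] (n : ℕ)
    (h : I ^ (n + 1) • (⊤ : Submodule B N) = ⊥) : Module (AdicCompletion I B) N :=
  letI : Module (B ⧸ I ^ (n + 1)) N := Module.IsTorsionBySet.module (M := N) (I := I ^ (n + 1))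
    fun x a => by
      rw [← Submodule.mem_bot B, ← h]
      exact Submodule.smul_mem_smul a.2 trivial
  Module.compHom N (AdicCompletion.evalₐ I (n + 1)).toRingHom

lemma completion_smul {N : Type v} [AddCommGroup N] [Module B N] {n : ℕ}
    (h : I ^ (n + 1) • (⊤ : Submodule B N) = ⊥) {r : AdicCompletion I B} {b : B}
    (hb : AdicCompletion.evalₐ I (n + 1) r = Ideal.Quotient.mk _ b) (x : N) :
    letI := completionModule I n h
    r • x = b • x := by
  letI : Module (B ⧸ I ^ (n + 1)) N := Module.IsTorsionBySet.module (M := N) (I := I ^ (n + 1))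
    fun x a => by
      rw [← Submodule.mem_bot B, ← h]
      exact Submodule.smul_mem_smul a.2 trivial
  change (AdicCompletion.evalₐ I (n + 1)) r • x = b • x
  rw [hb]
  rfl

lemma completion_algebraMap_smul {N : Type v} [AddCommGroup N] [Module B N] {n : ℕ}
    (h : I ^ (n + 1) • (⊤ : Submodule B N) = ⊥) (b : B) (x : N) :
    letI := completionModule I n h
    algebraMap B (AdicCompletion I B) b • x = b • x :=
  completion_smul I h (AlgHom.commutes _ b) x

lemma exists_rep (r : AdicCompletion I B) : ∃ a : ℕ → B, ∀ n,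
    AdicCompletion.evalₐ I n r = Ideal.Quotient.mk _ (a n) ∧
      (Ideal.Quotient.mk (I ^ n) (a (n + 1)) = Ideal.Quotient.mk (I ^ n) (a n)) := by
  obtain ⟨a, rfl⟩ := AdicCompletion.mk_surjective I B r
  refine ⟨fun n => a n, fun n => ⟨AdicCompletion.evalₐ_mk I n a, ?_⟩⟩
  rw [Ideal.Quotient.eq, ← Ideal.mul_top (I ^ n), ← smul_eq_mul, ← SModEq.sub_mem]
  exact (a.2 (Nat.le_succ n)).symm

section Towers

variable [IsNoetherianRing B]
variable {M M' : ℕ → Type v} [∀ n, AddCommGroup (M n)] [∀ n, Module B (M n)]
  [∀ n, AddCommGroup (M' n)] [∀ n, Module B (M' n)]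
variable (f : ∀ n, M (n + 1) →ₗ[B] M n) (f' : ∀ n, M' (n + 1) →ₗ[B] M' n)

/-- A tower of finite `B`-modules of the shape of a formal module. -/
structure IsFormalTower (f : ∀ n, M (n + 1) →ₗ[B] M n) : Prop where
  killed : ∀ n, I ^ (n + 1) • (⊤ : Submodule B (M n)) = ⊥
  surjective : ∀ n, Function.Surjective (f n)
  ker : ∀ n, LinearMap.ker (f n) = I ^ (n + 1) • (⊤ : Submodule B (M (n + 1)))
  finite : Module.Finite B (M 0)

variable {I f f'}

/-- A linear map between modules killed by powers of `I` is linear over the completion. -/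
lemma map_completion_smul {N N' : Type v} [AddCommGroup N] [Module B N] [AddCommGroup N'] [Module B N']
    {n m : ℕ} (hnm : m = n ∨ m + 1 = n) (h : I ^ (n + 1) • (⊤ : Submodule B N) = ⊥)
    (h' : I ^ (m + 1) • (⊤ : Submodule B N') = ⊥) (g : N →ₗ[B] N') (r : AdicCompletion I B) (x : N) :
    letI := completionModule I n h
    letI := completionModule I m h'
    g (r • x) = r • g x := by
  obtain ⟨a, ha⟩ := exists_rep I r
  rw [completion_smul I h (ha (n + 1)).1, map_smul]
  refine (completion_smul I h' ?_ (g x)).symm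
  rcases hnm with rfl | rfl
  · exact (ha (m + 1)).1
  · rw [(ha (m + 1)).1, ← (ha (m + 1)).2]

/-- A `B`-linear map of the limit data is linear over the completion; the completed data of a tower. -/
lemma exists_complete (hM : IsFormalTower I f) :
    ∃ (mod : ∀ n, Module (AdicCompletion I B) (M n))
      (F : ∀ n, letI := mod; M (n + 1) →ₗ[AdicCompletion I B] M n),
      (∀ n, mod n = completionModule I n (hM.killed n)) ∧ (∀ n x, F n x = f n x) ∧
      letI := mod
      Module.Finite (AdicCompletion I B) (Tower.limMod F) ∧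
        ∀ n, LinearMap.ker (Tower.proj F n) =
          I.map (algebraMap B (AdicCompletion I B)) ^ (n + 1) •
            (⊤ : Submodule (AdicCompletion I B) (Tower.limMod F)) := by
  letI mod : ∀ n, Module (AdicCompletion I B) (M n) := fun n => completionModule I n (hM.killed n)
  let F : ∀ n, M (n + 1) →ₗ[AdicCompletion I B] M n := fun n =>
    { toFun := f n
      map_add' := map_add _
      map_smul' := map_completion_smul (Or.inr rfl) (hM.killed (n + 1)) (hM.killed n) (f n) }
  refine ⟨mod, F, fun n => rfl, fun n x => rfl, ?_⟩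
  set J := I.map (algebraMap B (AdicCompletion I B))
  haveI : IsAdicComplete J (AdicCompletion I B) :=
    (IsAdicComplete.map_algebraMap_iff _ _).mpr
      (AdicCompletion.isAdicComplete (IsNoetherian.noetherian I))
  have hk : ∀ n, J ^ (n + 1) • (⊤ : Submodule (AdicCompletion I B) (M n)) = ⊥ := fun n => by
    rw [← le_bot_iff, Submodule.smul_le]
    intro a ha y _
    rw [← Ideal.map_pow] at ha
    have : Ideal.map (algebraMap B (AdicCompletion I B)) (I ^ (n + 1)) ≤
        LinearMap.ker (LinearMap.toSpanSingleton (AdicCompletion I B) (M n) y) :=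
      Ideal.map_le_iff_le_comap.mpr fun b hb => by
        change algebraMap B (AdicCompletion I B) b • y = 0
        rw [completion_algebraMap_smul I (hM.killed n), ← Submodule.mem_bot B, ← hM.killed n]
        exact Submodule.smul_mem_smul hb trivial
    exact this ha
  have hker : ∀ n, LinearMap.ker (F n) =
      J ^ (n + 1) • (⊤ : Submodule (AdicCompletion I B) (M (n + 1))) := fun n => by
    refine le_antisymm (fun x hx => ?_) ?_
    · have hx' : x ∈ LinearMap.ker (f n) := hx
      rw [hM.ker] at hx'
      induction hx' using Submodule.smul_induction_on' with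
      | smul b hb y hy =>
        rw [← completion_algebraMap_smul I (hM.killed (n + 1))]
        refine Submodule.smul_mem_smul ?_ trivial
        rw [← Ideal.map_pow]
        exact Ideal.mem_map_of_mem _ hb
      | add _ _ _ _ h₁ h₂ => exact add_mem (h₁ ((hM.ker n).ge ‹_›)) (h₂ ((hM.ker n).ge ‹_›))
    · rw [Submodule.smul_le]
      intro a ha y _
      rw [LinearMap.mem_ker, map_smul, ← Submodule.mem_bot (AdicCompletion I B), ← hk n]
      exact Submodule.smul_mem_smul ha trivial
  haveI : Module.Finite B (M 0) := hM.finite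
  haveI : IsScalarTower B (AdicCompletion I B) (M 0) :=
    IsScalarTower.of_algebraMap_smul fun b x => completion_algebraMap_smul I (hM.killed 0) b x
  haveI : Module.Finite (AdicCompletion I B) (M 0) :=
    Module.Finite.of_restrictScalars_finite B _ _
  obtain ⟨h1, -, h3⟩ := Tower.limit_spec J F hk hM.surjective hker
  exact ⟨h1, h3⟩

/-- Kernels of a morphism of towers come, after a uniform shift, from the kernel on limits. -/
theorem exists_kernel_lift (hM : IsFormalTower I f) (hM' : IsFormalTower I f')
    (α : ∀ n, M n →ₗ[B] M' n) (hα : ∀ n x, f' n (α (n + 1) x) = α n (f n x)) :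
    ∃ k : ℕ, ∀ (n : ℕ) (z : ∀ m, M m), (∀ m, f m (z (m + 1)) = z m) → α (n + k) (z (n + k)) = 0 →
      ∃ z' : ∀ m, M m, (∀ m, f m (z' (m + 1)) = z' m) ∧ (∀ m, α m (z' m) = 0) ∧ z' n = z n := by
  obtain ⟨mod, F, hmod, hF, hfin, hker⟩ := exists_complete hM
  obtain ⟨mod', F', hmod', hF', hfin', hker'⟩ := exists_complete hM'
  letI := mod
  letI := mod'
  let αR : ∀ n, M n →ₗ[AdicCompletion I B] M' n := fun n =>
    { toFun := α n
      map_add' := map_add _
      map_smul' := fun r x => by
        have := map_completion_smul (Or.inl rfl) (hM.killed n) (hM'.killed n) (α n) r x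
        rw [← hmod, ← hmod'] at this
        exact this }
  let φ : Tower.limMod F →ₗ[AdicCompletion I B] Tower.limMod F' :=
    LinearMap.codRestrict _ ((LinearMap.pi fun n => (αR n).comp (LinearMap.proj n)).comp
      (Tower.limMod F).subtype) fun z n => by
        change F' n (α (n + 1) (z.1 (n + 1))) = α n (z.1 n)
        rw [hF', hα, ← hF, z.2 n]
  haveI : IsNoetherian (AdicCompletion I B) (Tower.limMod F') := isNoetherian_of_isNoetherianRing_of_finite _ _
  set J := I.map (algebraMap B (AdicCompletion I B))
  obtain ⟨k, hk⟩ := Ideal.exists_pow_inf_eq_pow_smul J (LinearMap.range φ)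
  refine ⟨k, fun n z hz hzero => ?_⟩
  let z₁ : Tower.limMod F := ⟨z, fun m => (hF m _).trans (hz m)⟩
  have hmem : φ z₁ ∈ J ^ (n + k + 1) • (⊤ : Submodule (AdicCompletion I B) (Tower.limMod F')) ⊓
      LinearMap.range φ := by
    refine ⟨?_, z₁, rfl⟩
    rw [← hker']
    exact hzero
  rw [hk _ (by omega)] at hmem
  have hle : J ^ (n + k + 1 - k) • (J ^ k • (⊤ : Submodule (AdicCompletion I B) (Tower.limMod F')) ⊓
      LinearMap.range φ) ≤ (J ^ (n + 1) • (⊤ : Submodule _ (Tower.limMod F))).map φ := by
    rw [Submodule.map_smul'', Submodule.map_top, show n + k + 1 - k = n + 1 by omega]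
    exact Submodule.smul_mono le_rfl inf_le_right
  obtain ⟨w, hw, e⟩ := hle hmem
  rw [← hker] at hw
  refine ⟨(z₁ - w).1, fun m => (hF m _).symm.trans ((z₁ - w).2 m), fun m => ?_, ?_⟩
  · have e' := congrArg (fun x : Tower.limMod F' => x.1 m) (show φ (z₁ - w) = 0 by
      rw [map_sub, e, sub_self])
    exact e'
  · change z n - w.1 n = z n
    rw [show w.1 n = 0 from hw, sub_zero]

/-- Kernel sequences vanishing in degree `n + k` are combinations with coefficients in `I^(n+1)` of
kernel sequences. -/
theorem exists_kernel_filtration (hM : IsFormalTower I f) (hM' : IsFormalTower I f')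
    (α : ∀ n, M n →ₗ[B] M' n) (hα : ∀ n x, f' n (α (n + 1) x) = α n (f n x)) :
    ∃ k : ℕ, ∀ (n : ℕ) (z : ∀ m, M m), (∀ m, f m (z (m + 1)) = z m) → (∀ m, α m (z m) = 0) →
      z (n + k) = 0 → ∀ m, z m ∈ I ^ (n + 1) • Submodule.span B
        {y | ∃ w : ∀ l, M l, (∀ l, f l (w (l + 1)) = w l) ∧ (∀ l, α l (w l) = 0) ∧ w m = y} := by
  obtain ⟨mod, F, hmod, hF, hfin, hker⟩ := exists_complete hM
  letI := mod
  set J := I.map (algebraMap B (AdicCompletion I B))
  haveI : IsNoetherian (AdicCompletion I B) (Tower.limMod F) := isNoetherian_of_isNoetherianRing_of_finite _ _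
  let T : Submodule (AdicCompletion I B) (Tower.limMod F) :=
    { carrier := {z | ∀ l, α l (z.1 l) = 0}
      add_mem' := fun hx hy l => by
        change α l (_ + _) = 0
        rw [map_add, hx l, hy l, add_zero]
      zero_mem' := fun l => map_zero _
      smul_mem' := fun r x hx l => by
        obtain ⟨a, ha⟩ := exists_rep I r
        have e := completion_smul I (hM.killed l) (ha (l + 1)).1 (x.1 l)
        rw [← hmod] at e
        change α l (r • x.1 l) = 0
        rw [e, map_smul, hx l, smul_zero] }
  obtain ⟨k, hk⟩ := Ideal.exists_pow_inf_eq_pow_smul J T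
  refine ⟨k, fun n z hz hzα hzero m => ?_⟩
  let z₁ : Tower.limMod F := ⟨z, fun l => (hF l _).trans (hz l)⟩
  have hmem : z₁ ∈ J ^ (n + k + 1) • (⊤ : Submodule (AdicCompletion I B) (Tower.limMod F)) ⊓ T := by
    refine ⟨?_, hzα⟩
    rw [← hker]
    exact hzero
  rw [hk _ (by omega), show n + k + 1 - k = n + 1 by omega] at hmem
  have hmem' := Submodule.smul_mono le_rfl inf_le_right hmem
  suffices H : ∀ w ∈ J ^ (n + 1) • T, w.1 m ∈ I ^ (n + 1) • Submodule.span B
      {y | ∃ w : ∀ l, M l, (∀ l, f l (w (l + 1)) = w l) ∧ (∀ l, α l (w l) = 0) ∧ w m = y} from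
    H z₁ hmem'
  intro w hw
  refine Submodule.smul_induction_on hw (fun a ha y hy => ?_) fun _ _ h₁ h₂ => add_mem h₁ h₂
  rw [← Ideal.map_pow, Ideal.map] at ha
  have hmemT : ∀ y ∈ T, y.1 m ∈ Submodule.span B
      {y | ∃ w : ∀ l, M l, (∀ l, f l (w (l + 1)) = w l) ∧ (∀ l, α l (w l) = 0) ∧ w m = y} :=
    fun y hy => Submodule.subset_span ⟨y.1, fun l => (hF l _).symm.trans (y.2 l), hy, rfl⟩
  induction ha using Submodule.span_induction generalizing y with
  | mem a ha =>
    obtain ⟨b, hb, rfl⟩ := ha
    have e := completion_algebraMap_smul I (hM.killed m) b (y.1 m)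
    rw [← hmod] at e
    change algebraMap B (AdicCompletion I B) b • y.1 m ∈ _
    rw [e]
    exact Submodule.smul_mem_smul hb (hmemT y hy)
  | zero => rw [zero_smul]; exact zero_mem _
  | add a a' _ _ h₁ h₂ => rw [add_smul]; exact add_mem (h₁ y hy) (h₂ y hy)
  | smul r a _ h => rw [smul_eq_mul, mul_comm, mul_smul]; exact h _ (T.smul_mem r hy)

/-- Torsion compatible sequences are determined by a bounded component. -/
theorem exists_torsion_bound (hM : IsFormalTower I f) (c : ℕ) :
    ∃ k : ℕ, ∀ z : ∀ m, M m, (∀ m, f m (z (m + 1)) = z m) →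
      (∀ m, ∀ a ∈ I ^ c, a • z m = 0) → z k = 0 → ∀ m, z m = 0 := by
  obtain ⟨mod, F, hmod, hF, hfin, hker⟩ := exists_complete hM
  letI := mod
  set J := I.map (algebraMap B (AdicCompletion I B))
  haveI : IsNoetherian (AdicCompletion I B) (Tower.limMod F) := isNoetherian_of_isNoetherianRing_of_finite _ _
  let T : Submodule (AdicCompletion I B) (Tower.limMod F) :=
    { carrier := {z | ∀ a ∈ I ^ c, algebraMap B (AdicCompletion I B) a • z = 0}
      add_mem' := fun hx hy a ha => by rw [smul_add, hx a ha, hy a ha, add_zero]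
      zero_mem' := fun a ha => smul_zero _
      smul_mem' := fun r x hx a ha => by rw [smul_comm, hx a ha, smul_zero] }
  have hT : J ^ c • T = ⊥ := by
    rw [← le_bot_iff, Submodule.smul_le]
    intro a ha t ht
    rw [← Ideal.map_pow] at ha
    have : Ideal.map (algebraMap B (AdicCompletion I B)) (I ^ c) ≤
        LinearMap.ker (LinearMap.toSpanSingleton (AdicCompletion I B) (Tower.limMod F) t) :=
      Ideal.map_le_iff_le_comap.mpr fun b hb => ht b hb
    exact this ha
  obtain ⟨k, hk⟩ := Ideal.exists_pow_inf_eq_pow_smul J T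
  refine ⟨k + c, fun z hz htor hzero m => ?_⟩
  let z₁ : Tower.limMod F := ⟨z, fun m => (hF m _).trans (hz m)⟩
  have hmem : z₁ ∈ J ^ (k + c + 1) • (⊤ : Submodule (AdicCompletion I B) (Tower.limMod F)) ⊓ T := by
    refine ⟨?_, fun a ha => Subtype.ext (funext fun j => ?_)⟩
    · rw [← hker]
      exact hzero
    · have := completion_algebraMap_smul I (hM.killed j) a (z j)
      rw [← hmod] at this
      exact this.trans (htor j a ha)
  rw [hk _ (by omega)] at hmem
  have : z₁ ∈ (⊥ : Submodule (AdicCompletion I B) (Tower.limMod F)) := by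
    rw [← hT]
    exact Submodule.smul_mono (Ideal.pow_le_pow_right (by omega)) inf_le_right hmem
  exact congrArg (fun x : Tower.limMod F => x.1 m) ((Submodule.mem_bot _).mp this)

end Towers

end Groth.Agent.H78.Formal.Model
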