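import Groth.Prelude.Def_DerCA
import Groth.Agent.H78.Formal.Tower
import Groth.Agent.H78.Formal.Model
import Mathlib.Algebra.Category.ModuleCat.Limits
import Mathlib.Algebra.Category.ModuleCat.Subobject
import Mathlib.CategoryTheory.Subobject.Limits

/-!
# Systems of modules pro-isomorphic to adic towers
-/

set_option linter.style.haveILetI false
set_option linter.unusedSectionVars false

universe u

open CategoryTheory Limits Opposite

namespace Groth.Agent.H78.Formal.ProLim

variable {R : Type u} [CommRing R] {X Y : ARSys.PS (ModuleCat.{u} R)}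

lemma imageSubobject_eq_of_range {M M' N : ModuleCat.{u} R} (f : M ⟶ N) (g : M' ⟶ N)
    (h : LinearMap.range f.hom = LinearMap.range g.hom) : imageSubobject f = imageSubobject g := by
  let ι : ModuleCat.of R (LinearMap.range g.hom) ⟶ N := ModuleCat.ofHom (LinearMap.range g.hom).subtype
  haveI : Mono ι := (ModuleCat.mono_iff_injective ι).mpr Subtype.val_injective
  have key : ∀ {M'' : ModuleCat.{u} R} (k : M'' ⟶ N), LinearMap.range k.hom = LinearMap.range g.hom →
      imageSubobject k = Subobject.mk ι := fun k hk => by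
    let p : _ ⟶ ModuleCat.of R (LinearMap.range g.hom) :=
      ModuleCat.ofHom (k.hom.codRestrict (LinearMap.range g.hom) fun x => hk ▸ LinearMap.mem_range_self _ x)
    haveI : Epi p := (ModuleCat.epi_iff_surjective p).mpr fun ⟨z, hz⟩ => by
      obtain ⟨x, hx⟩ := hk.symm ▸ hz
      exact ⟨x, Subtype.ext hx⟩
    have e : k = p ≫ ι := rfl
    rw [e]
    rw [← imageSubobject_mono ι]
    haveI : IsIso (Subobject.ofLE _ _ (imageSubobject_comp_le p ι)) := isIso_of_mono_of_epi _
    exact le_antisymm (imageSubobject_comp_le p ι)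
      (Subobject.le_of_comm (inv (Subobject.ofLE _ _ (imageSubobject_comp_le p ι))) (by simp))
  rw [key f h, key g rfl]

lemma tr_tr (Z : ARSys.PS (ModuleCat.{u} R)) {l n m : ℕ} (h : l ≤ n) (h' : n ≤ m) (z : Z.obj (op m)) :
    (ARSys.tr Z h).hom ((ARSys.tr Z h').hom z) = (ARSys.tr Z (h.trans h')).hom z := by
  change (Z.map _ ≫ Z.map _).hom z = _
  rw [← Z.map_comp]
  rfl

lemma tr_self (Z : ARSys.PS (ModuleCat.{u} R)) {n : ℕ} (h : n ≤ n) (z : Z.obj (op n)) :
    (ARSys.tr Z h).hom z = z := by
  change (Z.map (𝟙 (op n))).hom z = z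
  rw [Z.map_id]
  rfl

/-- On the limit of a tower of finite modules the kernels of the projections are the powers of `I`. -/
theorem ker_proj_le [IsNoetherianRing R] {I : Ideal R} {M : ℕ → Type u} [∀ n, AddCommGroup (M n)]
    [∀ n, Module R (M n)] {f : ∀ n, M (n + 1) →ₗ[R] M n} (hM : Model.IsFormalTower I f) (n : ℕ) :
    LinearMap.ker (Tower.proj f n) ≤ I ^ (n + 1) • (⊤ : Submodule R (Tower.limMod f)) := by
  obtain ⟨mod, F, hmod, hF, -, hker⟩ := Model.exists_complete hM
  letI := mod
  let φ : Tower.limMod F → Tower.limMod f := fun w => ⟨w.1, fun m => (hF m _).symm.trans (w.2 m)⟩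
  have key : ∀ r ∈ Ideal.map (algebraMap R (AdicCompletion I R)) (I ^ (n + 1)), ∀ w : Tower.limMod F,
      φ (r • w) ∈ I ^ (n + 1) • (⊤ : Submodule R (Tower.limMod f)) := by
    intro r hr
    induction hr using Submodule.span_induction with
    | mem r hr =>
      obtain ⟨b, hb, rfl⟩ := hr
      intro w
      have e : φ (algebraMap R (AdicCompletion I R) b • w) = b • φ w := Subtype.ext (funext fun m => by
        change algebraMap R (AdicCompletion I R) b • w.1 m = b • w.1 m
        have h2 := Model.completion_algebraMap_smul I (hM.killed m) b (w.1 m)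
        rw [← hmod] at h2
        exact h2)
      rw [e]
      exact Submodule.smul_mem_smul hb trivial
    | zero =>
      intro w
      have e : φ ((0 : AdicCompletion I R) • w) = 0 :=
        Subtype.ext (funext fun m => zero_smul _ (w.1 m))
      rw [e]
      exact zero_mem _
    | add r r' _ _ h h' =>
      intro w
      have e : φ ((r + r') • w) = φ (r • w) + φ (r' • w) :=
        Subtype.ext (funext fun m => add_smul r r' (w.1 m))
      rw [e]
      exact add_mem (h w) (h' w)
    | smul r r' _ h =>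
      intro w
      rw [smul_eq_mul, mul_comm, mul_smul]
      exact h _
  intro z hz
  let z₁ : Tower.limMod F := ⟨z.1, fun m => (hF m _).trans (z.2 m)⟩
  have h1 : z₁ ∈ LinearMap.ker (Tower.proj F n) := hz
  rw [hker, ← Ideal.map_pow] at h1
  change φ z₁ ∈ _
  refine Submodule.smul_induction_on (p := fun w => φ w ∈ _) h1 (fun r hr w _ => key r hr w)
    fun x y hx hy => ?_
  have e : φ (x + y) = φ x + φ y := rfl
  rw [e]
  exact add_mem hx hy

variable {m : ℕ → ℕ} {hm : Monotone m} {a : DerCA.reindex X hm ⟶ Y}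

/-- The component of the comparison. -/
abbrev comp (a : DerCA.reindex X hm ⟶ Y) (n : ℕ) : X.obj (op (m n)) ⟶ Y.obj (op n) := a.app (op n)

lemma comp_tr {n n' : ℕ} (h : n ≤ n') (z : X.obj (op (m n'))) :
    (comp a n).hom ((ARSys.tr X (hm h)).hom z) = (ARSys.tr Y h).hom ((comp a n').hom z) := by
  have := a.naturality (homOfLE h).op
  exact congrArg (fun φ => φ.hom z) ((congrArg (· ≫ a.app (op n))
    (congrArg X.map (Subsingleton.elim _ _))).trans this)

variable (ha : DerCA.IsProIso a) (hY : ∀ n, Function.Surjective (ARSys.tr Y (Nat.le_succ n)).hom)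
include ha hY

omit ha in
lemma surjective_tr {n n' : ℕ} (h : n ≤ n') : Function.Surjective (ARSys.tr Y h).hom := by
  induction h with
  | refl =>
    intro y
    exact ⟨y, congrArg (fun φ => φ.hom y) (Y.map_id _)⟩
  | @step k h ih =>
    intro y
    obtain ⟨y₁, rfl⟩ := ih y
    obtain ⟨y₂, rfl⟩ := hY k y₁
    exact ⟨y₂, (tr_tr Y h (Nat.le_succ k) y₂).symm⟩

/-- Backward maps send a section to the image of any preimage. -/
lemma back_eq {n r : ℕ} (h : n ≤ r) (b : Y.obj (op r) ⟶ X.obj (op (m n)))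
    (hb : comp a r ≫ b = ARSys.tr X (hm h)) {k : ℕ} (hk : r ≤ k) (z : X.obj (op (m k))) :
    b.hom ((ARSys.tr Y hk).hom ((comp a k).hom z)) = (ARSys.tr X (hm (h.trans hk))).hom z := by
  rw [← comp_tr hk, ← tr_tr X (hm h) (hm hk)]
  exact congrArg (fun φ => φ.hom ((ARSys.tr X (hm hk)).hom z)) hb

omit hY in
lemma exists_back (n : ℕ) : ∃ (r : ℕ) (h : n ≤ r) (b : Y.obj (op r) ⟶ X.obj (op (m n))),
    comp a r ≫ b = ARSys.tr X (hm h) ∧ b ≫ comp a n = ARSys.tr Y h := by
  obtain ⟨r, h, b, h1, h2⟩ := ha n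
  exact ⟨r, h, b, h1.trans (congrArg X.map (Subsingleton.elim _ _)), h2⟩

/-- A system pro-isomorphic to a system with surjective transition maps is Mittag-Leffler. -/
theorem isML (hle : ∀ n, n ≤ m n) : ARSys.IsML X := by
  intro n
  obtain ⟨r, hr, b, hb1, hb2⟩ := exists_back ha n
  refine ⟨m r - n, fun s hs => ?_⟩
  refine imageSubobject_eq_of_range _ _ (le_antisymm ?_ ?_)
  · rintro _ ⟨z, rfl⟩
    exact ⟨(ARSys.tr X (show n + (m r - n) ≤ n + s by omega)).hom z, tr_tr X _ _ z⟩
  · rintro _ ⟨z, rfl⟩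
    have hnr : n ≤ m r := hr.trans (hle r)
    have e : n + (m r - n) = m r := by omega
    let z' : X.obj (op (m r)) := (ARSys.tr X e.ge).hom z
    obtain ⟨k, hk, b', hb1', hb2'⟩ := exists_back ha (max r (n + s))
    obtain ⟨y, hy⟩ := surjective_tr hY ((le_max_left r (n + s)).trans hk) ((comp a r).hom z')
    have hw : (ARSys.tr Y (le_max_left r (n + s))).hom ((comp a (max r (n + s))).hom (b'.hom y)) =
        (comp a r).hom z' := by
      rw [← hy, ← tr_tr Y (le_max_left r (n + s)) hk]
      exact congrArg (fun t => (ARSys.tr Y (le_max_left r (n + s))).hom t)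
        (congrArg (fun φ => φ.hom y) hb2')
    have hA := back_eq ha hY hr b hb1 (le_max_left r (n + s)) (b'.hom y)
    rw [hw] at hA
    have hB := back_eq ha hY hr b hb1 (le_refl r) z'
    rw [tr_self] at hB
    refine ⟨(ARSys.tr X (show n + s ≤ m (max r (n + s)) from
      (le_max_right r _).trans (hle _))).hom (b'.hom y), ?_⟩
    change (ARSys.tr X _).hom ((ARSys.tr X _).hom (b'.hom y)) = (ARSys.tr X (Nat.le_add_right n (m r - n))).hom z
    refine (tr_tr X _ _ _).trans ?_
    rw [← tr_tr X (hle n) (hm (hr.trans (le_max_left r (n + s)))), ← hA, hB]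
    exact (tr_tr X _ _ _).trans (tr_tr X _ _ z)

variable {I : Ideal R} [IsNoetherianRing R]

omit hY in
/-- A limit of a system pro-isomorphic to an adic tower of finite modules has the adic topology. -/
theorem exists_ker_le (hle : ∀ n, n ≤ m n) [Module.Finite R (Y.obj (op 0))]
    (hT : ∀ n, Function.Surjective (ARSys.tr Y (Nat.le_succ n)).hom ∧
      LinearMap.ker (ARSys.tr Y (Nat.le_succ n)).hom = I ^ (n + 1) • (⊤ : Submodule R (Y.obj (op (n + 1)))) ∧
      I ^ (n + 1) • (⊤ : Submodule R (Y.obj (op n))) = ⊥) (k : ℕ) :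
    ∃ n, LinearMap.ker (limit.π X (op n)).hom ≤ I ^ k • (⊤ : Submodule R ↑(limit X)) := by
  have hY : ∀ n, Function.Surjective (ARSys.tr Y (Nat.le_succ n)).hom := fun n => (hT n).1
  let f : ∀ n, Y.obj (op (n + 1)) →ₗ[R] Y.obj (op n) := fun n => (ARSys.tr Y (Nat.le_succ n)).hom
  have hker := fun n => ker_proj_le (M := fun n => ↥(Y.obj (op n))) (f := f)
    ⟨fun n => (hT n).2.2, fun n => (hT n).1, fun n => (hT n).2.1, ‹_›⟩ n
  have hπ : ∀ {n n' : ℕ} (h : n ≤ n') (x : ↥(limit X)),
      (ARSys.tr X h).hom ((limit.π X (op n')).hom x) = (limit.π X (op n)).hom x := fun h x =>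
    congrArg (fun φ => φ.hom x) (limit.w X (homOfLE h).op)
  let Θ : ↥(limit X) →ₗ[R] Tower.limMod (M := fun n => ↥(Y.obj (op n))) f :=
    LinearMap.codRestrict _ (LinearMap.pi fun n => (comp a n).hom ∘ₗ (limit.π X (op (m n))).hom)
      fun x n => by
        change (ARSys.tr Y _).hom ((comp a (n + 1)).hom _) = (comp a n).hom _
        rw [← comp_tr, hπ]
  have hinj : Function.Injective Θ := by
    rw [← LinearMap.ker_eq_bot, eq_bot_iff]
    intro x hx
    rw [Submodule.mem_bot]
    refine Concrete.limit_ext X _ _ fun ⟨n⟩ => ?_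
    rw [map_zero]
    obtain ⟨r, hr, b, hb1, -⟩ := exists_back ha n
    have h0 : (comp a r).hom ((limit.π X (op (m r))).hom x) = 0 :=
      congrArg (fun t : Tower.limMod (M := fun n => ↥(Y.obj (op n))) f => t.1 r) (LinearMap.mem_ker.mp hx)
    have h1 : (limit.π X (op (m n))).hom x = 0 := by
      rw [← hπ (hm hr), ← hb1, ModuleCat.hom_comp, LinearMap.comp_apply, h0, map_zero]
    change (limit.π X (op n)).hom x = 0
    rw [← hπ (hle n), h1, map_zero]
  have hsurj : Function.Surjective Θ := by
    intro y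
    choose r hr b hb1 hb2 using exists_back ha
    have hcompat : ∀ {n n' : ℕ} (h : n ≤ n'), (ARSys.tr Y h).hom (y.1 n') = y.1 n := by
      intro n n' h
      induction h with
      | refl => exact tr_self _ _ _
      | @step l h ih => rw [← ih, ← tr_tr Y h (Nat.le_succ l)]; exact congrArg _ (y.2 l)
    have hb : ∀ {n j : ℕ} (hj : r n ≤ j), (b n).hom (y.1 (r n)) =
        (ARSys.tr X (hm ((hr n).trans hj))).hom ((b j).hom (y.1 (r j))) := by
      intro n j hj
      have e1 : (comp a j).hom ((b j).hom (y.1 (r j))) = y.1 j :=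
        (congrArg (fun φ => φ.hom (y.1 (r j))) (hb2 j)).trans (hcompat (hr j))
      have := back_eq ha hY (hr n) (b n) (hb1 n) hj ((b j).hom (y.1 (r j)))
      rw [e1, hcompat hj] at this
      exact this
    let z : ∀ n, X.obj (op n) := fun n => (ARSys.tr X (hle n)).hom ((b n).hom (y.1 (r n)))
    have hz : ∀ {n n' : ℕ} (h : n ≤ n'), (ARSys.tr X h).hom (z n') = z n := by
      intro n n' h
      change (ARSys.tr X h).hom ((ARSys.tr X (hle n')).hom _) = (ARSys.tr X (hle n)).hom _
      rw [hb (le_max_left (r n) (r n')), hb (le_max_right (r n) (r n')), tr_tr, tr_tr, tr_tr]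
    let app : ∀ n : ℕᵒᵖ, ModuleCat.of R R ⟶ X.obj n := fun n =>
      ModuleCat.ofHom (LinearMap.toSpanSingleton R (X.obj n) (z n.unop))
    have hnat : ∀ ⦃i j : ℕᵒᵖ⦄ (g : i ⟶ j),
        ((Functor.const ℕᵒᵖ).obj (ModuleCat.of R R)).map g ≫ app j = app i ≫ X.map g := by
      rintro ⟨n'⟩ ⟨n⟩ g
      refine ModuleCat.hom_ext (LinearMap.ext_ring ?_)
      change (1 : R) • z n = (X.map g).hom ((1 : R) • z n')
      rw [one_smul, one_smul]
      exact (hz g.unop.le).symm
    let c : Cone X := ⟨ModuleCat.of R R, ⟨app, hnat⟩⟩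
    refine ⟨((limit.isLimit X).lift c).hom 1, ?_⟩
    refine Subtype.ext (funext fun n => ?_)
    change (comp a n).hom ((limit.π X (op (m n))).hom _) = y.1 n
    refine (congrArg (comp a n).hom ((congrArg
      (fun φ : ModuleCat.of R R ⟶ X.obj (op (m n)) => φ.hom (1 : R))
      ((limit.isLimit X).fac c (op (m n)))).trans (one_smul R (z (m n))))).trans ?_
    have hj : m n ≤ m (max n (m n)) := hm (le_max_left _ _)
    have e2 : z (m n) = (ARSys.tr X hj).hom ((b (max n (m n))).hom (y.1 (r _))) := by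
      have h3 := hz (show m n ≤ m (max n (m n)) from hj)
      rw [← h3]
      refine congrArg _ ?_
      change (ARSys.tr X _).hom ((b (m (max n (m n)))).hom _) = _
      rw [hb (le_max_left (r (max n (m n))) (r (m (max n (m n))))),
        hb (le_max_right (r (max n (m n))) (r (m (max n (m n))))), tr_tr]
    rw [e2, comp_tr (le_max_left n (m n))]
    have e3 : (comp a (max n (m n))).hom ((b (max n (m n))).hom (y.1 (r (max n (m n))))) =
        y.1 (max n (m n)) :=
      (congrArg (fun φ : Y.obj (op (r (max n (m n)))) ⟶ Y.obj (op (max n (m n))) =>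
        φ.hom (y.1 (r (max n (m n))))) (hb2 _)).trans (hcompat (hr _))
    rw [e3]
    exact hcompat _
  refine ⟨m k, fun x hx => ?_⟩
  have hΘ : Θ x ∈ LinearMap.ker (Tower.proj (M := fun n => ↥(Y.obj (op n))) f k) := by
    rw [LinearMap.mem_ker]
    change (comp a k).hom ((limit.π X (op (m k))).hom x) = 0
    rw [LinearMap.mem_ker.mp hx, map_zero]
  replace hΘ := hker k hΘ
  let E := LinearEquiv.ofBijective Θ ⟨hinj, hsurj⟩
  have hx' : x ∈ (I ^ (k + 1) • (⊤ : Submodule R _)).map E.symm.toLinearMap :=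
    ⟨Θ x, hΘ, E.symm_apply_apply x⟩
  rw [Submodule.map_smul'', Submodule.map_top, LinearMap.range_eq_top.mpr E.symm.surjective] at hx'
  exact Submodule.smul_mono_left (Ideal.pow_le_pow_right (Nat.le_succ k)) hx'

end Groth.Agent.H78.Formal.ProLim
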