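import Groth.Agent.H78.Formal.Canonical
import Groth.Agent.H78.Formal.ProLim

/-!
# Sections of a canonically extendable formal module
-/

set_option linter.style.haveILetI false

universe u

open CategoryTheory Limits AlgebraicGeometry Opposite TopologicalSpace

namespace Groth.Agent.H78.Formal.CanonicalSect

open Groth.Agent.Lib

variable {A : Type u} [CommRing A] {I : Ideal A} (U : (Spec (CommRingCat.of A)).Opens)
  (G : ℕᵒᵖ ⥤ (U : Scheme.{u}).Modules)

/-- The sections are pro-isomorphic to an adic tower of finite modules. -/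
theorem exists_tower (h : _root_.Algz.CanonicallyExtends A I U G) :
    ∃ (Y : ARSys.PS (ModuleCat.{u} A)) (m : ℕ → ℕ) (hm : Monotone m) (_ : ∀ n, n ≤ m n)
      (a : DerCA.reindex (_root_.Algz.sectMod A U G) hm ⟶ Y), DerCA.IsProIso a ∧
      Module.Finite A (Y.obj (op 0)) ∧ ∀ n, Function.Surjective (ARSys.tr Y (Nat.le_succ n)).hom ∧
        LinearMap.ker (ARSys.tr Y (Nat.le_succ n)).hom =
          I ^ (n + 1) • (⊤ : Submodule A (Y.obj (op (n + 1)))) ∧
        I ^ (n + 1) • (⊤ : Submodule A (Y.obj (op n))) = ⊥ := by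
  letI : (Spec (CommRingCat.of A)).Over (Spec (CommRingCat.of A)) := ⟨𝟙 _⟩
  obtain ⟨G', hG', m, hm, hle, a, ha⟩ := h
  let η : 𝟭 _ ≅ tilde.functor (CommRingCat.of A) ⋙ QCoh.Tilde.specΓ (CommRingCat.of A) :=
    tilde.toTildeΓNatIso
  let e : _root_.Algz.sectSys A U G ⋙ QCoh.Tilde.specΓ (CommRingCat.of A) ≅ _root_.Algz.sectMod A U G :=
    Functor.associator _ _ _ ≪≫ Functor.isoWhiskerLeft (_root_.Algz.sectMod A U G) η.symm ≪≫
      Functor.rightUnitor _
  obtain ⟨a', ha'⟩ := Canonical.isProIso_map (QCoh.Tilde.specΓ (CommRingCat.of A)) a e ha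
  exact ⟨G' ⋙ QCoh.Tilde.specΓ (CommRingCat.of A), m, hm, hle, a', ha',
    Algebraize.finite_specΓ (hG'.1 0), fun n => Algebraize.sections_spec G' hG' n⟩

theorem isML (h : _root_.Algz.CanonicallyExtends A I U G) :
    ARSys.IsML (_root_.Algz.sectMod A U G) := by
  obtain ⟨Y, m, hm, hle, a, ha, -, hT⟩ := exists_tower U G h
  exact ProLim.isML ha (fun n => (hT n).1) hle

theorem exists_ker_le [IsNoetherianRing A] (h : _root_.Algz.CanonicallyExtends A I U G) (k : ℕ) :
    ∃ n, LinearMap.ker (limit.π (_root_.Algz.sectMod A U G) (op n)).hom ≤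
      I ^ k • (⊤ : Submodule A ↑(limit (_root_.Algz.sectMod A U G))) := by
  obtain ⟨Y, m, hm, hle, a, ha, hfin, hT⟩ := exists_tower U G h
  haveI := hfin
  exact ProLim.exists_ker_le ha hle hT k

end Groth.Agent.H78.Formal.CanonicalSect
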