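import Groth.Agent.H78.Formal.LimSect
import Groth.Agent.H78.Formal.Algebraize
import Groth.Agent.H78.Formal.Principal

/-!
# Systems in which multiplication by `f` factors through the previous term
-/

set_option linter.style.haveILetI false
set_option linter.unusedSectionVars false

universe u

open CategoryTheory Limits AlgebraicGeometry Opposite TopologicalSpace

namespace Groth.Agent.H78.Formal.FSystem

open Groth.Agent.Lib Groth.Agent.Lib.CohBasics.Affine Groth.Agent.H78.Formal.Sections
  Groth.Agent.H78.Formal.Elem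

variable {A : Type u} [CommRing A] {X : Scheme.{u}} [X.Over (Spec (CommRingCat.of A))] (f : A)
  {G : ℕᵒᵖ ⥤ X.Modules} (i : ∀ n : ℕ, G.obj (op n) ⟶ G.obj (op (n + 1)))
  (hi : ∀ n, G.map (homOfLE (Nat.le_succ n)).op ≫ i n = _root_.Formal.smulMod A (G.obj (op (n + 1))) f)
  (hm : ∀ n, Mono (i n))
  (hw : ∀ n, i n ≫ G.map (homOfLE (Nat.zero_le (n + 1))).op = 0)
  (hS : ∀ n, (ShortComplex.mk (i n) (G.map (homOfLE (Nat.zero_le (n + 1))).op) (hw n)).ShortExact)
  (hq : ∀ n : ℕ, (G.obj (op n)).IsQuasicoherent)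
include hi hm hS hq

variable {U : X.Opens}

lemma i_inj (n : ℕ) (U : X.Opens) : Function.Injective ((i n).app U) :=
  haveI := hm n
  QCoh.Closure.sections_injective_of_mono (i n) U

lemma i_tr (n : ℕ) (x : Γ(G.obj (op (n + 1)), U)) :
    (i n).app U (tr G U (Nat.le_succ n) x) = sMap A U f • x :=
  (app_eq (hi n) U x).trans (smulMod_app _ f U x)

lemma torsion (n : ℕ) (x : Γ(G.obj (op n), U)) : sMap A U f ^ (n + 1) • x = 0 := by
  induction n with
  | zero =>
    rw [zero_add, pow_one]
    have h1 := i_tr f i hi hm hw hS hq 0 (U := U)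
    apply i_inj f i hi hm hw hS hq 0 U
    rw [map_zero]
    rw [(i 0).app_smul, ← h1, ← map_zero ((i 0).app U).hom]
    exact congrArg _ (app_eq (hw 0) U x)
  | succ n ih =>
    rw [pow_succ, mul_smul, ← i_tr f i hi hm hw hS hq n x, ← (i n).app_smul, ih, map_zero]

lemma exists_eq_i (n : ℕ) (_hU : IsAffineOpen U) (x : Γ(G.obj (op (n + 1)), U))
    (hx : tr G U (Nat.zero_le (n + 1)) x = 0) : ∃ y : Γ(G.obj (op n), U), (i n).app U y = x := by
  haveI := hm n
  exact QCoh.Closure.sections_exact (hS n).exact U x hx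

lemma surj_zero (n : ℕ) (hU : IsAffineOpen U) :
    Function.Surjective (tr G U (Nat.zero_le (n + 1))) := by
  haveI := hq
  haveI := (hS n).epi_g
  exact QCoh.Closure.sections_surjective_of_epi (G.map (homOfLE (Nat.zero_le (n + 1))).op) hU

lemma surj (n : ℕ) (hU : IsAffineOpen U) :
    Function.Surjective (tr G U (Nat.le_succ n)) := by
  induction n with
  | zero => exact surj_zero f i hi hm hw hS hq 0 hU
  | succ n ih =>
    -- every element is an image up to a multiple of `f`
    have step : ∀ (j : ℕ) (y : Γ(G.obj (op (n + 1)), U)), ∃ x w,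
        y = tr G U (Nat.le_succ (n + 1)) x + sMap A U f ^ j • w := by
      intro j
      induction j with
      | zero => exact fun y => ⟨0, y, by rw [map_zero, zero_add, pow_zero, one_smul]⟩
      | succ j ihj =>
        intro y
        obtain ⟨x, w, rfl⟩ := ihj y
        obtain ⟨v, hv⟩ := surj_zero f i hi hm hw hS hq (n + 1) hU (tr G U (Nat.zero_le (n + 1)) w)
        obtain ⟨z, hz⟩ := exists_eq_i f i hi hm hw hS hq n hU
          (w - tr G U (Nat.le_succ (n + 1)) v) (by rw [map_sub, tr_tr, hv, sub_self])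
        obtain ⟨z', rfl⟩ := ih z
        rw [i_tr f i hi hm hw hS hq] at hz
        refine ⟨x + sMap A U f ^ j • v, z', ?_⟩
        rw [map_add, map_smul, pow_succ, mul_smul, hz, smul_sub]
        abel
    intro y
    obtain ⟨x, w, hy⟩ := step (n + 2) y
    rw [torsion f i hi hm hw hS hq (n + 1) w, add_zero] at hy
    exact ⟨x, hy.symm⟩

lemma mem_ker (n : ℕ) (hU : IsAffineOpen U) (x : Γ(G.obj (op (n + 1)), U))
    (hx : sMap A U f • x = 0) : ∃ w, x = sMap A U f ^ (n + 1) • w := by
  induction n with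
  | zero =>
    have h0 : tr G U (Nat.zero_le 1) x = 0 := by
      apply i_inj f i hi hm hw hS hq 0 U
      rw [map_zero]
      exact (i_tr f i hi hm hw hS hq 0 x).trans hx
    obtain ⟨y, rfl⟩ := exists_eq_i f i hi hm hw hS hq 0 hU x h0
    obtain ⟨x', rfl⟩ := surj f i hi hm hw hS hq 0 hU y
    exact ⟨x', (i_tr f i hi hm hw hS hq 0 x').trans (congrArg (· • x') (pow_one _).symm)⟩
  | succ n ih =>
    have ht : tr G U (Nat.le_succ (n + 1)) x = 0 := by
      apply i_inj f i hi hm hw hS hq (n + 1) U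
      rw [map_zero, i_tr f i hi hm hw hS hq, hx]
    obtain ⟨y, rfl⟩ := exists_eq_i f i hi hm hw hS hq (n + 1) hU x (by
      rw [← tr_tr G (Nat.zero_le (n + 1)) (Nat.le_succ (n + 1)), ht, map_zero])
    have hy : sMap A U f • y = 0 := by
      apply i_inj f i hi hm hw hS hq (n + 1) U
      rw [map_zero, (i (n + 1)).app_smul, hx]
    obtain ⟨w, rfl⟩ := ih y hy
    obtain ⟨w', rfl⟩ := surj f i hi hm hw hS hq (n + 1) hU w
    refine ⟨w', ?_⟩
    rw [(i (n + 1)).app_smul, i_tr f i hi hm hw hS hq, ← mul_smul, ← pow_succ]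

lemma isQCohFormal : _root_.Formal2.IsQCohFormal (Ideal.span ({f} : Set A)) G := by
  haveI := hq
  have hkill : ∀ n, _root_.Formal.KilledBy (Ideal.span ({f} : Set A) ^ (n + 1)) (G.obj (op n)) := by
    intro n a ha
    rw [Ideal.span_singleton_pow, Ideal.mem_span_singleton'] at ha
    obtain ⟨r, rfl⟩ := ha
    refine hom_ext_affine fun W hW s => ?_
    rw [smulMod_app, map_mul, map_pow, mul_smul, torsion f i hi hm hw hS hq n s, smul_zero]
    rfl
  refine ⟨hq, hkill, fun n => ?_⟩
  refine Sys.exists_isIso_desc (_ : Ideal A) _ (fun W hW => surj f i hi hm hw hS hq n hW) fun W hW s => ?_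
  have hspan : sIdeal (Ideal.span ({f} : Set A) ^ (n + 1)) W = Ideal.span {sMap A W f ^ (n + 1)} := by
    rw [Ideal.span_singleton_pow, sIdeal, Ideal.map_span, Set.image_singleton, map_pow]
  rw [hspan, Submodule.ideal_span_singleton_smul, Submodule.mem_smul_pointwise_iff_exists]
  constructor
  · intro hs
    obtain ⟨w, rfl⟩ := mem_ker f i hi hm hw hS hq n hW s (by
      rw [← i_tr f i hi hm hw hS hq n s]
      exact (congrArg _ hs).trans (map_zero _))
    exact ⟨w, trivial, rfl⟩
  · rintro ⟨w, -, rfl⟩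
    change tr G W (Nat.le_succ n) (sMap A W f ^ (n + 1) • w) = 0
    rw [map_smul]
    exact torsion f i hi hm hw hS hq n _

omit i hi hm hw hS hq in
/-- Such a system is the completion of a module without `f`-torsion. -/
theorem exists_torsionFree (G : ℕᵒᵖ ⥤ X.Modules) (hqc : ∀ n : ℕᵒᵖ, Coh.IsQCoh (G.obj n))
    (h1 : ∀ n : ℕ, ∃ i : G.obj (op n) ⟶ G.obj (op (n + 1)), Mono i ∧
      G.map (homOfLE (Nat.le_succ n)).op ≫ i = _root_.Formal.smulMod A (G.obj (op (n + 1))) f ∧
      ∃ w : i ≫ G.map (homOfLE (Nat.zero_le (n + 1))).op = 0,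
        (ShortComplex.mk i (G.map (homOfLE (Nat.zero_le (n + 1))).op) w).ShortExact) :
    ∃ F : X.Modules, Mono (_root_.Formal.smulMod A F f) ∧
      Nonempty (_root_.Formal.completion (Ideal.span ({f} : Set A)) F ≅ G) := by
  choose i hm hi hw hS using h1
  have hq : ∀ n : ℕ, (G.obj (op n)).IsQuasicoherent := fun n => hqc _
  refine ⟨limit G, ?_, Algebraize.nonempty_completion_iso (fun n => limit.π G (op n))
    (fun n => limit.w G _) fun n => LimSect.exists_isIso_desc ⟨{f}, by simp⟩
      (isQCohFormal f i hi hm hw hS hq) n⟩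
  refine ⟨fun {Z} g g' hgg => ?_⟩
  refine Scheme.Modules.hom_ext _ _ fun V => ConcreteCategory.ext_apply fun s => ?_
  refine LimSect.section_ext G fun n => ?_
  rw [← sub_eq_zero, ← map_sub]
  apply i_inj f i hi hm hw hS hq n V
  rw [map_zero]
  set d := g.app V s - g'.app V s
  have hd : sMap A V f • d = 0 := by
    rw [smul_sub, ← smulMod_app, ← smulMod_app, sub_eq_zero]
    exact app_eq hgg V s
  rw [← app_eq (limit.w G (homOfLE (Nat.le_succ n)).op) V d]
  change (i n).app V (tr G V (Nat.le_succ n) ((limit.π G (op (n + 1))).app V d)) = 0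
  rw [i_tr f i hi hm hw hS hq, ← Scheme.Modules.Hom.app_smul, hd, map_zero]

end Groth.Agent.H78.Formal.FSystem
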