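import Groth.Agent.H78.Formal.Elem
import Groth.Agent.H78.Formal.Model

/-!
# Uniform Artin–Rees constants for morphisms of coherent formal modules
-/

set_option linter.style.haveILetI false

universe u

open CategoryTheory Limits AlgebraicGeometry Opposite TopologicalSpace

namespace Groth.Agent.H78.Formal.Uniform

open Groth.Agent.Lib Groth.Agent.Lib.CohBasics.Affine Groth.Agent.H78.Formal.Sections
  Groth.Agent.H78.Formal.Sys Groth.Agent.H78.Formal.Elem

variable {A : Type u} [CommRing A] {X : Scheme.{u}} [X.Over (Spec (CommRingCat.of A))]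
variable {I : Ideal A} {F G : ℕᵒᵖ ⥤ X.Modules} {U : X.Opens}

lemma isFormalTower (hF : _root_.Formal.IsCohFormal I F) (hU : IsAffineOpen U) :
    Model.IsFormalTower (M := fun n => Γ(F.obj (op n), U)) (sIdeal I U)
      fun n => tr F U (Nat.le_succ n) where
  killed n := killed hF n hU
  surjective n := (succ_spec hF n hU).1
  ker n := Submodule.ext fun s => (succ_spec hF n hU).2 s
  finite := CohBasics.Closure.finite_sections (hF.1 0) hU

lemma tr_compat (z : ∀ n, Γ(F.obj (op n), U)) (hz : ∀ n, tr F U (Nat.le_succ n) (z (n + 1)) = z n)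
    {n m : ℕ} (h : n ≤ m) : tr F U h (z m) = z n := by
  induction h with
  | refl => exact tr_self _ _ _
  | @step m h ih => rw [← tr_tr F h (Nat.le_succ m), hz m, ih]

lemma exists_compat (hF : _root_.Formal.IsCohFormal I F) (hU : IsAffineOpen U) (n : ℕ)
    (s : Γ(F.obj (op n), U)) :
    ∃ z : ∀ m, Γ(F.obj (op m), U), (∀ m, tr F U (Nat.le_succ m) (z (m + 1)) = z m) ∧ z n = s := by
  obtain ⟨z, hz⟩ := Tower.exists_mem_limMod (M := fun m => Γ(F.obj (op m), U)) (fun m => tr F U (Nat.le_succ m))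
    (fun m => (succ_spec hF m hU).1) n s
  exact ⟨z.1, z.2, hz⟩

/-- Kernel elements of `α` lift to every level after a shift by `k`. -/
def KerLift (α : F ⟶ G) (k : ℕ) (U : X.Opens) : Prop :=
  ∀ (n : ℕ) (s : Γ(F.obj (op (n + k)), U)), (α.app (op (n + k))).app U s = 0 →
    ∃ z : ∀ m, Γ(F.obj (op m), U), (∀ m, tr F U (Nat.le_succ m) (z (m + 1)) = z m) ∧
      (∀ m, (α.app (op m)).app U (z m) = 0) ∧ z n = tr F U (Nat.le_add_right n k) s

/-- Compatible sequences killed by `I^c` are determined by their `k`-th component. -/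
def TorBound (I : Ideal A) (F : ℕᵒᵖ ⥤ X.Modules) (c k : ℕ) (U : X.Opens) : Prop :=
  ∀ z : ∀ m, Γ(F.obj (op m), U), (∀ m, tr F U (Nat.le_succ m) (z (m + 1)) = z m) →
    (∀ m, ∀ r ∈ sIdeal I U ^ c, r • z m = 0) → z k = 0 → ∀ m, z m = 0

lemma KerLift.mono {α : F ⟶ G} {k k' : ℕ} (hk : k ≤ k') (h : KerLift α k U) : KerLift α k' U := by
  intro n s hs
  have hle : n + k ≤ n + k' := by omega
  obtain ⟨z, hz, hz0, e⟩ := h n (tr F U hle s) (by rw [app_tr, hs, map_zero])
  exact ⟨z, hz, hz0, by rw [e, tr_tr]⟩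

lemma TorBound.mono {c k k' : ℕ} (hk : k ≤ k') (h : TorBound I F c k U) : TorBound I F c k' U := by
  intro z hz ht h0
  exact h z hz ht (by rw [← tr_compat z hz hk, h0, map_zero])

/-- Compatible sequences in the kernel of `α` vanishing in degree `n + k` lie in `I^(n+1)`. -/
def KerFilt (I : Ideal A) (α : F ⟶ G) (k : ℕ) (U : X.Opens) : Prop :=
  ∀ (n : ℕ) (z : ∀ m, Γ(F.obj (op m), U)), (∀ m, tr F U (Nat.le_succ m) (z (m + 1)) = z m) →
    (∀ m, (α.app (op m)).app U (z m) = 0) → z (n + k) = 0 →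
      ∀ m, z m ∈ sIdeal I U ^ (n + 1) • Submodule.span Γ(X, U)
        {y | ∃ w : ∀ l, Γ(F.obj (op l), U), (∀ l, tr F U (Nat.le_succ l) (w (l + 1)) = w l) ∧
          (∀ l, (α.app (op l)).app U (w l) = 0) ∧ w m = y}

lemma KerFilt.mono {α : F ⟶ G} {k k' : ℕ} (hk : k ≤ k') (h : KerFilt I α k U) :
    KerFilt I α k' U := by
  intro n z hz hz0 h0 m
  exact h n z hz hz0 (by rw [← tr_compat z hz (show n + k ≤ n + k' by omega), h0, map_zero]) m

variable [IsNoetherian X]

lemma exists_kerLift_affine (hF : _root_.Formal.IsCohFormal I F) (hG : _root_.Formal.IsCohFormal I G)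
    (α : F ⟶ G) (hU : IsAffineOpen U) : ∃ k, KerLift α k U := by
  haveI := IsLocallyNoetherian.component_noetherian (X := X) ⟨U, hU⟩
  obtain ⟨k, hk⟩ := Model.exists_kernel_lift (isFormalTower hF hU) (isFormalTower hG hU)
    (fun n => secₗ (α.app (op n)) U) (fun n s => (app_tr α (Nat.le_succ n) s).symm)
  refine ⟨k, fun n s hs => ?_⟩
  obtain ⟨z₀, hz₀, e⟩ := exists_compat hF hU (n + k) s
  obtain ⟨z, hz, hz0, e'⟩ := hk n z₀ hz₀ (by rw [secₗ_apply, e]; exact hs)
  exact ⟨z, hz, hz0, by rw [e', ← tr_compat z₀ hz₀ (Nat.le_add_right n k), e]⟩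

lemma exists_kerLift (hF : _root_.Formal.IsCohFormal I F) (hG : _root_.Formal.IsCohFormal I G)
    (α : F ⟶ G) : ∃ k, ∀ x : X, ∃ U : X.Opens, IsAffineOpen U ∧ x ∈ U ∧ KerLift α k U :=
  exists_uniform (fun U k => KerLift α k U) (fun U m n h => KerLift.mono h)
    fun U hU => exists_kerLift_affine hF hG α hU

/-- A single constant and cover for kernel lifting, from the existence for each affine open. -/
lemma exists_bound (hF : _root_.Formal.IsCohFormal I F) (hG : _root_.Formal.IsCohFormal I G)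
    (α : F ⟶ G) (c : ℕ) :
    ∃ k, c ≤ k ∧ ∀ x : X, ∃ U : X.Opens, IsAffineOpen U ∧ x ∈ U ∧ KerLift α k U ∧ TorBound I F c k U := by
  refine ((exists_uniform (fun U k => c ≤ k ∧ KerLift α k U ∧ TorBound I F c k U)
    (fun U m n h hm => ⟨hm.1.trans h, hm.2.1.mono h, hm.2.2.mono h⟩) fun U hU => ?_)).elim
    fun k hk => ⟨max c k, le_max_left _ _, fun x => ?_⟩
  · haveI := IsLocallyNoetherian.component_noetherian (X := X) ⟨U, hU⟩
    obtain ⟨k₁, h₁'⟩ := exists_kerLift_affine hF hG α hU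
    obtain ⟨k₂, h₂⟩ := Model.exists_torsion_bound (isFormalTower hF hU) c
    exact ⟨max c (max k₁ k₂), le_max_left _ _, h₁'.mono (by omega), TorBound.mono (by omega) h₂⟩
  · obtain ⟨U, hU, hx, -, h₁, h₂⟩ := hk x
    exact ⟨U, hU, hx, h₁.mono (le_max_right _ _), h₂.mono (le_max_right _ _)⟩

lemma exists_kerFilt_affine (hF : _root_.Formal.IsCohFormal I F)
    (hG : _root_.Formal.IsCohFormal I G) (α : F ⟶ G) (hU : IsAffineOpen U) :
    ∃ k, KerFilt I α k U := by
  haveI := IsLocallyNoetherian.component_noetherian (X := X) ⟨U, hU⟩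
  obtain ⟨k, hk⟩ := Model.exists_kernel_filtration (isFormalTower hF hU) (isFormalTower hG hU)
    (fun n => secₗ (α.app (op n)) U) (fun n s => (app_tr α (Nat.le_succ n) s).symm)
  exact ⟨k, hk⟩

/-- Kernel lifting and the filtration bound with one constant and cover. -/
lemma exists_kernel_bound (hF : _root_.Formal.IsCohFormal I F) (hG : _root_.Formal.IsCohFormal I G)
    (α : F ⟶ G) :
    ∃ k, ∀ x : X, ∃ U : X.Opens, IsAffineOpen U ∧ x ∈ U ∧ KerLift α k U ∧ KerFilt I α k U :=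
  exists_uniform (fun U k => KerLift α k U ∧ KerFilt I α k U)
    (fun U m n h hm => ⟨hm.1.mono h, hm.2.mono h⟩) fun U hU => by
      obtain ⟨k₁, h₁⟩ := exists_kerLift_affine hF hG α hU
      obtain ⟨k₂, h₂⟩ := exists_kerFilt_affine hF hG α hU
      exact ⟨max k₁ k₂, h₁.mono (le_max_left _ _), h₂.mono (le_max_right _ _)⟩

end Groth.Agent.H78.Formal.Uniform
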