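import Groth.Agent.H78.Formal.Uniform
import Groth.Agent.H78.Formal.Compl
import Groth.Prelude.Def_Formal2

/-!
# Kernels in the category of coherent formal modules
-/

set_option linter.style.haveILetI false
set_option linter.unusedSectionVars false

universe u

open CategoryTheory Limits AlgebraicGeometry Opposite TopologicalSpace

namespace Groth.Agent.H78.Formal.Kernel

open Groth.Agent.Lib Groth.Agent.Lib.CohBasics.Affine Groth.Agent.H78.Formal.Sections
  Groth.Agent.H78.Formal.Sys Groth.Agent.H78.Formal.Elem Groth.Agent.H78.Formal.Uniform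

variable {A : Type u} [CommRing A] {X : Scheme.{u}} [X.Over (Spec (CommRingCat.of A))]
variable {I : Ideal A} {F G : ℕᵒᵖ ⥤ X.Modules}

/-- Maps to modules killed by `J` factor through `M / J M`. -/
lemma family_comp_eq_zero {J : Ideal A} {M N : X.Modules} (φ : M ⟶ N)
    (h : _root_.Formal.KilledBy J N) : _root_.Formal.smulFamily J M ≫ φ = 0 := by
  apply Sigma.hom_ext
  intro a
  rw [_root_.Formal.smulFamily, Sigma.ι_desc_assoc, comp_zero, smulMod_comp, h a a.2, comp_zero]

variable (α : F ⟶ G) (k : ℕ)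

noncomputable abbrev T (m : ℕ) : kernel (α.app (op (m + k))) ⟶ F.obj (op m) :=
  kernel.ι _ ≫ F.map (homOfLE (Nat.le_add_right m k)).op

/-- The image in level `m` of the kernel in level `m + k`. -/
noncomputable abbrev S (m : ℕ) : X.Modules := Abelian.image (T α k m)

noncomputable abbrev inS (m : ℕ) : S α k m ⟶ F.obj (op m) := Abelian.image.ι (T α k m)

lemma T_comp {m m' : ℕ} (h : m ≤ m') :
    T α k m' ≫ F.map (homOfLE h).op =
      kernel.map _ _ (F.map (homOfLE (Nat.add_le_add_right h k)).op)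
        (G.map (homOfLE (Nat.add_le_add_right h k)).op) (α.naturality _).symm ≫ T α k m := by
  change (kernel.ι _ ≫ _) ≫ _ = _ ≫ kernel.ι _ ≫ _
  rw [kernel.lift_ι_assoc, Category.assoc, Category.assoc, ← F.map_comp, ← F.map_comp]
  rfl

/-- The transition maps of the images. -/
noncomputable def σ {m m' : ℕ} (h : m ≤ m') : S α k m' ⟶ S α k m :=
  kernel.lift _ (inS α k m' ≫ F.map (homOfLE h).op) (by
    rw [← cancel_epi (Abelian.factorThruImage (T α k m')), ← Category.assoc, ← Category.assoc,
      Abelian.image.fac, T_comp, Category.assoc, cokernel.condition, comp_zero, comp_zero])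

lemma σ_inS {m m' : ℕ} (h : m ≤ m') : σ α k h ≫ inS α k m = inS α k m' ≫ F.map (homOfLE h).op :=
  kernel.lift_ι _ _ _

lemma σ_σ {l m m' : ℕ} (h : l ≤ m) (h' : m ≤ m') : σ α k h' ≫ σ α k h = σ α k (h.trans h') := by
  rw [← cancel_mono (inS α k l), Category.assoc, σ_inS, σ_inS, ← Category.assoc, σ_inS,
    Category.assoc, ← F.map_comp]
  rfl

variable [IsNoetherian X] (hF : _root_.Formal.IsCohFormal I F) (hG : _root_.Formal.IsCohFormal I G)
include hF hG

lemma isCoh_S (m : ℕ) : Coh.IsCoh (S α k m) :=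
  haveI := qcoh hF (m + k)
  haveI := qcoh hG (m + k)
  CohBasics.Closure.isCoh_image _ (QCoh.Closure.isQCoh_kernel _) (hF.1 m)

omit hG in
lemma killedBy_S (m : ℕ) : _root_.Formal.KilledBy (I ^ (m + 1)) (S α k m) := by
  intro a ha
  rw [← cancel_mono (inS α k m), smulMod_comp, hF.2.1 m a ha, comp_zero, zero_comp]

lemma exists_section {U : X.Opens} (hU : IsAffineOpen U) (m : ℕ) (y : Γ(S α k m, U)) :
    ∃ x : Γ(F.obj (op (m + k)), U), (α.app (op (m + k))).app U x = 0 ∧
      tr F U (Nat.le_add_right m k) x = (inS α k m).app U y := by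
  haveI := qcoh hF (m + k)
  haveI := qcoh hG (m + k)
  haveI := (isCoh_S α k hF hG m).1
  haveI := QCoh.Closure.isQCoh_kernel (α.app (op (m + k)))
  obtain ⟨t, rfl⟩ := QCoh.Closure.sections_surjective_of_epi (Abelian.factorThruImage (T α k m)) hU y
  exact ⟨_, kernel_app_eq_zero _ t, (app_eq (Abelian.image.fac (T α k m)) U t).symm⟩

omit hF hG in
lemma exists_of_compat {U : X.Opens} (w : ∀ l, Γ(F.obj (op l), U))
    (hw : ∀ l, tr F U (Nat.le_succ l) (w (l + 1)) = w l)
    (hw0 : ∀ l, (α.app (op l)).app U (w l) = 0) (m : ℕ) :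
    ∃ y : Γ(S α k m, U), (inS α k m).app U y = w m := by
  obtain ⟨t, ht⟩ := exists_kernel_section (α.app (op (m + k))) (w (m + k)) (hw0 _)
  refine ⟨(Abelian.factorThruImage (T α k m)).app U t, ?_⟩
  rw [← tr_compat w hw (Nat.le_add_right m k), ← ht]
  exact app_eq (Abelian.image.fac (T α k m)) U t

variable (hk : ∀ x : X, ∃ U : X.Opens, IsAffineOpen U ∧ x ∈ U ∧ KerLift α k U ∧ KerFilt I α k U)
include hk

lemma σ_epi {m m' : ℕ} (h : m ≤ m') : Epi (σ α k h) := by
  haveI := fun m => (isCoh_S α k hF hG m).1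
  refine epi_of_cover _ fun x => ?_
  obtain ⟨U, hU, hx, hl, -⟩ := hk x
  refine ⟨U, hU, hx, fun y => ?_⟩
  obtain ⟨s, hs0, hs⟩ := exists_section α k hF hG hU m y
  obtain ⟨z, hz, hz0, hzm⟩ := hl m s hs0
  obtain ⟨y', hy'⟩ := exists_of_compat α k z hz hz0 m'
  refine ⟨y', QCoh.Closure.sections_injective_of_mono (inS α k m) U ?_⟩
  change _ = (inS α k m).app U y
  rw [← hs, ← hzm, ← tr_compat z hz h, ← hy']
  exact app_eq (σ_inS α k h) U y'

lemma kernel_σ {n m m' : ℕ} (hn : n + k ≤ m) (h : m ≤ m') :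
    kernel.ι (σ α k h) ≫ _root_.Formal.modPowπ I (n + 1) (S α k m') = 0 := by
  haveI := fun m => (isCoh_S α k hF hG m).1
  haveI := QCoh.Closure.isQCoh_kernel (σ α k h)
  refine eq_zero_of_cover _ fun x => ?_
  obtain ⟨U, hU, hx, hl, hf⟩ := hk x
  refine ⟨U, hU, hx, fun t => ?_⟩
  set y := (kernel.ι (σ α k h)).app U t
  change (_root_.Formal.modPowπ I (n + 1) (S α k m')).app U y = 0
  rw [modPowπ_eq_zero_iff I (n + 1) hU]
  obtain ⟨s, hs0, hs⟩ := exists_section α k hF hG hU m' y
  obtain ⟨z, hz, hz0, hzm⟩ := hl m' s hs0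
  have hy : (inS α k m').app U y = z m' := by rw [hzm, hs]
  have hzn : z (n + k) = 0 := by
    rw [← tr_compat z hz (hn.trans h), ← hy, ← tr_tr F hn h,
      show tr F U h ((inS α k m').app U y) = (inS α k m).app U ((σ α k h).app U y) from
        (app_eq (σ_inS α k h) U y).symm, kernel_app_eq_zero, map_zero, map_zero]
  have hmem := hf n z hz hz0 hzn m'
  have hle : sIdeal I U ^ (n + 1) • Submodule.span Γ(X, U)
        {y | ∃ w : ∀ l, Γ(F.obj (op l), U), (∀ l, tr F U (Nat.le_succ l) (w (l + 1)) = w l) ∧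
          (∀ l, (α.app (op l)).app U (w l) = 0) ∧ w m' = y} ≤
      (sIdeal I U ^ (n + 1) • (⊤ : Submodule Γ(X, U) Γ(S α k m', U))).map (secₗ (inS α k m') U) := by
    rw [Submodule.map_smul'', Submodule.map_top]
    refine Submodule.smul_mono le_rfl (Submodule.span_le.mpr ?_)
    rintro _ ⟨w, hw, hw0, rfl⟩
    obtain ⟨y', hy'⟩ := exists_of_compat α k w hw hw0 m'
    exact ⟨y', hy'⟩
  obtain ⟨y', hy'm, hy'⟩ := hle hmem
  rwa [← show y' = y from QCoh.Closure.sections_injective_of_mono (inS α k m') U (hy'.trans hy.symm)]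

omit hk

/-- The transition maps of the kernel. -/
noncomputable def trans (n : ℕ) :
    _root_.Formal.modPow I (n + 1 + 1) (S α k (n + 1 + k)) ⟶
      _root_.Formal.modPow I (n + 1) (S α k (n + k)) :=
  cokernel.desc _ (σ α k (show n + k ≤ n + 1 + k by omega) ≫
    _root_.Formal.modPowπ I (n + 1) (S α k (n + k))) (by
      haveI := (isCoh_S α k hF hG (n + k)).1
      exact family_comp_eq_zero _ fun a ha =>
        Compl.killedBy_modPow I (n + 1) a (Ideal.pow_le_pow_right (Nat.le_succ (n + 1)) ha))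

/-- The kernel. -/
noncomputable def ker : ℕᵒᵖ ⥤ X.Modules :=
  Functor.ofOpSequence (X := fun n => _root_.Formal.modPow I (n + 1) (S α k (n + k)))
    (trans α k hF hG)

/-- The projection to the `n`-th term of the kernel. -/
noncomputable abbrev proj (n : ℕ) : S α k (n + k) ⟶ (ker α k hF hG).obj (op n) :=
  _root_.Formal.modPowπ I (n + 1) (S α k (n + k))

lemma proj_succ (n : ℕ) : proj α k hF hG (n + 1) ≫ (ker α k hF hG).map (homOfLE (Nat.le_succ n)).op =
    σ α k (show n + k ≤ n + 1 + k by omega) ≫ proj α k hF hG n := by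
  simp only [proj, ker, Functor.ofOpSequence_map_homOfLE_succ]
  exact cokernel.π_desc _ _ _

lemma proj_map {n m : ℕ} (h : n ≤ m) :
    proj α k hF hG m ≫ (ker α k hF hG).map (homOfLE h).op =
      σ α k (Nat.add_le_add_right h k) ≫ proj α k hF hG n := by
  induction h with
  | refl =>
    rw [show (homOfLE (le_refl n)).op = 𝟙 (op n) from rfl, CategoryTheory.Functor.map_id,
      Category.comp_id, show σ α k (Nat.add_le_add_right (le_refl n) k) = 𝟙 _ from ?_,
      Category.id_comp]
    rw [← cancel_mono (inS α k (n + k)), σ_inS, Category.id_comp]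
    exact (congrArg (_ ≫ ·) (F.map_id _)).trans (Category.comp_id _)
  | @step m h ih =>
    rw [show (homOfLE (Nat.le.step h : n ≤ m + 1)).op =
      (homOfLE (Nat.le_succ m)).op ≫ (homOfLE h).op from rfl, Functor.map_comp, ← Category.assoc,
      proj_succ, Category.assoc, ih, ← Category.assoc, σ_σ]

instance proj_epi (n : ℕ) : Epi (proj α k hF hG n) :=
  inferInstanceAs (Epi (cokernel.π _))

/-- The components of the inclusion of the kernel. -/
noncomputable def ιapp (n : ℕ) : (ker α k hF hG).obj (op n) ⟶ F.obj (op n) :=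
  cokernel.desc _ (inS α k (n + k) ≫ F.map (homOfLE (Nat.le_add_right n k)).op)
    (family_comp_eq_zero _ (hF.2.1 n))

lemma proj_ιapp (n : ℕ) : proj α k hF hG n ≫ ιapp α k hF hG n =
    inS α k (n + k) ≫ F.map (homOfLE (Nat.le_add_right n k)).op :=
  cokernel.π_desc _ _ _

/-- The inclusion of the kernel. -/
noncomputable def ι : ker α k hF hG ⟶ F :=
  NatTrans.ofOpSequence (ιapp α k hF hG) fun n => by
    haveI := proj_epi α k hF hG (n + 1)
    rw [← cancel_epi (proj α k hF hG (n + 1)), ← Category.assoc, proj_succ, Category.assoc,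
      proj_ιapp, ← Category.assoc, σ_inS, ← Category.assoc (proj α k hF hG (n + 1)), proj_ιapp,
      Category.assoc, Category.assoc, ← F.map_comp, ← F.map_comp]
    rfl

lemma proj_ι (n : ℕ) : proj α k hF hG n ≫ (ι α k hF hG).app (op n) =
    inS α k (n + k) ≫ F.map (homOfLE (Nat.le_add_right n k)).op :=
  proj_ιapp α k hF hG n

lemma ι_comp : ι α k hF hG ≫ α = 0 := by
  ext ⟨n⟩ : 2
  change (ι α k hF hG).app (op n) ≫ α.app (op n) = 0
  haveI := proj_epi α k hF hG n
  rw [← cancel_epi (proj α k hF hG n), ← Category.assoc, proj_ι, comp_zero, Category.assoc,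
    ← cancel_epi (Abelian.factorThruImage (T α k (n + k))), ← Category.assoc, Abelian.image.fac,
    comp_zero, Category.assoc, ← Category.assoc (F.map _) (F.map _), ← F.map_comp,
    ← Category.assoc, Category.assoc, α.naturality, ← Category.assoc, kernel.condition, zero_comp]

include hk

lemma isCohFormal : _root_.Formal.IsCohFormal I (ker α k hF hG) := by
  haveI := fun m => (isCoh_S α k hF hG m).1
  haveI : ∀ n, ((ker α k hF hG).obj (op n)).IsQuasicoherent := fun n => isQCoh_modPow I (n + 1)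
  refine ⟨fun n => isCoh_modPow I (n + 1) (isCoh_S α k hF hG _),
    fun n => Compl.killedBy_modPow I (n + 1), fun n => ?_⟩
  set h : n + k ≤ n + 1 + k := by omega
  haveI := σ_epi α k hF hG hk h
  refine exists_isIso_desc (I ^ (n + 1)) _ (fun U hU w => ?_) fun U hU s => ?_
  · obtain ⟨y, rfl⟩ := modPowπ_surjective (M := S α k (n + k)) I (n + 1) hU w
    obtain ⟨y', rfl⟩ := QCoh.Closure.sections_surjective_of_epi (σ α k h) hU y
    exact ⟨_, app_eq (proj_succ α k hF hG n) U y'⟩
  · obtain ⟨y, hy⟩ := modPowπ_surjective (M := S α k (n + 1 + k)) I (n + 1 + 1) hU s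
    have hy' : (proj α k hF hG (n + 1)).app U y = s := hy
    have hmap : (sIdeal (I ^ (n + 1)) U •
        (⊤ : Submodule Γ(X, U) Γ(S α k (n + 1 + k), U))).map (secₗ (proj α k hF hG (n + 1)) U) =
        sIdeal (I ^ (n + 1)) U • ⊤ := by
      rw [Submodule.map_smul'', Submodule.map_top, LinearMap.range_eq_top.mpr
        (show Function.Surjective (secₗ (proj α k hF hG (n + 1)) U) from modPowπ_surjective I _ hU)]
    rw [← hmap, sIdeal_pow, ← hy']
    have e : ((ker α k hF hG).map (homOfLE (Nat.le_succ n)).op).app U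
        ((proj α k hF hG (n + 1)).app U y) = (proj α k hF hG n).app U ((σ α k h).app U y) :=
      app_eq (proj_succ α k hF hG n) U y
    rw [e, show (proj α k hF hG n).app U ((σ α k h).app U y) = 0 ↔ _ from
      modPowπ_eq_zero_iff I (n + 1) hU _]
    constructor
    · intro hσ
      have hrange : (⊤ : Submodule Γ(X, U) Γ(S α k (n + k), U)) =
          (⊤ : Submodule Γ(X, U) Γ(S α k (n + 1 + k), U)).map (secₗ (σ α k h) U) := by
        rw [Submodule.map_top, LinearMap.range_eq_top.mpr (show Function.Surjective (secₗ (σ α k h) U) from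
          QCoh.Closure.sections_surjective_of_epi (σ α k h) hU)]
      rw [hrange, ← Submodule.map_smul''] at hσ
      obtain ⟨y', hy'm, hy'⟩ := hσ
      obtain ⟨t, ht⟩ := exists_kernel_section (σ α k h) (y - y')
        (by rw [map_sub, sub_eq_zero]; exact hy'.symm)
      have : y - y' ∈ sIdeal I U ^ (n + 1) • (⊤ : Submodule Γ(X, U) Γ(S α k (n + 1 + k), U)) := by
        rw [← modPowπ_eq_zero_iff I (n + 1) hU, ← ht]
        exact (app_eq (kernel_σ α k hF hG hk le_rfl h) U t).trans rfl
      exact ⟨y, by simpa using add_mem this hy'm, rfl⟩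
    · rintro ⟨y', hy'm, hy'⟩
      have : y - y' ∈ sIdeal I U ^ (n + 1 + 1) • (⊤ : Submodule Γ(X, U) Γ(S α k (n + 1 + k), U)) :=
        (modPowπ_eq_zero_iff I (n + 1 + 1) hU _).mp (by
          rw [map_sub, sub_eq_zero]
          exact hy'.symm)
      have h2 := add_mem (Submodule.smul_mono_left (Ideal.pow_le_pow_right (Nat.le_succ (n + 1))) this) hy'm
      rw [sub_add_cancel] at h2
      have h3 := Submodule.mem_map_of_mem (f := secₗ (σ α k h) U) h2
      rw [Submodule.map_smul''] at h3
      exact Submodule.smul_mono le_rfl le_top h3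

omit hk in
/-- The universal property. -/
theorem existsUnique_lift {K : ℕᵒᵖ ⥤ X.Modules} (hK : _root_.Formal.IsCohFormal I K) (β : K ⟶ F)
    (hβ : β ≫ α = 0) : ∃! γ : K ⟶ ker α k hF hG, γ ≫ ι α k hF hG = β := by
  haveI := fun m => (isCoh_S α k hF hG m).1
  haveI : ∀ n, ((ker α k hF hG).obj (op n)).IsQuasicoherent := fun n => isQCoh_modPow I (n + 1)
  have hβn : ∀ m, β.app (op m) ≫ α.app (op m) = 0 := fun m =>
    congrArg (fun χ => NatTrans.app χ (op m)) hβ
  have hl' : ∀ n, ∃ l : K.obj (op (n + k + k)) ⟶ S α k (n + k), l ≫ inS α k (n + k) =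
      β.app (op (n + k + k)) ≫ F.map (homOfLE (Nat.le_add_right (n + k) k)).op := fun n =>
    ⟨kernel.lift _ (β.app (op (n + k + k))) (hβn _) ≫ Abelian.factorThruImage (T α k (n + k)), by
      rw [Category.assoc, Abelian.image.fac, kernel.lift_ι_assoc]⟩
  choose l hl using hl'
  have hle : ∀ n, n ≤ n + k + k := fun n => by omega
  have hd : ∀ n, ∃ γ : K.obj (op n) ⟶ (ker α k hF hG).obj (op n),
      K.map (homOfLE (hle n)).op ≫ γ = l n ≫ proj α k hF hG n := fun n =>
    exists_desc_map hK (hle n) _ (Compl.killedBy_modPow I (n + 1))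
  choose g hg using hd
  let γ : K ⟶ ker α k hF hG := NatTrans.ofOpSequence g fun n => by
    haveI := epi_map hK (hle (n + 1))
    rw [← cancel_epi (K.map (homOfLE (hle (n + 1))).op), reassoc_of% (hg (n + 1)), proj_succ,
      ← Category.assoc, ← K.map_comp]
    have e : K.map ((homOfLE (hle (n + 1))).op ≫ (homOfLE (Nat.le_succ n)).op) =
        K.map (homOfLE (show n + k + k ≤ n + 1 + k + k by omega)).op ≫ K.map (homOfLE (hle n)).op := by
      rw [← K.map_comp]
      rfl
    rw [e, Category.assoc, hg, ← Category.assoc (K.map _) (l n), ← Category.assoc (l (n + 1))]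

    refine congrArg (· ≫ proj α k hF hG n) ?_
    rw [← cancel_mono (inS α k (n + k)), Category.assoc, Category.assoc, σ_inS, hl,
      ← Category.assoc (l (n + 1)), hl, Category.assoc, ← F.map_comp, ← Category.assoc (K.map _),
      β.naturality, Category.assoc, ← F.map_comp]
    rfl
  refine ⟨γ, ?_, fun γ' hγ' => ?_⟩
  · ext ⟨n⟩ : 2
    haveI := epi_map hK (hle n)
    rw [← cancel_epi (K.map (homOfLE (hle n)).op)]
    change K.map _ ≫ g n ≫ (ι α k hF hG).app (op n) = K.map _ ≫ β.app (op n)
    rw [reassoc_of% (hg n), proj_ι, ← Category.assoc, hl, β.naturality, Category.assoc, ← F.map_comp]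
    rfl
  · -- uniqueness
    have h0 : ∀ χ : K ⟶ ker α k hF hG, χ ≫ ι α k hF hG = 0 → χ = 0 := fun χ hχ => by
      ext ⟨n⟩ : 2
      haveI := epi_map hK (Nat.le_add_right n k)
      rw [← cancel_epi (K.map (homOfLE (Nat.le_add_right n k)).op), χ.naturality]
      change χ.app (op (n + k)) ≫ (ker α k hF hG).map (homOfLE (Nat.le_add_right n k)).op =
        K.map _ ≫ (0 : K.obj (op n) ⟶ (ker α k hF hG).obj (op n))
      rw [comp_zero]
      let w : (ker α k hF hG).obj (op (n + k)) ⟶ S α k (n + k) :=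
        cokernel.desc _ (σ α k (Nat.le_add_right (n + k) k))
          (family_comp_eq_zero _ (killedBy_S α k hF (n + k)))
      have hw : proj α k hF hG (n + k) ≫ w = σ α k (Nat.le_add_right (n + k) k) :=
        cokernel.π_desc _ _ _
      haveI := proj_epi α k hF hG (n + k)
      have h1 : w ≫ inS α k (n + k) = (ι α k hF hG).app (op (n + k)) := by
        rw [← cancel_epi (proj α k hF hG (n + k)), reassoc_of% hw, σ_inS, proj_ι]
      have h2 : (ker α k hF hG).map (homOfLE (Nat.le_add_right n k)).op =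
          w ≫ proj α k hF hG n := by
        rw [← cancel_epi (proj α k hF hG (n + k)), proj_map, reassoc_of% hw]
      rw [h2, ← Category.assoc]
      have : χ.app (op (n + k)) ≫ w = 0 := by
        rw [← cancel_mono (inS α k (n + k)), Category.assoc, h1, zero_comp]
        exact congrArg (fun χ => NatTrans.app χ (op (n + k))) hχ
      rw [this, zero_comp]
    refine sub_eq_zero.mp (h0 _ ?_)
    rw [Preadditive.sub_comp, hγ', sub_eq_zero]
    ext ⟨n⟩ : 2
    haveI := epi_map hK (hle n)
    rw [← cancel_epi (K.map (homOfLE (hle n)).op)]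
    change K.map _ ≫ β.app (op n) = K.map _ ≫ g n ≫ (ι α k hF hG).app (op n)
    rw [reassoc_of% (hg n), proj_ι, ← Category.assoc, hl, β.naturality, Category.assoc, ← F.map_comp]
    rfl

end Groth.Agent.H78.Formal.Kernel
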