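import Groth.Agent.H78.Formal.SectLimit

/-!
# Adic quotients of the limit of sections
-/

set_option linter.style.haveILetI false
set_option linter.unusedSectionVars false

universe u

open CategoryTheory Limits AlgebraicGeometry Opposite TopologicalSpace

namespace Groth.Agent.H78.Formal.SectInj

open Groth.Agent.Lib Groth.Agent.H78.Formal.SectTower

/-- Sections of a composition. -/
theorem comp_app_apply {X : Scheme.{u}} {M N P : X.Modules} (φ : M ⟶ N) (ψ : N ⟶ P) (V : X.Opens)
    (s : Γ(M, V)) : (φ ≫ ψ).app V s = ψ.app V (φ.app V s) := rfl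

/-- The associated maps of composable quotient maps compose. -/
theorem tmodMap_comp {A M₁ M₂ M₃ : Type u} [CommRing A] [AddCommGroup M₁] [Module A M₁]
    [AddCommGroup M₂] [Module A M₂] [AddCommGroup M₃] [Module A M₃]
    (g : M₁ →ₗ[A] M₂) (g' : M₂ →ₗ[A] M₃) :
    _root_.Formal2.tmodMap A (g'.comp g) = _root_.Formal2.tmodMap A g ≫ _root_.Formal2.tmodMap A g' :=
  (tilde.functor (CommRingCat.of A)).map_comp (ModuleCat.ofHom g) (ModuleCat.ofHom g')

/-- Quotient maps compose with the transition maps. -/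
theorem factor_comp_quotPowTrans (A : Type u) [CommRing A] (I : Ideal A) (M : Type u) [AddCommGroup M]
    [Module A M] {a b : ℕ} (h : I ^ (b + 1) • (⊤ : Submodule A M) ≤ I ^ (a + 1) • ⊤)
    (h' : I ^ (b + 1 + 1) • (⊤ : Submodule A M) ≤ I ^ (a + 1) • ⊤) :
    Submodule.factor h' = (Submodule.factor h).comp (_root_.Formal2.quotPowTrans A I M b) :=
  Submodule.linearMap_qext _ (LinearMap.ext fun m => by
    simp only [LinearMap.comp_apply, Submodule.mkQ_apply, _root_.Formal2.quotPowTrans,
      Submodule.mapQ_apply, LinearMap.id_apply])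

/-- Sections over a basic open killed by a map which detects a quotient die in that quotient. -/
theorem map_app_eq_zero {R : CommRingCat.{u}} {Q Q' : ModuleCat.{u} R} {N : (Spec R).Modules}
    [N.IsQuasicoherent] (f : R) (ℓ : Q ⟶ (moduleSpecΓFunctor (R := R)).obj N) (t : Q ⟶ Q')
    (hker : ∀ y, ℓ.hom y = 0 → t.hom y = 0)
    (x : Γ(tilde Q, PrimeSpectrum.basicOpen f))
    (hx : ((((tilde.adjunction (R := R)).homEquiv Q N).symm ℓ).app (PrimeSpectrum.basicOpen f)) x = 0) :
    (tilde.map t).app (PrimeSpectrum.basicOpen f) x = 0 := by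
  haveI : IsIso ((tilde.adjunction (R := R)).counit.app N) := Algebraize.isIso_counit _
  let D : (Spec R).Opens := PrimeSpectrum.basicOpen f
  let L := ((modulesSpecToSheaf.map (tilde.map ℓ)).hom.app (op D)).hom
  let L' := ((modulesSpecToSheaf.map (tilde.map t)).hom.app (op D)).hom
  let x' : (modulesSpecToSheaf.obj (tilde Q)).presheaf.obj (op D) := x
  have hLx : L x' = 0 := by
    rw [Adjunction.homEquiv_counit] at hx
    exact (Sections.app_bijective ((tilde.adjunction (R := R)).counit.app N) D).1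
      (hx.trans (map_zero _).symm)
  obtain ⟨⟨y, c⟩, hy⟩ := IsLocalizedModule.surj (.powers f) (tilde.toOpen Q D).hom x'
  have hn : ∀ {P : ModuleCat.{u} R} (g : Q ⟶ P) (y : Q),
      ((modulesSpecToSheaf.map (tilde.map g)).hom.app (op D)).hom ((tilde.toOpen Q D).hom y) =
        (tilde.toOpen P D).hom (g.hom y) := fun g y =>
    congrArg (fun φ => φ.hom y) (tilde.toOpen_map_app g D)
  have h1 : (tilde.toOpen _ D).hom (ℓ.hom y) = 0 := by
    rw [← hn ℓ, ← hy]
    change L ((c : R) • x') = 0
    rw [map_smul, hLx, smul_zero]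
  obtain ⟨c', hc'⟩ := (IsLocalizedModule.eq_zero_iff (.powers f) (tilde.toOpen _ D).hom).mp h1
  have h2 : t.hom ((c' : R) • y) = 0 := hker _ (by rw [map_smul]; exact hc')
  have h3 : ((c' * c : Submonoid.powers f) : R) • L' x' = 0 := by
    rw [Submonoid.coe_mul, mul_smul]
    refine (congrArg ((c' : R) • ·) (map_smul L' (c : R) x').symm).trans ?_
    change (c' : R) • L' (c • x') = 0
    rw [hy]
    change (c' : R) • ((modulesSpecToSheaf.map (tilde.map t)).hom.app (op D)).hom
      ((tilde.toOpen Q D).hom y) = 0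
    rw [hn t, ← map_smul, ← map_smul, h2, map_zero]
  have hu := (Module.End.isUnit_iff _).mp
    (IsLocalizedModule.map_units (tilde.toOpen Q' D).hom (c' * c))
  exact hu.1 (h3.trans (map_zero _).symm)

variable {A : Type u} [CommRing A] [IsNoetherianRing A] {I : Ideal A}
  {U : (Spec (CommRingCat.of A)).Opens} {G : ℕᵒᵖ ⥤ (U : Scheme.{u}).Modules}

/-- The adic quotients of the limit give coherent sheaves on `U`. -/
theorem isCoh_quot (hG : _root_.Formal.IsCohFormal I G) (X : ℕᵒᵖ ⥤ ModuleCat.{u} A) (e : X ⋙ Θ U ≅ G)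
    {n j : ℕ} (hj : LinearMap.ker (limit.π X (op j)).hom ≤
      I ^ (n + 1) • (⊤ : Submodule A ↑(limit X))) :
    Coh.IsCoh ((Θ U).obj (ModuleCat.of A
      (↑(limit X) ⧸ (I ^ (n + 1) • (⊤ : Submodule A ↑(limit X)))))) := by
  haveI : IsLocallyNoetherian (U : Scheme.{u}) := inferInstance
  let π := (limit.π X (op j)).hom
  let P : ModuleCat.{u} A := ModuleCat.of A (LinearMap.range π)
  let i : P ⟶ X.obj (op j) := ModuleCat.ofHom (LinearMap.range π).subtype
  let q : P ⟶ ModuleCat.of A (↑(limit X) ⧸ (I ^ (n + 1) • (⊤ : Submodule A ↑(limit X)))) :=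
    ModuleCat.ofHom (((LinearMap.ker π).mapQ (I ^ (n + 1) • (⊤ : Submodule A ↑(limit X))) LinearMap.id hj).comp π.quotKerEquivRange.symm.toLinearMap)
  haveI := Theta.mono_map (R := CommRingCat.of A) U i Subtype.val_injective
  haveI : ((Θ U).obj P).IsQuasicoherent := Theta.isQCoh_obj U P
  have hP : Coh.IsCoh ((Θ U).obj P) := CohBasics.Closure.isCoh_of_mono ((Θ U).map i)
    (CohBasics.Closure.isCoh_of_iso (e.app (op j)).symm (hG.1 j))
  have hq : Function.Surjective q.hom := fun y => by
    obtain ⟨x, rfl⟩ := (I ^ (n + 1) • (⊤ : Submodule A ↑(limit X))).mkQ_surjective y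
    exact ⟨π.quotKerEquivRange (Submodule.Quotient.mk x),
      congrArg ((LinearMap.ker π).mapQ (I ^ (n + 1) • (⊤ : Submodule A ↑(limit X))) LinearMap.id hj)
        (π.quotKerEquivRange.symm_apply_apply (Submodule.Quotient.mk x))⟩
  haveI := Theta.epi_map (R := CommRingCat.of A) U q hq
  haveI : ((Θ U).obj (ModuleCat.of A
      (↑(limit X) ⧸ (I ^ (n + 1) • (⊤ : Submodule A ↑(limit X)))))).IsQuasicoherent :=
    Theta.isQCoh_obj U _
  exact CohBasics.Closure.isCoh_of_epi ((Θ U).map q) hP

end Groth.Agent.H78.Formal.SectInj
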