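import Groth.Agent.H78.Formal.Theta
import Groth.Agent.H78.Formal.CanonicalSect
import Groth.Prelude.Def_Formal2

/-!
# Systems of sections of a coherent formal module on an open of an affine scheme
-/

set_option linter.style.haveILetI false
set_option linter.unusedSectionVars false

universe u

open CategoryTheory Limits AlgebraicGeometry Opposite TopologicalSpace

namespace Groth.Agent.H78.Formal.SectTower

open Groth.Agent.Lib Groth.Agent.H78.Formal.Sections

variable {A : Type u} [CommRing A] (U : (Spec (CommRingCat.of A)).Opens)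

/-- The sheaf on `U` associated to a module. -/
noncomputable abbrev Θ : ModuleCat.{u} A ⥤ (U : Scheme.{u}).Modules :=
  Theta.Θ (R := CommRingCat.of A) U

lemma isCoh_Θ (M : ModuleCat.{u} A) [Module.Finite A M] : Coh.IsCoh ((Θ U).obj M) :=
  Extend.isCoh_restr U.ι (Algebraize.isCoh_tilde M)

/-- Multiplication on the associated sheaf. -/
lemma smulMod_tilde_eq (M : ModuleCat.{u} A) (a : A) :
    letI : (Spec (CommRingCat.of A)).Over (Spec (CommRingCat.of A)) := ⟨𝟙 _⟩
    _root_.Formal.smulMod A ((tilde.functor (CommRingCat.of A)).obj M) a =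
      (tilde.functor (CommRingCat.of A)).map (ModuleCat.ofHom (a • (LinearMap.id : M →ₗ[A] M))) := by
  letI : (Spec (CommRingCat.of A)).Over (Spec (CommRingCat.of A)) := ⟨𝟙 _⟩
  apply ((QCoh.Tilde.specAdj (CommRingCat.of A)).homEquiv M _).injective
  refine ModuleCat.hom_ext (LinearMap.ext fun m => ?_)
  have h := Algebraize.smulMod_tilde M a _ (𝟙 ((tilde.functor (CommRingCat.of A)).obj M)) m
  rw [Category.comp_id] at h
  rw [h, Adjunction.homEquiv_unit, Adjunction.homEquiv_unit, CategoryTheory.Functor.map_id]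
  erw [Category.comp_id]
  refine Eq.trans ?_ (congrArg (fun φ => φ.hom m) ((QCoh.Tilde.specAdj (CommRingCat.of A)).unit.naturality
    (ModuleCat.ofHom (a • (LinearMap.id : M →ₗ[A] M)))))
  exact (map_smul _ a m).symm

lemma smulMod_Θ (M : ModuleCat.{u} A) (a : A) :
    _root_.Formal.smulMod A ((Θ U).obj M) a =
      (Θ U).map (ModuleCat.ofHom (a • (LinearMap.id : M →ₗ[A] M))) := by
  letI : (Spec (CommRingCat.of A)).Over (Spec (CommRingCat.of A)) := ⟨𝟙 _⟩
  refine (PullSys.map_smulMod (Canonical.hcompat U) (Scheme.Modules.restrictAdjunction U.ι) _ a).symm.trans ?_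
  exact congrArg (Scheme.Modules.restrictFunctor U.ι).map (smulMod_tilde_eq M a)

variable {U}
variable {M N : ModuleCat.{u} A} {F : (U : Scheme.{u}).Modules}

lemma isZero_of_epi_subtype (S : Submodule A M)
    (h : Epi ((Θ U).map (ModuleCat.ofHom S.subtype : ModuleCat.of A S ⟶ M))) :
    IsZero ((Θ U).obj (ModuleCat.of A (M ⧸ S))) := by
  have := Theta.epi_map U (ModuleCat.ofHom S.mkQ : M ⟶ ModuleCat.of A (M ⧸ S)) S.mkQ_surjective
  have e : (Θ U).map (ModuleCat.ofHom S.mkQ : M ⟶ ModuleCat.of A (M ⧸ S)) = 0 := by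
    rw [← cancel_epi ((Θ U).map (ModuleCat.ofHom S.subtype : ModuleCat.of A S ⟶ M)), ← Functor.map_comp,
      show (ModuleCat.ofHom S.subtype : ModuleCat.of A S ⟶ M) ≫ ModuleCat.ofHom S.mkQ = 0 from
        ModuleCat.hom_ext (LinearMap.ext fun x => (Submodule.Quotient.mk_eq_zero _).mpr x.2),
      comp_zero]
    exact Theta.map_zero' (R := CommRingCat.of A) U _ _
  exact Theta.isZero_of_epi_of_eq_zero U _ e

lemma epi_ker_subtype (q : M ⟶ N) (h : (Θ U).map q = 0) :
    Epi ((Θ U).map (ModuleCat.ofHom (LinearMap.ker q.hom).subtype : ModuleCat.of A _ ⟶ M)) := by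
  let S : ShortComplex (ModuleCat.{u} A) := ShortComplex.mk
    (ModuleCat.ofHom (LinearMap.ker q.hom).subtype : ModuleCat.of A _ ⟶ M) q
    (ModuleCat.hom_ext (LinearMap.ext fun x => x.2))
  have hS : S.Exact := (ShortComplex.moduleCat_exact_iff S).mpr fun x hx => ⟨⟨x, hx⟩, rfl⟩
  exact (Theta.exact_map U hS).epi_f h

/-- A factorisation through a surjection transfers epimorphisms to the inclusion of the image. -/
lemma epi_range_subtype (q : M ⟶ N) (h : Epi ((Θ U).map q)) :
    Epi ((Θ U).map (ModuleCat.ofHom (LinearMap.range q.hom).subtype : ModuleCat.of A _ ⟶ N)) := by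
  let p : M ⟶ ModuleCat.of A (LinearMap.range q.hom) := ModuleCat.ofHom q.hom.rangeRestrict
  let j : ModuleCat.of A (LinearMap.range q.hom) ⟶ N := ModuleCat.ofHom (LinearMap.range q.hom).subtype
  haveI : Epi ((Θ U).map p ≫ (Θ U).map j) := by
    rw [← Functor.map_comp, show p ≫ j = q from rfl]
    exact h
  exact epi_of_epi ((Θ U).map p) _

lemma epi_of_range_le {M' : ModuleCat.{u} A} (q : M ⟶ N) (q' : M' ⟶ N)
    (h : LinearMap.range q.hom ≤ LinearMap.range q'.hom) (he : Epi ((Θ U).map q)) :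
    Epi ((Θ U).map q') := by
  let j : ModuleCat.of A (LinearMap.range q'.hom) ⟶ N := ModuleCat.ofHom (LinearMap.range q'.hom).subtype
  let p : M ⟶ ModuleCat.of A (LinearMap.range q'.hom) :=
    ModuleCat.ofHom (q.hom.codRestrict _ fun x => h ⟨x, rfl⟩)
  let p' : M' ⟶ ModuleCat.of A (LinearMap.range q'.hom) := ModuleCat.ofHom q'.hom.rangeRestrict
  haveI : Epi ((Θ U).map p ≫ (Θ U).map j) := by
    rw [← Functor.map_comp, show p ≫ j = q from rfl]
    exact he
  haveI := epi_of_epi ((Θ U).map p) ((Θ U).map j)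
  haveI := Theta.epi_map (R := CommRingCat.of A) U p' q'.hom.surjective_rangeRestrict
  rw [show q' = p' ≫ j from rfl, Functor.map_comp]
  exact epi_comp _ _

lemma finite_range (q : M ⟶ N) (h : Module.Finite A M) : Module.Finite A (LinearMap.range q.hom) :=
  inferInstance

/-- A generating submodule contains a finitely generated generating submodule. -/
lemma exists_fg [IsNoetherianRing A] (hF : Coh.IsCoh F) (e : (Θ U).obj M ≅ F) (P : Submodule A M)
    (hP : Epi ((Θ U).map (ModuleCat.ofHom P.subtype : ModuleCat.of A P ⟶ M))) :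
    ∃ S : Submodule A M, S ≤ P ∧ Module.Finite A S ∧
      Epi ((Θ U).map (ModuleCat.ofHom S.subtype : ModuleCat.of A S ⟶ M)) := by
  haveI := hF.1
  let PM : ModuleCat.{u} A := ModuleCat.of A P
  let ι : PM ⟶ M := ModuleCat.ofHom P.subtype
  haveI : Mono ((Θ U).map ι) := Theta.mono_map U ι Subtype.val_injective
  haveI : Epi ((Θ U).map ι) := hP
  haveI : IsIso ((Θ U).map ι) := isIso_of_mono_of_epi _
  let i : F ⟶ ((tilde.functor (CommRingCat.of A)).obj PM).restrict U.ι := e.inv ≫ inv ((Θ U).map ι)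
  haveI := QCoh.Tilde.isQCoh_tildeFunctor_obj (R := CommRingCat.of A) PM
  obtain ⟨G', i', e', -, hq, hft, he⟩ := Modules.ExtendFT.exists_extension_of_noetherian
    (F := (tilde.functor (CommRingCat.of A)).obj PM)
    (fun x => ⟨⊤, trivial, inferInstance⟩) U F i hF.2
  haveI := hq
  haveI := Algebraize.finite_specΓ ⟨hq, hft⟩
  haveI : IsIso ((Scheme.Modules.restrictFunctor U.ι).map i') := he ▸ inferInstance
  let η := (QCoh.Tilde.sectionsTildeIso (R := CommRingCat.of A)).app PM
  let N₀ : ModuleCat.{u} A := (QCoh.Tilde.specΓ (CommRingCat.of A)).obj G'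
  let φ : N₀ ⟶ (QCoh.Tilde.specΓ (CommRingCat.of A)).obj ((tilde.functor (CommRingCat.of A)).obj PM) :=
    (QCoh.Tilde.specΓ (CommRingCat.of A)).map i'
  haveI := Algebraize.isIso_counit (R := CommRingCat.of A) G'
  haveI := Algebraize.isIso_counit (R := CommRingCat.of A) ((tilde.functor (CommRingCat.of A)).obj PM)
  haveI : IsIso ((Θ U).map φ) := by
    have h1 : (Scheme.Modules.restrictFunctor U.ι).map
        ((tilde.functor (CommRingCat.of A)).map φ ≫ (QCoh.Tilde.specAdj (CommRingCat.of A)).counit.app _) =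
        (Scheme.Modules.restrictFunctor U.ι).map
          ((QCoh.Tilde.specAdj (CommRingCat.of A)).counit.app G' ≫ i') :=
      congrArg (Scheme.Modules.restrictFunctor U.ι).map
        ((QCoh.Tilde.specAdj (CommRingCat.of A)).counit.naturality i')
    rw [Functor.map_comp, Functor.map_comp] at h1
    exact IsIso.of_isIso_fac_right h1
  let ψ : N₀ ⟶ M := (φ ≫ η.inv) ≫ ι
  haveI : Epi ((Θ U).map ψ) := by
    rw [show ψ = (φ ≫ η.inv) ≫ ι from rfl, Functor.map_comp, Functor.map_comp]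
    infer_instance
  refine ⟨LinearMap.range ψ.hom, ?_, @finite_range _ _ _ _ ψ ‹_›, epi_range_subtype ψ inferInstance⟩
  rintro _ ⟨x, rfl⟩
  exact ((φ ≫ η.inv).hom x).2

/-- Elements of a module whose sheaf vanishes on the punctured spectrum are killed by powers. -/
lemma exists_pow_le [IsNoetherianRing A] {𝔞 : Ideal A} {Q : ModuleCat.{u} A}
    (h : IsZero ((Θ (LocCoh.puncturedOpen A 𝔞)).obj Q)) (x : Q) : ∃ m : ℕ, ∀ a ∈ 𝔞 ^ m, a • x = 0 := by
  let J : Ideal A := LinearMap.ker (LinearMap.toSpanSingleton A Q x)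
  have hle : 𝔞 ≤ J.radical := fun f hf => by
    obtain ⟨m, hm⟩ := Theta.exists_pow_smul_eq_zero (R := CommRingCat.of A) _ h (f := f)
      (fun p hp hq => hp (hq hf)) x
    exact ⟨m, hm⟩
  obtain ⟨m, hm⟩ := Ideal.exists_pow_le_of_le_radical_of_fg hle (IsNoetherian.noetherian 𝔞)
  exact ⟨m, fun a ha => hm ha⟩

lemma mono_of_desc {J : Ideal A} {P Q Q' : (U : Scheme.{u}).Modules} (t : P ⟶ Q)
    (h0 : _root_.Formal.smulFamily J P ≫ t = 0) (hi : IsIso (cokernel.desc _ t h0))
    (π : P ⟶ Q') [Epi π] (hπ : _root_.Formal.smulFamily J P ≫ π = 0) (h : Q' ⟶ Q) (hh : π ≫ h = t) :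
    Mono h := by
  haveI := hi
  have e2 : h ≫ inv (cokernel.desc _ t h0) ≫ cokernel.desc _ π hπ = 𝟙 _ := by
    rw [← cancel_epi π, ← Category.assoc, hh, Category.comp_id]
    refine (congrArg (· ≫ _) (cokernel.π_desc _ t h0).symm).trans ?_
    rw [Category.assoc, IsIso.hom_inv_id_assoc, cokernel.π_desc]
  exact (SplitMono.mk _ e2).mono

section System

/-- Compatible generating submodules exist one step at a time. -/
lemma exists_fg_comap [IsNoetherianRing A] (hF : Coh.IsCoh F) (e : (Θ U).obj M ≅ F) (t : M ⟶ N)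
    (S : Submodule A N) (hS : Epi ((Θ U).map (ModuleCat.ofHom S.subtype : ModuleCat.of A S ⟶ N))) :
    ∃ S' : Submodule A M, Module.Finite A S' ∧
      Epi ((Θ U).map (ModuleCat.ofHom S'.subtype : ModuleCat.of A S' ⟶ M)) ∧ ∀ x ∈ S', t.hom x ∈ S := by
  let q : M ⟶ ModuleCat.of A (N ⧸ S) := t ≫ ModuleCat.ofHom S.mkQ
  have hq : (Θ U).map q = 0 := (isZero_of_epi_subtype S hS).eq_of_tgt _ _
  obtain ⟨S', hle, h1, h2⟩ := exists_fg hF e _ (epi_ker_subtype q hq)
  exact ⟨S', h1, h2, fun x hx => (Submodule.Quotient.mk_eq_zero S).mp (LinearMap.mem_ker.mp (hle hx))⟩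

variable [IsNoetherianRing A] {I : Ideal A} {G : ℕᵒᵖ ⥤ (U : Scheme.{u}).Modules}

/-- Finite submodules generating a system, compatible with the transition maps. -/
lemma exists_generating (X : ℕᵒᵖ ⥤ ModuleCat.{u} A) (e : X ⋙ Θ U ≅ G)
    (hG : _root_.Formal.IsCohFormal I G) :
    ∃ S : ∀ n, Submodule A (X.obj (op n)),
      (∀ n, Module.Finite A (S n)) ∧
      (∀ n, Epi ((Θ U).map (ModuleCat.ofHom (S n).subtype : ModuleCat.of A (S n) ⟶ _))) ∧
      ∀ n, ∀ x ∈ S (n + 1), (ARSys.tr X (Nat.le_succ n)).hom x ∈ S n := by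
  let T : ℕ → Type u := fun n => { S : Submodule A (X.obj (op n)) // Module.Finite A S ∧
    Epi ((Θ U).map (ModuleCat.ofHom S.subtype : ModuleCat.of A S ⟶ _)) }
  have h0 : Nonempty (T 0) := by
    have htop : Epi ((Θ U).map (ModuleCat.ofHom (⊤ : Submodule A (X.obj (op 0))).subtype :
        ModuleCat.of A _ ⟶ _)) :=
      Theta.epi_map (R := CommRingCat.of A) U _ fun x => ⟨⟨x, trivial⟩, rfl⟩
    obtain ⟨S, -, h1, h2⟩ := exists_fg (hG.1 0) (e.app (op 0)) ⊤ htop
    exact ⟨⟨S, h1, h2⟩⟩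
  have hs : ∀ n (S : T n), ∃ S' : T (n + 1), ∀ x ∈ S'.1, (ARSys.tr X (Nat.le_succ n)).hom x ∈ S.1 :=
    fun n S => by
      obtain ⟨S', h1, h2, h3⟩ :=
        exists_fg_comap (hG.1 (n + 1)) (e.app (op (n + 1))) (ARSys.tr X (Nat.le_succ n)) S.1 S.2.2
      exact ⟨⟨S', h1, h2⟩, h3⟩
  obtain ⟨S0⟩ := h0
  choose next hnext using hs
  let S : ∀ n, T n := fun n => Nat.rec (motive := T) S0 next n
  exact ⟨fun n => (S n).1, fun n => (S n).2.1, fun n => (S n).2.2, fun n => hnext n (S n)⟩

end System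

section Sections

variable (U) [IsNoetherianRing A] {I : Ideal A} (G : ℕᵒᵖ ⥤ (U : Scheme.{u}).Modules)

lemma nonempty_iso (hG : _root_.Formal.IsCohFormal I G) :
    Nonempty (_root_.Algz.sectMod A U G ⋙ Θ U ≅ G) :=
  Canonical.nonempty_sectSys_restr U G fun n => (hG.1 n.unop).1

lemma killed (hG : _root_.Formal.IsCohFormal I G) (n : ℕ) :
    I ^ (n + 1) • (⊤ : Submodule A ((_root_.Algz.sectMod A U G).obj (op n))) = ⊥ := by
  letI : (Spec (CommRingCat.of A)).Over (Spec (CommRingCat.of A)) := ⟨𝟙 _⟩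
  rw [← le_bot_iff, Submodule.smul_le]
  intro a ha x _
  rw [Submodule.mem_bot]
  refine (Algebraize.smulMod_specΓ ((Scheme.Modules.pushforward U.ι).obj (G.obj (op n))) a x).symm.trans ?_
  rw [← PullSys.smulMod_pushforward (Canonical.hcompat U), hG.2.1 n a ha]
  rfl

lemma epi_Θ_tr {X : ℕᵒᵖ ⥤ ModuleCat.{u} A} (e : X ⋙ Θ U ≅ G) (hG : _root_.Formal.IsCohFormal I G)
    {n m : ℕ} (h : n ≤ m) : Epi ((Θ U).map (ARSys.tr X h)) := by
  haveI := Sys.epi_map hG h
  have e1 : (Θ U).map (ARSys.tr X h) =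
      e.hom.app (op m) ≫ G.map (homOfLE h).op ≫ e.inv.app (op n) := by
    rw [← Category.assoc, ← e.hom.naturality, Category.assoc, Iso.hom_inv_id_app, Category.comp_id]
    rfl
  rw [e1]
  infer_instance

end Sections

section Punctured

variable {I 𝔞 : Ideal A} [IsNoetherianRing A]

/-- A coherent formal module on a punctured spectrum comes from a system of finite modules. -/
theorem exists_module_system (G : ℕᵒᵖ ⥤ (↑(LocCoh.puncturedOpen A 𝔞) : Scheme.{u}).Modules)
    (hG : _root_.Formal.IsCohFormal I G) (X : ℕᵒᵖ ⥤ ModuleCat.{u} A)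
    (e : X ⋙ Θ (LocCoh.puncturedOpen A 𝔞) ≅ G)
    (hX : ∀ n, I ^ (n + 1) • (⊤ : Submodule A (X.obj (op n))) = ⊥) :
    ∃ (M : ℕ → Type u) (_ : ∀ n, AddCommGroup (M n)) (_ : ∀ n, Module A (M n))
      (g : ∀ n, M (n + 1) →ₗ[A] M n),
      (∀ n, Module.Finite A (M n)) ∧ (∀ n, I ^ (n + 1) • (⊤ : Submodule A (M n)) = ⊥) ∧
      (∀ n (x : M (n + 1)), g n x = 0 →
        ∃ m : ℕ, ∀ a ∈ 𝔞 ^ m, a • x ∈ I ^ (n + 1) • (⊤ : Submodule A (M (n + 1)))) ∧
      (∀ n (y : M n), ∃ m : ℕ, ∀ a ∈ 𝔞 ^ m, a • y ∈ LinearMap.range (g n)) ∧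
      Nonempty (G ≅ Functor.ofOpSequence
        (X := fun n => (Scheme.Modules.restrictFunctor (LocCoh.puncturedOpen A 𝔞).ι).obj
          (_root_.Formal2.tmod A (M n)))
        (fun n => (Scheme.Modules.restrictFunctor (LocCoh.puncturedOpen A 𝔞).ι).map
          (_root_.Formal2.tmodMap A (g n)))) := by
  let U := LocCoh.puncturedOpen A 𝔞
  obtain ⟨S, hfin, hepi, hmap⟩ := exists_generating X e hG
  let M : ℕ → Type u := fun n => S n
  let g : ∀ n, M (n + 1) →ₗ[A] M n := fun n =>
    (ARSys.tr X (Nat.le_succ n)).hom.restrict (hmap n)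
  let inc : ∀ n, ModuleCat.of A (M n) ⟶ X.obj (op n) := fun n => ModuleCat.ofHom (S n).subtype
  haveI hiso : ∀ n, IsIso ((Θ U).map (inc n)) := fun n => by
    haveI := hepi n
    haveI := Theta.mono_map U (inc n) Subtype.val_injective
    exact isIso_of_mono_of_epi _
  let F : ℕᵒᵖ ⥤ (U : Scheme.{u}).Modules := Functor.ofOpSequence
    (X := fun n => (Θ U).obj (ModuleCat.of A (M n))) (fun n => (Θ U).map (ModuleCat.ofHom (g n)))
  have key : ∀ n, (Θ U).map (ModuleCat.ofHom (g n)) ≫ (Θ U).map (inc n) ≫ e.hom.app (op n) =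
      ((Θ U).map (inc (n + 1)) ≫ e.hom.app (op (n + 1))) ≫ G.map (homOfLE (Nat.le_succ n)).op := fun n => by
    rw [← Category.assoc, ← Functor.map_comp, Category.assoc, ← e.hom.naturality, ← Category.assoc,
      Functor.comp_map]
    erw [← Functor.map_comp]
    rfl
  let β : F ⟶ G := NatTrans.ofOpSequence (fun n => (Θ U).map (inc n) ≫ e.hom.app (op n)) fun n => by
    simp only [F, Functor.ofOpSequence_map_homOfLE_succ]
    exact key n
  haveI : ∀ n, IsIso (β.app n) := fun n => by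
    change IsIso ((Θ U).map (inc n.unop) ≫ e.hom.app (op n.unop))
    infer_instance
  haveI := NatIso.isIso_of_isIso_app β
  have hF : _root_.Formal.IsCohFormal I F := PullSys.isCohFormal_of_iso (asIso β).symm hG
  have hkill : ∀ n, I ^ (n + 1) • (⊤ : Submodule A (M n)) = ⊥ := fun n => by
    rw [← le_bot_iff, Submodule.smul_le]
    intro a ha x _
    rw [Submodule.mem_bot]
    exact Subtype.ext (by
      have := hX n
      exact (Submodule.mem_bot A).mp (this ▸ Submodule.smul_mem_smul ha trivial))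
  refine ⟨M, inferInstance, inferInstance, g, hfin, hkill, ?_, ?_, ⟨(asIso β).symm⟩⟩
  · intro n x hx
    let J : Submodule A (M (n + 1)) := I ^ (n + 1) • ⊤
    have hJ : J ≤ LinearMap.ker (g n) := by
      rw [Submodule.smul_le]
      intro a ha y _
      rw [LinearMap.mem_ker, map_smul]
      exact (Submodule.mem_bot A).mp (hkill n ▸ Submodule.smul_mem_smul ha trivial)
    let π : ModuleCat.of A (M (n + 1)) ⟶ ModuleCat.of A (M (n + 1) ⧸ J) := ModuleCat.ofHom J.mkQ
    let h : ModuleCat.of A (M (n + 1) ⧸ J) ⟶ ModuleCat.of A (M n) := ModuleCat.ofHom (J.liftQ (g n) hJ)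
    have hπh : π ≫ h = ModuleCat.ofHom (g n) := rfl
    obtain ⟨h0, hi⟩ := hF.2.2 n
    have hπ : _root_.Formal.smulFamily (I ^ (n + 1)) ((Θ U).obj (ModuleCat.of A (M (n + 1)))) ≫
        (Θ U).map π = 0 := (PullSys.family_comp_iff _).mpr fun a ha => by
      rw [smulMod_Θ, ← Functor.map_comp,
        show ModuleCat.ofHom (a • (LinearMap.id : M (n + 1) →ₗ[A] _)) ≫ π = 0 from
          ModuleCat.hom_ext (LinearMap.ext fun y =>
            (Submodule.Quotient.mk_eq_zero _).mpr (Submodule.smul_mem_smul ha trivial))]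
      exact Theta.map_zero' (R := CommRingCat.of A) U _ _
    have hepiπ : Epi ((Θ U).map π) := Theta.epi_map U π J.mkQ_surjective
    haveI : Mono ((Θ U).map h) := @mono_of_desc _ _ _ _ _ _ _ _ h0 hi ((Θ U).map π) hepiπ hπ ((Θ U).map h)
      (((Θ U).map_comp π h).symm.trans ((congrArg (Θ U).map hπh).trans
        (show F.map (homOfLE (Nat.le_succ n)).op = (Θ U).map (ModuleCat.ofHom (g n)) from
          Functor.ofOpSequence_map_homOfLE_succ _ n).symm))
    let K : ModuleCat.{u} A := ModuleCat.of A (LinearMap.ker h.hom)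
    let k : K ⟶ ModuleCat.of A (M (n + 1) ⧸ J) := ModuleCat.ofHom (LinearMap.ker h.hom).subtype
    haveI := Theta.mono_map U k Subtype.val_injective
    have hk : (Θ U).map k = 0 := by
      rw [← cancel_mono ((Θ U).map h), ← Functor.map_comp,
        show k ≫ h = 0 from ModuleCat.hom_ext (LinearMap.ext fun y => y.2), zero_comp]
      exact Theta.map_zero' (R := CommRingCat.of A) U _ _
    have hz : IsZero ((Θ U).obj K) := IsZero.of_mono_eq_zero ((Θ U).map k) hk
    obtain ⟨m, hm⟩ := exists_pow_le hz (⟨Submodule.Quotient.mk x, hx⟩ : K)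
    exact ⟨m, fun a ha => (Submodule.Quotient.mk_eq_zero J).mp (congrArg Subtype.val (hm a ha))⟩
  · intro n y
    let q : ModuleCat.of A (M n) ⟶ ModuleCat.of A (M n ⧸ LinearMap.range (g n)) :=
      ModuleCat.ofHom (LinearMap.range (g n)).mkQ
    haveI := Theta.epi_map U q (LinearMap.range (g n)).mkQ_surjective
    haveI : Epi ((Θ U).map (ModuleCat.ofHom (g n))) := by
      have := Sys.epi_map hF (Nat.le_succ n)
      rwa [show F.map (homOfLE (Nat.le_succ n)).op = (Θ U).map (ModuleCat.ofHom (g n)) from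
        Functor.ofOpSequence_map_homOfLE_succ _ n] at this
    have hq : (Θ U).map q = 0 := by
      rw [← cancel_epi ((Θ U).map (ModuleCat.ofHom (g n))), ← Functor.map_comp,
        show ModuleCat.ofHom (g n) ≫ q = 0 from ModuleCat.hom_ext (LinearMap.ext fun z =>
          (Submodule.Quotient.mk_eq_zero _).mpr (LinearMap.mem_range_self (g n) z)), comp_zero]
      exact Theta.map_zero' (R := CommRingCat.of A) U _ _
    obtain ⟨m, hm⟩ := exists_pow_le (Theta.isZero_of_epi_of_eq_zero U _ hq)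
      (Submodule.Quotient.mk y : ModuleCat.of A (M n ⧸ LinearMap.range (g n)))
    exact ⟨m, fun a ha => (Submodule.Quotient.mk_eq_zero _).mp (hm a ha)⟩

end Punctured

end Groth.Agent.H78.Formal.SectTower
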