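import Groth.Agent.H78.Formal.Canonical
import Groth.Agent.Lib.Modules.Local
import Mathlib.RingTheory.Ideal.Operations

/-!
# Modules of sections and their associated sheaves on an open of an affine scheme
-/

set_option linter.style.haveILetI false
set_option linter.unusedSectionVars false

universe u

open CategoryTheory Limits AlgebraicGeometry Opposite TopologicalSpace

namespace Groth.Agent.H78.Formal.Theta

open Groth.Agent.Lib Groth.Agent.H78.Formal.Sections

variable {R : CommRingCat.{u}} (U : (Spec R).Opens)

/-- The sheaf associated to a module, on the open `U`. -/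
noncomputable abbrev Θ : ModuleCat.{u} R ⥤ (U : Scheme.{u}).Modules :=
  tilde.functor R ⋙ Scheme.Modules.restrictFunctor U.ι

variable {M N P : ModuleCat.{u} R}

lemma epi_map (p : M ⟶ N) (hp : Function.Surjective p.hom) : Epi ((Θ U).map p) := by
  haveI : Epi p := (ModuleCat.epi_iff_surjective p).mpr hp
  haveI := Algebraize.epi_tilde_map p
  exact (Scheme.Modules.restrictFunctor U.ι).map_epi ((tilde.functor R).map p)

lemma mono_map (p : M ⟶ N) (hp : Function.Injective p.hom) : Mono ((Θ U).map p) := by
  haveI : Mono p := (ModuleCat.mono_iff_injective p).mpr hp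
  haveI := QCoh.Tilde.mono_tilde_map p
  haveI := Modules.Local.restrictFunctor_preservesFiniteLimits U.ι
  exact (Scheme.Modules.restrictFunctor U.ι).map_mono ((tilde.functor R).map p)

lemma map_zero' (M N : ModuleCat.{u} R) : (Θ U).map (0 : M ⟶ N) = 0 := by
  haveI : (tilde.functor R).IsLeftAdjoint := (QCoh.Tilde.specAdj R).isLeftAdjoint
  change (Scheme.Modules.restrictFunctor U.ι).map ((tilde.functor R).map 0) = 0
  rw [Functor.map_zero, Functor.map_zero]

lemma isQCoh_obj (M : ModuleCat.{u} R) : ((Θ U).obj M).IsQuasicoherent :=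
  haveI := QCoh.Tilde.isQCoh_tildeFunctor_obj M
  haveI := QCoh.Pullback.isQCoh_pullback U.ι ((tilde.functor R).obj M)
  CohBasics.Closure.isQCoh_of_iso
    ((Scheme.Modules.restrictFunctorIsoPullback U.ι).app ((tilde.functor R).obj M)).symm

lemma image_preimage {V : (Spec R).Opens} (hV : V ≤ U) : U.ι ''ᵁ (U.ι ⁻¹ᵁ V) = V := by
  rw [Scheme.Hom.image_preimage_eq_opensRange_inf, U.opensRange_ι]
  exact inf_eq_right.mpr hV

/-- Sections over an open inside `U` of a sheaf vanishing on `U` vanish. -/
lemma section_eq_zero (h : IsZero ((Θ U).obj M)) {V : (Spec R).Opens} (hV : V ≤ U)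
    (s : Γ(tilde M, V)) : s = 0 := by
  have h2 : (tilde M).presheaf.map (eqToHom (image_preimage U hV)).op s = 0 :=
    Elem.app_eq ((IsZero.iff_id_eq_zero _).mp h) (U.ι ⁻¹ᵁ V)
      ((tilde M).presheaf.map (eqToHom (image_preimage U hV)).op s)
  have hinj : Function.Injective ((tilde M).presheaf.map (eqToHom (image_preimage U hV)).op) :=
    (ConcreteCategory.bijective_of_isIso _).1
  exact hinj (h2.trans (map_zero _).symm)

/-- A sheaf which vanishes on `U` comes from a module whose elements are killed by powers. -/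
lemma exists_pow_smul_eq_zero (h : IsZero ((Θ U).obj M)) {f : R}
    (hf : PrimeSpectrum.basicOpen f ≤ U) (x : M) : ∃ m : ℕ, f ^ m • x = 0 := by
  obtain ⟨c, hc⟩ := (IsLocalizedModule.eq_zero_iff (.powers f)
    (tilde.toOpen M (PrimeSpectrum.basicOpen f)).hom).mp (section_eq_zero U h hf _)
  obtain ⟨m, hm⟩ := c.2
  refine ⟨m, ?_⟩
  rw [show f ^ m = (c : R) from hm]
  exact hc

/-- A surjection whose kernel is killed on `U` gives an isomorphism on `U`, and conversely. -/
lemma exact_map {S : ShortComplex (ModuleCat.{u} R)} (hS : S.Exact) : (S.map (Θ U)).Exact := by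
  haveI := Modules.Local.restrictFunctor_preservesFiniteLimits U.ι
  haveI := Modules.Local.restrictFunctor_preservesHomology U.ι
  exact (hS.map (tilde.functor R)).map (Scheme.Modules.restrictFunctor U.ι)

lemma isZero_of_epi_of_eq_zero {X Y : (U : Scheme.{u}).Modules} (φ : X ⟶ Y) [Epi φ] (h : φ = 0) :
    IsZero Y := by
  subst h
  exact IsZero.of_epi_zero X Y

end Groth.Agent.H78.Formal.Theta
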