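import Groth.Agent.H78.Formal.Sys

/-!
# Formal modules killed by a fixed power of the ideal
-/

set_option linter.style.haveILetI false

universe u

open CategoryTheory Limits AlgebraicGeometry Opposite TopologicalSpace

namespace Groth.Agent.H78.Formal.Torsion

open Groth.Agent.Lib Groth.Agent.Lib.CohBasics.Affine Groth.Agent.H78.Formal.Sections
  Groth.Agent.H78.Formal.Sys

variable {A : Type u} [CommRing A] {X : Scheme.{u}} [X.Over (Spec (CommRingCat.of A))]
variable {I : Ideal A} {F : ℕᵒᵖ ⥤ X.Modules} (hF : _root_.Formal.IsCohFormal I F) {c : ℕ}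
include hF

lemma isIso_map {n m : ℕ} (hc : _root_.Formal.KilledBy (I ^ c) (F.obj (op m))) (hcn : c ≤ n + 1)
    (h : n ≤ m) : IsIso (F.map (homOfLE h).op) := by
  haveI := qcoh hF n
  haveI := qcoh hF m
  refine isIso_of_cover _ fun x => ?_
  obtain ⟨U, hU, hx⟩ := exists_affine x
  refine ⟨U, hU, hx, (injective_iff_map_eq_zero _).mpr fun s hs => ?_, (map_spec hF h hU).1⟩
  rw [(map_spec hF h hU).2] at hs
  have h0 := (killedBy_iff _).mp hc U hU
  rw [sIdeal_pow] at h0
  rw [← Submodule.mem_bot Γ(X, U), ← h0]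
  exact Submodule.smul_mono_left (Ideal.pow_le_pow_right hcn) hs

/-- A formal module killed by `I^c` is the completion of its `c`-th term. -/
theorem exists_completion_iso_of_killed
    (hc : ∀ n : ℕ, _root_.Formal.KilledBy (I ^ c) (F.obj (op n))) :
    Nonempty (_root_.Formal.completion I (F.obj (op c)) ≅ F) := by
  haveI := qcoh hF c
  haveI : ∀ n, IsIso (F.map (homOfLE (Nat.le_add_left c n)).op) := fun n =>
    isIso_map hF (hc _) (Nat.le_succ c) _
  let u : ∀ n, F.obj (op c) ⟶ F.obj (op n) := fun n =>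
    inv (F.map (homOfLE (Nat.le_add_left c n)).op) ≫ F.map (homOfLE (Nat.le_add_right n c)).op
  have e : ∀ n, F.map (homOfLE (show n + c ≤ n + 1 + c by omega)).op ≫
      F.map (homOfLE (Nat.le_add_left c n)).op = F.map (homOfLE (Nat.le_add_left c (n + 1))).op := by
    intro n
    rw [← F.map_comp]
    rfl
  refine (exists_completion_iso hF u (fun n => by
    have := isIso_map hF (hc (n + 1 + c)) (show c ≤ n + c + 1 by omega)
      (show n + c ≤ n + 1 + c by omega)
    change (inv _ ≫ _) ≫ _ = inv _ ≫ _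
    rw [Category.assoc, IsIso.inv_comp_eq]
    rw [← e n, Category.assoc, IsIso.hom_inv_id_assoc, ← F.map_comp, ← F.map_comp]
    rfl) (fun n U hU w => ?_) fun n U hU s => ?_).elim fun β _ => ⟨β⟩
  · obtain ⟨z, rfl⟩ := (map_spec hF (Nat.le_add_right n c) hU).1 w
    obtain ⟨y, hy⟩ := (app_bijective (inv (F.map (homOfLE (Nat.le_add_left c n)).op)) U).2 z
    exact ⟨y, congrArg _ hy⟩
  · set i := inv (F.map (homOfLE (Nat.le_add_left c n)).op)
    have hb := app_bijective i U
    change (F.map (homOfLE (Nat.le_add_right n c)).op).app U (i.app U s) = 0 ↔ _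
    rw [(map_spec hF _ hU).2]
    have hmap : (sIdeal I U ^ (n + 1) • (⊤ : Submodule Γ(X, U) Γ(F.obj (op c), U))).map (secₗ i U) =
        sIdeal I U ^ (n + 1) • ⊤ := by
      rw [Submodule.map_smul'', Submodule.map_top, LinearMap.range_eq_top.mpr (show Function.Surjective (secₗ i U) from hb.2)]
    rw [← hmap]
    exact ⟨fun ⟨t, ht, e⟩ => hb.1 e ▸ ht, fun h => ⟨s, h, rfl⟩⟩

end Groth.Agent.H78.Formal.Torsion
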